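import Cfsg.Agent.OddHalf.D7F4.Extremal
import Cfsg.Agent.OddHalf.D7Out.Front
import Cfsg.Agent.OddHalf.D7Out.TransGen
import Cfsg.Agent.KFacts.F4Perf
import Cfsg.Agent.KFacts.RgdFixU
import Cfsg.Agent.KFacts.RgdAutCent
import Cfsg.Agent.OddHalf.D7Out.FrGen
import Cfsg.Agent.OddHalf.D7F4.Frame

-- merged: Cfsg.Agent.OddHalf.D7F4.Fusion
section

/-!
# Start of fusion for `F4(q)`, `q ≥ 4` even (ODD D7, text #8532 (1); helper588)

`t` an involution, `T` a Sylow 2-subgroup of `C_G(t)`, `Z(T) = ⟨t⟩ X₁ X₂` (`X₁` long, `X₂` short root group), the torus is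
transitive on `X₁#`, `X₂#` and on the mixed elements, `N_G(T)` permutes `X₁` and `X₂` (`Ctx`).

* `exists_moved` : either there is a homomorphism `m : G → {±1}`, `m t = -1`, or `X₁` or `X₂` is moved;
* `moved_or` : `Moved t X₁` or `t` is not conjugate to `t x`, `1 ≠ x ∈ X₁`; the same for `X₂` by `Ctx.symm`.
-/

set_option autoImplicit false

namespace Cfsg.Agent.OddHalf.D7F4.Fusion

open Subgroup

variable {G : Type*} [Group G]

/-- `X` is moved: some element normalising `X` moves `t` inside `t X`. -/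
def Moved (t : G) (X : Subgroup G) : Prop :=
  ∃ n : G, (∀ x ∈ X, n * x * n⁻¹ ∈ X) ∧ (∀ x ∈ X, n⁻¹ * x * n ∈ X) ∧ t * (n * t * n⁻¹) ∈ X ∧ n * t * n⁻¹ ≠ t

/-- `n⁻¹ X n = Y` -/
def Maps (n : G) (X Y : Subgroup G) : Prop := ∀ x, x ∈ X ↔ n⁻¹ * x * n ∈ Y

theorem Maps.inv {n : G} {X Y : Subgroup G} (h : Maps n X Y) : Maps n⁻¹ Y X := by
  intro y
  rw [h (n⁻¹⁻¹ * y * n⁻¹)]
  have e : n⁻¹ * (n⁻¹⁻¹ * y * n⁻¹) * n = y := by group
  rw [e]

theorem Maps.mul {m n : G} {X Y Z : Subgroup G} (h : Maps m X Y) (h' : Maps n Y Z) : Maps (m * n) X Z := by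
  intro x
  rw [h x, h' _]
  have e : n⁻¹ * (m⁻¹ * x * m) * n = (m * n)⁻¹ * x * (m * n) := by group
  rw [e]

/-- The hypotheses. -/
structure Ctx (t : G) (T X₁ X₂ H : Subgroup G) : Prop where
  tt : t * t = 1
  pT : IsPGroup 2 T
  tT : t ∈ T
  Tt : ∀ x ∈ T, x * t = t * x
  odd : Odd (T.relIndex (centralizer ({t} : Set G)))
  X₁T : X₁ ≤ T
  X₂T : X₂ ≤ T
  c₁ : ∀ x ∈ X₁, ∀ y ∈ T, x * y = y * x
  c₂ : ∀ x ∈ X₂, ∀ y ∈ T, x * y = y * x
  sq₁ : ∀ x ∈ X₁, x * x = 1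
  sq₂ : ∀ x ∈ X₂, x * x = 1
  dis : ∀ x, x ∈ X₁ → x ∈ X₂ → x = 1
  Z : ∀ z ∈ T, (∀ y ∈ T, z * y = y * z) → ∃ a ∈ X₁, ∃ b ∈ X₂, z = a * b ∨ z = t * (a * b)
  /-- `t` is not conjugate to an element of `X₁ X₂` -/
  nc : ∀ g : G, ∀ a ∈ X₁, ∀ b ∈ X₂, g⁻¹ * t * g ≠ a * b
  Ht : ∀ h ∈ H, h * t = t * h
  HT : ∀ h ∈ H, Maps h T T
  H₁ : ∀ h ∈ H, Maps h X₁ X₁
  H₂ : ∀ h ∈ H, Maps h X₂ X₂
  Htr : ∀ a ∈ X₁, ∀ b ∈ X₂, ∀ a' ∈ X₁, ∀ b' ∈ X₂, a ≠ 1 → b ≠ 1 → a' ≠ 1 → b' ≠ 1 →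
    ∃ h ∈ H, h⁻¹ * a * h = a' ∧ h⁻¹ * b * h = b'
  big₁ : ∀ a ∈ X₁, ∃ a' ∈ X₁, a' ≠ 1 ∧ a' ≠ a
  big₂ : ∀ a ∈ X₂, ∃ a' ∈ X₂, a' ≠ 1 ∧ a' ≠ a
  perm : ∀ n : G, Maps n T T → (Maps n X₁ X₁ ∧ Maps n X₂ X₂) ∨ (Maps n X₁ X₂ ∧ Maps n X₂ X₁)

namespace Ctx

variable {t : G} {T X₁ X₂ H : Subgroup G}

theorem comm12 (C : Ctx t T X₁ X₂ H) {a b : G} (ha : a ∈ X₁) (hb : b ∈ X₂) : a * b = b * a :=
  C.c₁ a ha b (C.X₂T hb)

theorem symm (C : Ctx t T X₁ X₂ H) : Ctx t T X₂ X₁ H where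
  tt := C.tt
  pT := C.pT
  tT := C.tT
  Tt := C.Tt
  odd := C.odd
  X₁T := C.X₂T
  X₂T := C.X₁T
  c₁ := C.c₂
  c₂ := C.c₁
  sq₁ := C.sq₂
  sq₂ := C.sq₁
  dis := fun x h1 h2 => C.dis x h2 h1
  Z := by
    intro z hz hc
    obtain ⟨a, ha, b, hb, h⟩ := C.Z z hz hc
    refine ⟨b, hb, a, ha, ?_⟩
    rwa [← C.comm12 ha hb]
  nc := by
    intro g a ha b hb h
    exact C.nc g b hb a ha (by rw [h, C.comm12 hb ha])
  Ht := C.Ht
  HT := C.HT
  H₁ := C.H₂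
  H₂ := C.H₁
  Htr := by
    intro a ha b hb a' ha' b' hb' h1 h2 h3 h4
    obtain ⟨h, hh, e1, e2⟩ := C.Htr b hb a ha b' hb' a' ha' h2 h1 h4 h3
    exact ⟨h, hh, e2, e1⟩
  big₁ := C.big₂
  big₂ := C.big₁
  perm := by
    intro n hn
    rcases C.perm n hn with ⟨h1, h2⟩ | ⟨h1, h2⟩
    · exact Or.inl ⟨h2, h1⟩
    · exact Or.inr ⟨h2, h1⟩

/-- transitivity on `X₁#` -/
theorem tr1 (C : Ctx t T X₁ X₂ H) {a a' : G} (ha : a ∈ X₁) (ha' : a' ∈ X₁) (h : a ≠ 1) (h' : a' ≠ 1) :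
    ∃ h ∈ H, h⁻¹ * a * h = a' := by
  obtain ⟨b, hb, hb1, -⟩ := C.big₂ 1 (one_mem _)
  obtain ⟨k, hk, e, -⟩ := C.Htr a ha b hb a' ha' b hb h hb1 h' hb1
  exact ⟨k, hk, e⟩

theorem t_inv (C : Ctx t T X₁ X₂ H) : t⁻¹ = t := inv_eq_of_mul_eq_one_left C.tt

/-- `h⁻¹ t h = t` -/
theorem conj_H (C : Ctx t T X₁ X₂ H) {h : G} (hh : h ∈ H) : h⁻¹ * t * h = t := by
  rw [mul_assoc, ← C.Ht h hh, inv_mul_cancel_left]

/-- A swapping `n` with `t ^ n ∈ t X₁#` gives a non-swapping one. -/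
theorem exists_stay (C : Ctx t T X₁ X₂ H) {n x : G} (hn₁ : Maps n X₁ X₂) (hn₂ : Maps n X₂ X₁) (hx : x ∈ X₁)
    (hx1 : x ≠ 1) (hnx : n⁻¹ * t * n = t * x) : ∃ m, Maps m X₁ X₁ ∧ Maps m X₂ X₂ ∧ m⁻¹ * t * m = t * x := by
  -- `n_z` for `z ∈ X₁#`
  have nz : ∀ z ∈ X₁, z ≠ 1 → ∃ k, Maps k X₁ X₂ ∧ Maps k X₂ X₁ ∧ k⁻¹ * t * k = t * z := by
    intro z hz hz1
    obtain ⟨h, hh, e⟩ := C.tr1 hx hz hx1 hz1
    refine ⟨n * h, hn₁.mul (C.H₂ h hh), hn₂.mul (C.H₁ h hh), ?_⟩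
    calc (n * h)⁻¹ * t * (n * h) = h⁻¹ * (n⁻¹ * t * n) * h := by group
      _ = (h⁻¹ * t * h) * (h⁻¹ * x * h) := by rw [hnx]; group
      _ = t * z := by rw [C.conj_H hh, e]
  have conj : ∀ {p k u v : G}, p⁻¹ * t * p = t * u → k⁻¹ * t * k = t * v →
      (k * p)⁻¹ * t * (k * p) = t * (u * (p⁻¹ * v * p)) := by
    intro p k u v h1 h2
    calc (k * p)⁻¹ * t * (k * p) = p⁻¹ * (k⁻¹ * t * k) * p := by group
      _ = (p⁻¹ * t * p) * (p⁻¹ * v * p) := by rw [h2]; group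
      _ = t * (u * (p⁻¹ * v * p)) := by rw [h1, mul_assoc]
  have ne1 : ∀ {p v : G}, v ≠ 1 → p⁻¹ * v * p ≠ 1 := by
    intro p v hv h
    apply hv
    calc v = p * (p⁻¹ * v * p) * p⁻¹ := by group
      _ = 1 := by rw [h]; group
  -- `p` : non-swapping with `t ^ p = t x y`
  set y := n⁻¹ * x * n with hy
  have hyX : y ∈ X₂ := (hn₁ x).1 hx
  have hp := conj hnx hnx
  rw [← hy] at hp
  set p := n * n with hpd
  have hp₁ : Maps p X₁ X₁ := hn₁.mul hn₂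
  have hp₂ : Maps p X₂ X₂ := hn₂.mul hn₁
  -- `a' ≠ x`
  obtain ⟨a', ha', ha'1, ha'x⟩ := C.big₁ x hx
  have hz0 : p * a' * p⁻¹ ∈ X₁ := by
    have := (hp₁.inv a').1 ha'
    rwa [inv_inv] at this
  have hz01 : p * a' * p⁻¹ ≠ 1 := by
    have := ne1 (p := p⁻¹) ha'1
    rwa [inv_inv] at this
  obtain ⟨k, hk₁, hk₂, hkt⟩ := nz _ hz0 hz01
  have hs := conj hp hkt
  have e1 : p⁻¹ * (p * a' * p⁻¹) * p = a' := by group
  rw [e1] at hs
  have e2 : x * y * a' = (x * a') * y := by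
    have e3 : y * a' = a' * y := (C.comm12 ha' hyX).symm
    calc x * y * a' = x * (y * a') := by group
      _ = x * (a' * y) := by rw [e3]
      _ = (x * a') * y := by group
  rw [e2] at hs
  -- torus
  have hxa : x * a' ≠ 1 := by
    intro h
    apply ha'x
    have h1 : x⁻¹ = a' := inv_eq_of_mul_eq_one_right h
    rw [← h1]
    exact inv_eq_of_mul_eq_one_left (C.sq₁ x hx)
  obtain ⟨h, hh, h1, h2⟩ := C.Htr (x * a') (mul_mem hx ha') y hyX x hx y hyX hxa (ne1 hx1) hx1 (ne1 hx1)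
  have hsh : (k * p * h)⁻¹ * t * (k * p * h) = t * (x * y) := by
    calc (k * p * h)⁻¹ * t * (k * p * h) = h⁻¹ * ((k * p)⁻¹ * t * (k * p)) * h := by group
      _ = (h⁻¹ * t * h) * ((h⁻¹ * (x * a') * h) * (h⁻¹ * y * h)) := by rw [hs]; group
      _ = t * (x * y) := by rw [C.conj_H hh, h1, h2]
  -- `c₀ = k p h p⁻¹` centralises `t` and swaps
  set c := k * p * h * p⁻¹ with hc
  have hct : c⁻¹ * t * c = t := by
    calc c⁻¹ * t * c = p * ((k * p * h)⁻¹ * t * (k * p * h)) * p⁻¹ := by rw [hc]; group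
      _ = p * (t * (x * y)) * p⁻¹ := by rw [hsh]
      _ = p * (p⁻¹ * t * p) * p⁻¹ := by rw [hp]
      _ = t := by group
  have hc₁ : Maps c X₁ X₂ := ((hk₁.mul hp₂).mul (C.H₂ h hh)).mul hp₂.inv
  have hc₂ : Maps c X₂ X₁ := ((hk₂.mul hp₁).mul (C.H₁ h hh)).mul hp₁.inv
  refine ⟨c * n, hc₁.mul hn₂, hc₂.mul hn₁, ?_⟩
  calc (c * n)⁻¹ * t * (c * n) = n⁻¹ * (c⁻¹ * t * c) * n := by group
    _ = t * x := by rw [hct, hnx]

/-- `n ∈ N(T)` with `t ^ n ∈ t X₁#` : `X₁` is moved. -/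
theorem moved_of_norm (C : Ctx t T X₁ X₂ H) {n x : G} (hn : Maps n T T) (hx : x ∈ X₁) (hx1 : x ≠ 1)
    (hnx : n⁻¹ * t * n = t * x) : Moved t X₁ := by
  obtain ⟨m, hm, hmt⟩ : ∃ m, Maps m X₁ X₁ ∧ m⁻¹ * t * m = t * x := by
    rcases C.perm n hn with ⟨h1, h2⟩ | ⟨h1, h2⟩
    · exact ⟨n, h1, hnx⟩
    · obtain ⟨m, h3, -, h5⟩ := C.exists_stay h1 h2 hx hx1 hnx
      exact ⟨m, h3, h5⟩
  refine ⟨m⁻¹, fun y hy => ?_, fun y hy => ?_, ?_, ?_⟩
  · have := (hm y).1 hy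
    rwa [inv_inv]
  · exact (hm.inv y).1 hy
  · rw [inv_inv, hmt, ← mul_assoc, C.tt, one_mul]; exact hx
  · rw [inv_inv, hmt]
    intro h
    exact hx1 (mul_eq_left.1 h)

/-- A conjugate of `t` in `Z(T)` is a conjugate under `N(T)`. -/
theorem exists_norm [Finite G] (C : Ctx t T X₁ X₂ H) {g z : G} (hz : ∀ y ∈ T, z * y = y * z)
    (hg : g⁻¹ * t * g = z) : ∃ n, Maps n T T ∧ n⁻¹ * t * n = z := by
  classical
  have : Fact (Nat.Prime 2) := ⟨Nat.prime_two⟩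
  -- `T` and `g⁻¹ T g` are Sylow subgroups of `C(z)`
  set K : Subgroup G := centralizer ({z} : Set G) with hK
  have hTK : T ≤ K := fun y hy => mem_centralizer_singleton_iff.2 (hz y hy).symm
  set T' : Subgroup G := T.map (MulAut.conj g⁻¹).toMonoidHom with hT'
  have memT' : ∀ y, y ∈ T' ↔ g * y * g⁻¹ ∈ T := by
    intro y
    rw [hT', mem_map]
    constructor
    · rintro ⟨w, hw, rfl⟩
      have e : g * ((MulAut.conj g⁻¹).toMonoidHom w) * g⁻¹ = w := by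
        show g * (g⁻¹ * w * g⁻¹⁻¹) * g⁻¹ = w
        group
      rwa [e]
    · intro h
      refine ⟨_, h, ?_⟩
      show g⁻¹ * (g * y * g⁻¹) * g⁻¹⁻¹ = y
      group
  have hT'K : T' ≤ K := by
    intro y hy
    have h1 := C.Tt _ ((memT' y).1 hy)
    rw [hK, mem_centralizer_singleton_iff, ← hg]
    calc y * (g⁻¹ * t * g) = g⁻¹ * ((g * y * g⁻¹) * t) * g := by group
      _ = g⁻¹ * (t * (g * y * g⁻¹)) * g := by rw [h1]
      _ = g⁻¹ * t * g * y := by group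
  have hcard : Nat.card T' = Nat.card T :=
    (Nat.card_congr (T.equivMapOfInjective _ (MulAut.conj g⁻¹).injective).toEquiv).symm
  have hcardK : Nat.card K = Nat.card (centralizer ({t} : Set G)) := by
    have e : K = (centralizer ({t} : Set G)).map (MulAut.conj g⁻¹).toMonoidHom := by
      ext y
      rw [mem_map]
      constructor
      · intro hy
        refine ⟨g * y * g⁻¹, ?_, by show g⁻¹ * (g * y * g⁻¹) * g⁻¹⁻¹ = y; group⟩
        rw [hK, mem_centralizer_singleton_iff, ← hg] at hy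
        rw [mem_centralizer_singleton_iff]
        calc g * y * g⁻¹ * t = g * (y * (g⁻¹ * t * g)) * g⁻¹ := by group
          _ = g * (g⁻¹ * t * g * y) * g⁻¹ := by rw [hy]
          _ = t * (g * y * g⁻¹) := by group
      · rintro ⟨w, hw, rfl⟩
        rw [mem_centralizer_singleton_iff] at hw
        rw [hK, mem_centralizer_singleton_iff, ← hg]
        show g⁻¹ * w * g⁻¹⁻¹ * (g⁻¹ * t * g) = g⁻¹ * t * g * (g⁻¹ * w * g⁻¹⁻¹)
        calc g⁻¹ * w * g⁻¹⁻¹ * (g⁻¹ * t * g) = g⁻¹ * (w * t) * g := by group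
          _ = g⁻¹ * (t * w) * g := by rw [hw]
          _ = g⁻¹ * t * g * (g⁻¹ * w * g⁻¹⁻¹) := by group
    rw [e]
    exact (Nat.card_congr ((centralizer ({t} : Set G)).equivMapOfInjective _
      (MulAut.conj g⁻¹).injective).toEquiv).symm
  have hTle : T ≤ centralizer ({t} : Set G) := fun y hy => mem_centralizer_singleton_iff.2 (C.Tt y hy)
  have hodd : ∀ S : Subgroup G, S ≤ K → Nat.card S = Nat.card T → ¬ 2 ∣ (S.subgroupOf K).index := by
    intro S hS hc h2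
    have cmr : ∀ A B : Subgroup G, A ≤ B → Nat.card A * A.relIndex B = Nat.card B := by
      intro A B hAB
      have h0 := card_mul_index (A.subgroupOf B)
      rwa [Nat.card_congr (subgroupOfEquivOfLe hAB).toEquiv] at h0
    have h3 : Nat.card S * S.relIndex K = Nat.card K := cmr _ _ hS
    have h4 : Nat.card T * T.relIndex (centralizer ({t} : Set G)) = Nat.card (centralizer ({t} : Set G)) :=
      cmr _ _ hTle
    rw [hc, hcardK, ← h4] at h3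
    have h5 := Nat.eq_of_mul_eq_mul_left Nat.card_pos h3
    have h6 := C.odd
    rw [← h5] at h6
    exact (Nat.not_even_iff_odd.2 h6) (even_iff_two_dvd.2 h2)
  have pS : ∀ S : Subgroup G, IsPGroup 2 S → IsPGroup 2 (S.subgroupOf K) := fun S hS => by
    exact hS.comap_of_injective K.subtype K.subtype_injective
  have pT' : IsPGroup 2 T' := C.pT.map _
  let P : Sylow 2 K := (pS T C.pT).toSylow (hodd T hTK rfl)
  let Q : Sylow 2 K := (pS T' pT').toSylow (hodd T' hT'K hcard)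
  obtain ⟨c, hc⟩ := MulAction.exists_smul_eq K P Q
  have hcmem : ∀ y : G, y ∈ T' ↔ (c : G)⁻¹ * y * c ∈ T := by
    intro y
    have hQ : (Q : Subgroup K) = T'.subgroupOf K := rfl
    have hP : (P : Subgroup K) = T.subgroupOf K := rfl
    have h1 : ∀ k : K, k ∈ (Q : Subgroup K) ↔ c⁻¹ * k * c ∈ (P : Subgroup K) := by
      intro k
      rw [← hc, Sylow.coe_subgroup_smul, mem_pointwise_smul_iff_inv_smul_mem]
      have : (MulAut.conj c)⁻¹ • k = c⁻¹ * k * c := by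
        rw [MulAut.smul_def, ← map_inv, MulAut.conj_apply, inv_inv]
      rw [this]
    constructor
    · intro hy
      have h2 := (h1 ⟨y, hT'K hy⟩).1 (by rw [hQ, mem_subgroupOf]; exact hy)
      rw [hP, mem_subgroupOf] at h2
      exact h2
    · intro hy
      have hyK : y ∈ K := by
        have h3 : (c : G) * ((c : G)⁻¹ * y * c) * (c : G)⁻¹ ∈ K := mul_mem (mul_mem c.2 (hTK hy)) (inv_mem c.2)
        have e : (c : G) * ((c : G)⁻¹ * y * c) * (c : G)⁻¹ = y := by group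
        rwa [e] at h3
      have h2 := (h1 ⟨y, hyK⟩).2 (by rw [hP, mem_subgroupOf]; exact hy)
      rw [hQ, mem_subgroupOf] at h2
      exact h2
  refine ⟨g * c, ?_, ?_⟩
  · intro y
    have e1 : (g * (c : G))⁻¹ * y * (g * c) = (c : G)⁻¹ * (g⁻¹ * y * g) * c := by group
    have e2 : g * (g⁻¹ * y * g) * g⁻¹ = y := by group
    rw [e1, ← hcmem, memT', e2]
  · have hcz : (c : G) * z = z * c := mem_centralizer_singleton_iff.1 c.2
    calc (g * (c : G))⁻¹ * t * (g * c) = (c : G)⁻¹ * (g⁻¹ * t * g) * c := by group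
      _ = (c : G)⁻¹ * (z * c) := by rw [hg, mul_assoc]
      _ = z := by rw [← hcz, inv_mul_cancel_left]

theorem tx_central (C : Ctx t T X₁ X₂ H) {a b : G} (ha : a ∈ X₁) (hb : b ∈ X₂) :
    ∀ y ∈ T, t * (a * b) * y = y * (t * (a * b)) := by
  intro y hy
  have ct : Commute t y := (C.Tt y hy).symm
  have ca : Commute a y := C.c₁ a ha y hy
  have cb : Commute b y := C.c₂ b hb y hy
  exact ct.mul_left (ca.mul_left cb)

/-- **Moved or not moved.** -/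
theorem moved_or [Finite G] (C : Ctx t T X₁ X₂ H) :
    Moved t X₁ ∨ ∀ g : G, ∀ x ∈ X₁, g⁻¹ * t * g = t * x → x = 1 := by
  by_contra hcon
  push Not at hcon
  obtain ⟨h1, g, x, hx, hg, hx1⟩ := hcon
  apply h1
  obtain ⟨n, hn, hnt⟩ := C.exists_norm (g := g) (z := t * x) (by
    have := C.tx_central hx (one_mem X₂)
    rwa [mul_one] at this) hg
  exact C.moved_of_norm hn hx hx1 hnt

/-- **Start of fusion.** -/
theorem exists_moved [Finite G] (C : Ctx t T X₁ X₂ H) (l : T →* ℤˣ) (hl : l ⟨t, C.tT⟩ = -1) :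
    (∃ m : G →* ℤˣ, m t = -1) ∨ Moved t X₁ ∨ Moved t X₂ := by
  classical
  by_cases hD : ∃ n z, Maps n T T ∧ n⁻¹ * t * n = t * z ∧ z ≠ 1 ∧ ∃ a ∈ X₁, ∃ b ∈ X₂, z = a * b
  · right
    obtain ⟨n, z, hn, hnt, hz1, a, ha, b, hb, rfl⟩ := hD
    by_cases ha1 : a = 1
    · right
      rw [ha1, one_mul] at hnt hz1
      exact C.symm.moved_of_norm hn hb hz1 hnt
    by_cases hb1 : b = 1
    · left
      rw [hb1, mul_one] at hnt hz1
      exact C.moved_of_norm hn ha hz1 hnt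
    left
    -- mixed: `a₁ ≠ a`
    obtain ⟨a₁, ha₁, ha₁1, ha₁a⟩ := C.big₁ a ha
    have haa : a * a₁ ≠ 1 := by
      intro h
      apply ha₁a
      have h1 : a⁻¹ = a₁ := inv_eq_of_mul_eq_one_right h
      rw [← h1]
      exact inv_eq_of_mul_eq_one_left (C.sq₁ a ha)
    have ne1 : ∀ {v : G}, v ≠ 1 → n * v * n⁻¹ ≠ 1 := by
      intro v hv h
      apply hv
      calc v = n⁻¹ * (n * v * n⁻¹) * n := by group
        _ = 1 := by rw [h]; group
    -- `h` with `(a b)^h = n (a a₁ b) n⁻¹`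
    obtain ⟨h, hh, e⟩ : ∃ h ∈ H, h⁻¹ * (a * b) * h = n * (a * a₁ * b) * n⁻¹ := by
      rcases C.perm n hn with ⟨h1, h2⟩ | ⟨h1, h2⟩
      · have k1 := (h1.inv _).1 (mul_mem ha ha₁)
        have k2 := (h2.inv _).1 hb
        rw [inv_inv] at k1 k2
        obtain ⟨h, hh, e1, e2⟩ := C.Htr a ha b hb _ k1 _ k2 ha1 hb1 (ne1 haa) (ne1 hb1)
        refine ⟨h, hh, ?_⟩
        calc h⁻¹ * (a * b) * h = (h⁻¹ * a * h) * (h⁻¹ * b * h) := by group
          _ = _ := by rw [e1, e2]; group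
      · have k1 := (h2.inv _).1 (mul_mem ha ha₁)
        have k2 := (h1.inv _).1 hb
        rw [inv_inv] at k1 k2
        obtain ⟨h, hh, e1, e2⟩ := C.Htr a ha b hb _ k2 _ k1 ha1 hb1 (ne1 hb1) (ne1 haa)
        refine ⟨h, hh, ?_⟩
        calc h⁻¹ * (a * b) * h = (h⁻¹ * a * h) * (h⁻¹ * b * h) := by group
          _ = (n * b * n⁻¹) * (n * (a * a₁) * n⁻¹) := by rw [e1, e2]
          _ = n * (b * (a * a₁)) * n⁻¹ := by group
          _ = n * (a * a₁ * b) * n⁻¹ := by rw [C.comm12 (mul_mem ha ha₁) hb]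
    -- `n h n` maps `t` to `t a₁`
    refine C.moved_of_norm (n := n * h * n) (x := a₁) ?_ ha₁ ha₁1 ?_
    · exact (hn.mul (C.HT h hh)).mul hn
    · calc (n * h * n)⁻¹ * t * (n * h * n) = n⁻¹ * (h⁻¹ * (n⁻¹ * t * n) * h) * n := by group
        _ = n⁻¹ * ((h⁻¹ * t * h) * (h⁻¹ * (a * b) * h)) * n := by rw [hnt]; group
        _ = (n⁻¹ * t * n) * (a * a₁ * b) := by rw [C.conj_H hh, e]; group
        _ = t * ((a * b) * (a * a₁ * b)) := by rw [hnt, mul_assoc]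
        _ = t * a₁ := by
          congr 1
          calc a * b * (a * a₁ * b) = a * (b * (a * a₁)) * b := by group
            _ = a * ((a * a₁) * b) * b := by rw [C.comm12 (mul_mem ha ha₁) hb]
            _ = (a * a) * a₁ * (b * b) := by group
            _ = a₁ := by rw [C.sq₁ a ha, C.sq₂ b hb, one_mul, mul_one]
  · left
    push Not at hD
    refine Extremal.exists_hom_of_extremal l C.tt C.tT hl T C.pT (fun x hx => C.Tt x hx) ?_ C.odd
    intro g hgT _ hT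
    have hmaps : Maps g T T := by
      let f : T → T := fun x => ⟨g⁻¹ * x * g, hT x x.2⟩
      have hf : Function.Injective f := by
        rintro ⟨a, ha⟩ ⟨b, hb⟩ hab
        have h1 : g⁻¹ * a * g = g⁻¹ * b * g := congrArg Subtype.val hab
        exact Subtype.ext (mul_left_cancel (mul_right_cancel h1))
      intro x
      refine ⟨hT x, fun hx => ?_⟩
      obtain ⟨⟨y, hy⟩, hfy⟩ := Finite.surjective_of_injective hf ⟨g⁻¹ * x * g, hx⟩
      have h1 : g⁻¹ * y * g = g⁻¹ * x * g := congrArg Subtype.val hfy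
      rw [← mul_left_cancel (mul_right_cancel h1)]
      exact hy
    have hcen : ∀ y ∈ T, g⁻¹ * t * g * y = y * (g⁻¹ * t * g) := by
      intro y hy
      have h1 : g * y * g⁻¹ ∈ T := by
        rw [hmaps]
        have e : g⁻¹ * (g * y * g⁻¹) * g = y := by group
        rwa [e]
      have h2 := C.Tt _ h1
      calc g⁻¹ * t * g * y = g⁻¹ * (t * (g * y * g⁻¹)) * g := by group
        _ = g⁻¹ * ((g * y * g⁻¹) * t) * g := by rw [h2]
        _ = y * (g⁻¹ * t * g) := by group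
    obtain ⟨a, ha, b, hb, h | h⟩ := C.Z _ hgT hcen
    · exact absurd h (C.nc g a ha b hb)
    · refine ⟨1, one_mem _, ?_⟩
      rw [h]
      by_cases h1 : a * b = 1
      · rw [h1]; group
      · exact absurd rfl (hD g (a * b) hmaps h h1 a ha b hb)

end Ctx

theorem maps_of_le [Finite G] {n : G} {X Y : Subgroup G} (h : ∀ x ∈ X, n⁻¹ * x * n ∈ Y)
    (hc : Nat.card X = Nat.card Y) : Maps n X Y := by
  let f : X → Y := fun x => ⟨n⁻¹ * x * n, h x x.2⟩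
  have hf : Function.Injective f := by
    rintro ⟨a, ha⟩ ⟨b, hb⟩ hab
    have h1 : n⁻¹ * a * n = n⁻¹ * b * n := congrArg Subtype.val hab
    exact Subtype.ext (mul_left_cancel (mul_right_cancel h1))
  have hb : Function.Bijective f := (Nat.bijective_iff_injective_and_card f).2 ⟨hf, hc⟩
  intro x
  refine ⟨h x, fun hx => ?_⟩
  obtain ⟨⟨y, hy⟩, hfy⟩ := hb.2 ⟨n⁻¹ * x * n, hx⟩
  have h1 : n⁻¹ * y * n = n⁻¹ * x * n := congrArg Subtype.val hfy
  rw [← mul_left_cancel (mul_right_cancel h1)]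
  exact hy

open scoped commutatorElement in
/-- **`N(T)` permutes `X₁, X₂`**, from the commutators `[g, T]` of the elements of the second centre. -/
theorem perm_of [Finite G] {T X₁ X₂ : Subgroup G} (c₁ : ∀ x ∈ X₁, ∀ y ∈ T, x * y = y * x)
    (c₂ : ∀ x ∈ X₂, ∀ y ∈ T, x * y = y * x) (dis : ∀ x, x ∈ X₁ → x ∈ X₂ → x = 1)
    (card : Nat.card X₁ = Nat.card X₂) (ne : ∃ x ∈ X₁, x ≠ 1)
    (com₁ : X₁ ≤ ⁅T, T⁆) (com₂ : X₂ ≤ ⁅T, T⁆)
    (hZ : ∀ z ∈ ⁅T, T⁆, (∀ y ∈ T, z * y = y * z) → ∃ a ∈ X₁, ∃ b ∈ X₂, z = a * b)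
    (g₁ : ∃ g ∈ T, (∀ x ∈ T, ⁅g, x⁆ ∈ X₁) ∧ ∀ y ∈ X₁, ∃ x ∈ T, ⁅g, x⁆ = y)
    (g₂ : ∃ g ∈ T, (∀ x ∈ T, ⁅g, x⁆ ∈ X₂) ∧ ∀ y ∈ X₂, ∃ x ∈ T, ⁅g, x⁆ = y)
    (h₂ : ∀ g ∈ T, (∀ x ∈ T, ∃ a ∈ X₁, ∃ b ∈ X₂, ⁅g, x⁆ = a * b) → (∀ x ∈ T, ⁅g, x⁆ ∈ X₁) ∨
      (∀ x ∈ T, ⁅g, x⁆ ∈ X₂) ∨ ∀ a ∈ X₁, ∀ b ∈ X₂, ∃ x ∈ T, ⁅g, x⁆ = a * b)
    (n : G) (hn : Maps n T T) : (Maps n X₁ X₁ ∧ Maps n X₂ X₂) ∨ (Maps n X₁ X₂ ∧ Maps n X₂ X₁) := by
  classical
  have ne₂ : ∃ x ∈ X₂, x ≠ 1 := by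
    by_contra hcon
    push Not at hcon
    obtain ⟨x, hx, hx1⟩ := ne
    have h1 : X₂ = ⊥ := (Subgroup.eq_bot_iff_forall _).2 hcon
    rw [h1, Subgroup.card_bot, Subgroup.card_eq_one] at card
    rw [card] at hx
    exact hx1 hx
  have ccom : ∀ a b : G, n⁻¹ * ⁅a, b⁆ * n = ⁅n⁻¹ * a * n, n⁻¹ * b * n⁆ := by
    intro a b
    rw [commutatorElement_def, commutatorElement_def]; group
  have hTT : ∀ z ∈ ⁅T, T⁆, n⁻¹ * z * n ∈ ⁅T, T⁆ := by
    intro z hz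
    have h1 : ⁅T, T⁆ ≤ (⁅T, T⁆ : Subgroup G).comap (MulAut.conj n⁻¹).toMonoidHom := by
      rw [commutator_le]
      intro a ha b hb
      rw [mem_comap]
      have e : (MulAut.conj n⁻¹).toMonoidHom ⁅a, b⁆ = ⁅n⁻¹ * a * n, n⁻¹ * b * n⁆ := by
        show n⁻¹ * ⁅a, b⁆ * n⁻¹⁻¹ = _
        rw [inv_inv, ccom]
      rw [e]
      exact commutator_mem_commutator ((hn a).1 ha) ((hn b).1 hb)
    have h2 := h1 hz
    rw [mem_comap] at h2
    have e : (MulAut.conj n⁻¹).toMonoidHom z = n⁻¹ * z * n := by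
      show n⁻¹ * z * n⁻¹⁻¹ = _
      rw [inv_inv]
    rwa [e] at h2
  have hcen : ∀ z, (∀ y ∈ T, z * y = y * z) → ∀ y ∈ T, n⁻¹ * z * n * y = y * (n⁻¹ * z * n) := by
    intro z hz y hy
    have h1 : n * y * n⁻¹ ∈ T := by
      rw [hn]
      have e : n⁻¹ * (n * y * n⁻¹) * n = y := by group
      rwa [e]
    have h2 := hz _ h1
    calc n⁻¹ * z * n * y = n⁻¹ * (z * (n * y * n⁻¹)) * n := by group
      _ = n⁻¹ * ((n * y * n⁻¹) * z) * n := by rw [h2]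
      _ = y * (n⁻¹ * z * n) := by group
  have hT' : ∀ x ∈ T, n * x * n⁻¹ ∈ T := by
    intro x hx
    rw [hn]
    have e : n⁻¹ * (n * x * n⁻¹) * n = x := by group
    rwa [e]
  -- each `X` (with a witness `g`) is mapped into `X₁` or `X₂`
  have key : ∀ X : Subgroup G, X ≤ ⁅T, T⁆ → (∀ x ∈ X, ∀ y ∈ T, x * y = y * x) → Nat.card X = Nat.card X₁ →
      (∃ g ∈ T, (∀ x ∈ T, ⁅g, x⁆ ∈ X) ∧ ∀ y ∈ X, ∃ x ∈ T, ⁅g, x⁆ = y) →
      (∀ x ∈ X, n⁻¹ * x * n ∈ X₁) ∨ (∀ x ∈ X, n⁻¹ * x * n ∈ X₂) := by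
    rintro X hX hXc hXcard ⟨g, hg, hg1, hg2⟩
    have hgn : ∀ x ∈ T, ⁅n⁻¹ * g * n, x⁆ = n⁻¹ * ⁅g, n * x * n⁻¹⁆ * n := by
      intro x _
      rw [ccom]
      congr 1
      group
    rcases h₂ (n⁻¹ * g * n) ((hn g).1 hg) (fun x hx => by
      rw [hgn x hx]
      have h1 := hg1 _ (hT' x hx)
      exact hZ _ (hTT _ (hX h1)) (hcen _ (hXc _ h1))) with h | h | h
    · left
      intro y hy
      obtain ⟨x, hx, rfl⟩ := hg2 y hy
      rw [ccom]
      exact h _ ((hn x).1 hx)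
    · right
      intro y hy
      obtain ⟨x, hx, rfl⟩ := hg2 y hy
      rw [ccom]
      exact h _ ((hn x).1 hx)
    · exfalso
      have hmem : ∀ a ∈ X₁, ∀ b ∈ X₂, n * (a * b) * n⁻¹ ∈ X := by
        intro a ha b hb
        obtain ⟨x, hx, hxe⟩ := h a ha b hb
        rw [← hxe, hgn x hx]
        have e : n * (n⁻¹ * ⁅g, n * x * n⁻¹⁆ * n) * n⁻¹ = ⁅g, n * x * n⁻¹⁆ := by group
        rw [e]
        exact hg1 _ (hT' x hx)
      let f : X₁ × X₂ → X := fun p => ⟨n * (p.1 * p.2) * n⁻¹, hmem _ p.1.2 _ p.2.2⟩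
      have hf : Function.Injective f := by
        rintro ⟨⟨a, ha⟩, ⟨b, hb⟩⟩ ⟨⟨a', ha'⟩, ⟨b', hb'⟩⟩ hab
        have h1 : n * (a * b) * n⁻¹ = n * (a' * b') * n⁻¹ := congrArg Subtype.val hab
        have h2 : a * b = a' * b' := mul_left_cancel (mul_right_cancel h1)
        have h3 : a'⁻¹ * a = b' * b⁻¹ := by
          calc a'⁻¹ * a = a'⁻¹ * (a * b) * b⁻¹ := by group
            _ = b' * b⁻¹ := by rw [h2]; group
        have h4 : a'⁻¹ * a = 1 := dis _ (mul_mem (inv_mem ha') ha) (by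
          rw [h3]; exact mul_mem hb' (inv_mem hb))
        have h5 : b' * b⁻¹ = 1 := by rw [← h3, h4]
        have h6 : a = a' := (inv_mul_eq_one.1 h4).symm
        have h7 : b = b' := (mul_inv_eq_one.1 h5).symm
        subst h6 h7
        rfl
      have h1 := Nat.card_le_card_of_injective f hf
      rw [Nat.card_prod, hXcard] at h1
      have h2 : 1 < Nat.card X₂ := by
        obtain ⟨x, hx, hx1⟩ := ne₂
        have : Nontrivial X₂ := ⟨⟨x, hx⟩, 1, fun h => hx1 (congrArg Subtype.val h)⟩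
        exact Finite.one_lt_card
      have h3 : 0 < Nat.card X₁ := Nat.card_pos
      nlinarith
  have no : ∀ Y : Subgroup G, (∀ x ∈ X₁, n⁻¹ * x * n ∈ Y) → (∀ x ∈ X₂, n⁻¹ * x * n ∈ Y) →
      Nat.card Y = Nat.card X₁ → False := by
    intro Y h1 h2 hY
    have m1 := maps_of_le h1 hY.symm
    have m2 := maps_of_le h2 (card.symm.trans hY.symm)
    obtain ⟨x, hx, hx1⟩ := ne
    exact hx1 (dis x hx ((m2 x).2 ((m1 x).1 hx)))
  rcases key X₁ com₁ c₁ rfl g₁ with h1 | h1 <;> rcases key X₂ com₂ c₂ card.symm g₂ with h2 | h2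
  · exact absurd (no X₁ h1 h2 rfl) not_false
  · exact Or.inl ⟨maps_of_le h1 rfl, maps_of_le h2 rfl⟩
  · exact Or.inr ⟨maps_of_le h1 card, maps_of_le h2 card.symm⟩
  · exact absurd (no X₂ h1 h2 card.symm) not_false

end Cfsg.Agent.OddHalf.D7F4.Fusion

end

-- merged: Cfsg.Agent.OddHalf.D7F4.FusionOut
section

/-!
# Start of fusion for `F4(q)`, `q ≥ 4` even, with any outer part (ODD D7, texts #8532 (1), #10648, #11098; helper588)

`t` an involution, `K ≤ C(t)` contains all perfect subgroups of `C(t)`, `U` a Sylow 2-subgroup of `K`, `Z(U) ≥ X₁ X₂`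
(`X₁` long, `X₂` short root group), `L ≥ U` a perfect subgroup of `C_K(X₁ X₂)`, `H ≤ C(t) ∩ N(U)` (a torus) transitive on
`X₁#`, `X₂#` and on the mixed elements; `N_G(U)` permutes `X₁` and `X₂` (`Fusion.perm_of`). A Sylow 2-subgroup of
`C_G(t)` does not occur.

* `exists_norm` : if `t` is conjugate to `t a b`, then it is conjugate to `t a b` under `N(U)`;
* `exists_moved` : `X₁` or `X₂` is moved, if `t` is conjugate to some `t a b ≠ t`;
* `moved_or` : `Moved t X₁` or `t` is not conjugate to `t x`, `1 ≠ x ∈ X₁`; the same for `X₂` by `Ctx.symm`;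
* `onto` : if `X₁` is moved, every `t x`, `x ∈ X₁`, is the image of `t` under an element of `N(X₁)`;
* `moved_swap` : if `c ∈ C(t)` maps `X₁` to `X₂`, then `Moved t X₁ ↔ Moved t X₂`.
-/

set_option autoImplicit false

namespace Cfsg.Agent.OddHalf.D7F4.FusionOut

open Subgroup Cfsg.Agent.OddHalf.D7F4.Fusion
open scoped commutatorElement

variable {G : Type*} [Group G]

/-- The hypotheses. -/
structure Ctx (t : G) (K U X₁ X₂ H : Subgroup G) : Prop where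
  tt : t * t = 1
  Kt : ∀ x ∈ K, x * t = t * x
  /-- perfect subgroups of `C(t)` lie in `K` -/
  perf : ∀ L : Subgroup G, (∀ x ∈ L, x * t = t * x) → ⁅L, L⁆ = L → L ≤ K
  UK : U ≤ K
  pU : IsPGroup 2 U
  maxU : ∀ P : Subgroup G, IsPGroup 2 P → U ≤ P → P ≤ K → P ≤ U
  X₁U : X₁ ≤ U
  X₂U : X₂ ≤ U
  c₁ : ∀ x ∈ X₁, ∀ y ∈ U, x * y = y * x
  c₂ : ∀ x ∈ X₂, ∀ y ∈ U, x * y = y * x
  sq₁ : ∀ x ∈ X₁, x * x = 1
  sq₂ : ∀ x ∈ X₂, x * x = 1
  /-- a perfect subgroup of `C_K(X₁ X₂)` containing `U` -/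
  cov : ∃ L : Subgroup G, ⁅L, L⁆ = L ∧ U ≤ L ∧ L ≤ K ∧ (∀ x ∈ X₁, ∀ y ∈ L, x * y = y * x) ∧
    ∀ x ∈ X₂, ∀ y ∈ L, x * y = y * x
  Ht : ∀ h ∈ H, h * t = t * h
  HU : ∀ h ∈ H, Maps h U U
  H₁ : ∀ h ∈ H, Maps h X₁ X₁
  H₂ : ∀ h ∈ H, Maps h X₂ X₂
  Htr : ∀ a ∈ X₁, ∀ b ∈ X₂, ∀ a' ∈ X₁, ∀ b' ∈ X₂, a ≠ 1 → b ≠ 1 → a' ≠ 1 → b' ≠ 1 →
    ∃ h ∈ H, h⁻¹ * a * h = a' ∧ h⁻¹ * b * h = b'
  big₁ : ∀ a ∈ X₁, ∃ a' ∈ X₁, a' ≠ 1 ∧ a' ≠ a
  big₂ : ∀ a ∈ X₂, ∃ a' ∈ X₂, a' ≠ 1 ∧ a' ≠ a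
  perm : ∀ n : G, Maps n U U → (Maps n X₁ X₁ ∧ Maps n X₂ X₂) ∨ (Maps n X₁ X₂ ∧ Maps n X₂ X₁)

theorem card_le_of_max [Finite G] {K U R : Subgroup G} (pU : IsPGroup 2 U) (UK : U ≤ K)
    (maxU : ∀ P : Subgroup G, IsPGroup 2 P → U ≤ P → P ≤ K → P ≤ U) (hR : IsPGroup 2 R) (hRK : R ≤ K) :
    Nat.card R ≤ Nat.card U := by
  have : Fact (Nat.Prime 2) := ⟨Nat.prime_two⟩
  let S : Sylow 2 K := ⟨U.subgroupOf K, pU.comap_of_injective K.subtype K.subtype_injective, by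
    intro P hP hle
    apply le_antisymm _ hle
    have h1 : P.map K.subtype ≤ U := by
      apply maxU _ (hP.map K.subtype)
      · intro y hy
        exact ⟨⟨y, UK hy⟩, hle (by exact hy), rfl⟩
      · rintro _ ⟨y, -, rfl⟩
        exact y.2
    intro y hy
    exact h1 ⟨y, hy, rfl⟩⟩
  obtain ⟨P, hP⟩ := (hR.comap_of_injective K.subtype K.subtype_injective).exists_le_sylow
  have h1 : Nat.card (R.subgroupOf K) = Nat.card R := Nat.card_congr (subgroupOfEquivOfLe hRK).toEquiv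
  have h2 : Nat.card (U.subgroupOf K) = Nat.card U := Nat.card_congr (subgroupOfEquivOfLe UK).toEquiv
  have h3 : Nat.card P = Nat.card S := by
    rw [P.card_eq_multiplicity, S.card_eq_multiplicity]
  have h4 : Nat.card (R.comap K.subtype) ≤ Nat.card P := Subgroup.card_le_of_le hP
  calc Nat.card R = Nat.card (R.comap K.subtype) := h1.symm
    _ ≤ Nat.card P := h4
    _ = Nat.card S := h3
    _ = Nat.card U := h2

theorem mem_map_conj {U : Subgroup G} {g y : G} :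
    y ∈ U.map (MulAut.conj g).toMonoidHom ↔ g⁻¹ * y * g ∈ U := by
  rw [mem_map]
  constructor
  · rintro ⟨w, hw, rfl⟩
    have e : g⁻¹ * ((MulAut.conj g).toMonoidHom w) * g = w := by
      show g⁻¹ * (g * w * g⁻¹) * g = w
      group
    rwa [e]
  · intro h
    refine ⟨_, h, ?_⟩
    show g * (g⁻¹ * y * g) * g⁻¹ = y
    group

namespace Ctx

variable {t : G} {K U X₁ X₂ H : Subgroup G}

theorem comm12 (C : Ctx t K U X₁ X₂ H) {a b : G} (ha : a ∈ X₁) (hb : b ∈ X₂) : a * b = b * a :=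
  C.c₁ a ha b (C.X₂U hb)

theorem symm (C : Ctx t K U X₁ X₂ H) : Ctx t K U X₂ X₁ H where
  tt := C.tt
  Kt := C.Kt
  perf := C.perf
  UK := C.UK
  pU := C.pU
  maxU := C.maxU
  X₁U := C.X₂U
  X₂U := C.X₁U
  c₁ := C.c₂
  c₂ := C.c₁
  sq₁ := C.sq₂
  sq₂ := C.sq₁
  cov := by
    obtain ⟨L, h1, h2, h3, h4, h5⟩ := C.cov
    exact ⟨L, h1, h2, h3, h5, h4⟩
  Ht := C.Ht
  HU := C.HU
  H₁ := C.H₂
  H₂ := C.H₁
  Htr := by
    intro a ha b hb a' ha' b' hb' h1 h2 h3 h4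
    obtain ⟨h, hh, e1, e2⟩ := C.Htr b hb a ha b' hb' a' ha' h2 h1 h4 h3
    exact ⟨h, hh, e2, e1⟩
  big₁ := C.big₂
  big₂ := C.big₁
  perm := by
    intro n hn
    rcases C.perm n hn with ⟨h1, h2⟩ | ⟨h1, h2⟩
    · exact Or.inl ⟨h2, h1⟩
    · exact Or.inr ⟨h2, h1⟩

/-- transitivity on `X₁#` -/
theorem tr1 (C : Ctx t K U X₁ X₂ H) {a a' : G} (ha : a ∈ X₁) (ha' : a' ∈ X₁) (h : a ≠ 1) (h' : a' ≠ 1) :
    ∃ h ∈ H, h⁻¹ * a * h = a' := by
  obtain ⟨b, hb, hb1, -⟩ := C.big₂ 1 (one_mem _)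
  obtain ⟨k, hk, e, -⟩ := C.Htr a ha b hb a' ha' b hb h hb1 h' hb1
  exact ⟨k, hk, e⟩

theorem t_inv (C : Ctx t K U X₁ X₂ H) : t⁻¹ = t := inv_eq_of_mul_eq_one_left C.tt

/-- `h⁻¹ t h = t` -/
theorem conj_H (C : Ctx t K U X₁ X₂ H) {h : G} (hh : h ∈ H) : h⁻¹ * t * h = t := by
  rw [mul_assoc, ← C.Ht h hh, inv_mul_cancel_left]

/-- **Norm lemma.** A conjugate `t a b` of `t` is a conjugate under `N(U)`. -/
theorem exists_norm [Finite G] (C : Ctx t K U X₁ X₂ H) {g a b : G} (ha : a ∈ X₁) (hb : b ∈ X₂)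
    (hg : g⁻¹ * t * g = t * (a * b)) : ∃ n, Maps n U U ∧ n⁻¹ * t * n = t * (a * b) := by
  obtain ⟨L, hL, hUL, hLK, hL1, hL2⟩ := C.cov
  have hLt : ∀ x ∈ L, x * t = t * x := fun x hx => C.Kt x (hLK hx)
  -- `g L g⁻¹ ≤ K`
  have hgL : L.map (MulAut.conj g).toMonoidHom ≤ K := by
    apply C.perf
    · intro x hx
      rw [mem_map_conj] at hx
      have k1 : Commute (g⁻¹ * x * g) t := hLt _ hx
      have k2 : Commute (g⁻¹ * x * g) a := (hL1 a ha _ hx).symm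
      have k3 : Commute (g⁻¹ * x * g) b := (hL2 b hb _ hx).symm
      have h1 : Commute (g⁻¹ * x * g) (t * (a * b)) := k1.mul_right (k2.mul_right k3)
      have h2 : (g⁻¹ * x * g) * (g⁻¹ * t * g) = (g⁻¹ * t * g) * (g⁻¹ * x * g) := by rw [hg]; exact h1
      calc x * t = g * ((g⁻¹ * x * g) * (g⁻¹ * t * g)) * g⁻¹ := by group
        _ = g * ((g⁻¹ * t * g) * (g⁻¹ * x * g)) * g⁻¹ := by rw [h2]
        _ = t * x := by group
    · rw [← map_commutator, hL]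
  set V : Subgroup G := U.map (MulAut.conj g).toMonoidHom with hV
  have hVK : V ≤ K := (map_mono hUL).trans hgL
  have pV : IsPGroup 2 V := C.pU.map _
  have hcard : Nat.card V = Nat.card U :=
    (Nat.card_congr (U.equivMapOfInjective _ (MulAut.conj g).injective).toEquiv).symm
  have maxV : ∀ P : Subgroup G, IsPGroup 2 P → V ≤ P → P ≤ K → P ≤ V := by
    intro P hP hle hPK
    have h1 := card_le_of_max C.pU C.UK C.maxU hP hPK
    rw [← hcard] at h1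
    exact (Subgroup.eq_of_le_of_card_ge hle h1).ge
  obtain ⟨k, hk, hkV⟩ := D7Out.Front.exists_conj_of_max pV hVK maxV C.pU C.UK C.maxU
  refine ⟨k * g, ?_, ?_⟩
  · intro x
    rw [hkV x, hV, mem_map_conj]
    have e : (k * g)⁻¹ * x * (k * g) = g⁻¹ * (k⁻¹ * x * k) * g := by group
    rw [e]
  · have h1 : k⁻¹ * t * k = t := by rw [mul_assoc, ← C.Kt k hk, inv_mul_cancel_left]
    calc (k * g)⁻¹ * t * (k * g) = g⁻¹ * (k⁻¹ * t * k) * g := by group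
      _ = t * (a * b) := by rw [h1, hg]

/-- A swapping `n` with `t ^ n ∈ t X₁#` gives a non-swapping one. -/
theorem exists_stay (C : Ctx t K U X₁ X₂ H) {n x : G} (hn₁ : Maps n X₁ X₂) (hn₂ : Maps n X₂ X₁) (hx : x ∈ X₁)
    (hx1 : x ≠ 1) (hnx : n⁻¹ * t * n = t * x) : ∃ m, Maps m X₁ X₁ ∧ Maps m X₂ X₂ ∧ m⁻¹ * t * m = t * x := by
  -- `n_z` for `z ∈ X₁#`
  have nz : ∀ z ∈ X₁, z ≠ 1 → ∃ k, Maps k X₁ X₂ ∧ Maps k X₂ X₁ ∧ k⁻¹ * t * k = t * z := by
    intro z hz hz1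
    obtain ⟨h, hh, e⟩ := C.tr1 hx hz hx1 hz1
    refine ⟨n * h, hn₁.mul (C.H₂ h hh), hn₂.mul (C.H₁ h hh), ?_⟩
    calc (n * h)⁻¹ * t * (n * h) = h⁻¹ * (n⁻¹ * t * n) * h := by group
      _ = (h⁻¹ * t * h) * (h⁻¹ * x * h) := by rw [hnx]; group
      _ = t * z := by rw [C.conj_H hh, e]
  have conj : ∀ {p k u v : G}, p⁻¹ * t * p = t * u → k⁻¹ * t * k = t * v →
      (k * p)⁻¹ * t * (k * p) = t * (u * (p⁻¹ * v * p)) := by
    intro p k u v h1 h2
    calc (k * p)⁻¹ * t * (k * p) = p⁻¹ * (k⁻¹ * t * k) * p := by group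
      _ = (p⁻¹ * t * p) * (p⁻¹ * v * p) := by rw [h2]; group
      _ = t * (u * (p⁻¹ * v * p)) := by rw [h1, mul_assoc]
  have ne1 : ∀ {p v : G}, v ≠ 1 → p⁻¹ * v * p ≠ 1 := by
    intro p v hv h
    apply hv
    calc v = p * (p⁻¹ * v * p) * p⁻¹ := by group
      _ = 1 := by rw [h]; group
  -- `p` : non-swapping with `t ^ p = t x y`
  set y := n⁻¹ * x * n with hy
  have hyX : y ∈ X₂ := (hn₁ x).1 hx
  have hp := conj hnx hnx
  rw [← hy] at hp
  set p := n * n with hpd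
  have hp₁ : Maps p X₁ X₁ := hn₁.mul hn₂
  have hp₂ : Maps p X₂ X₂ := hn₂.mul hn₁
  -- `a' ≠ x`
  obtain ⟨a', ha', ha'1, ha'x⟩ := C.big₁ x hx
  have hz0 : p * a' * p⁻¹ ∈ X₁ := by
    have := (hp₁.inv a').1 ha'
    rwa [inv_inv] at this
  have hz01 : p * a' * p⁻¹ ≠ 1 := by
    have := ne1 (p := p⁻¹) ha'1
    rwa [inv_inv] at this
  obtain ⟨k, hk₁, hk₂, hkt⟩ := nz _ hz0 hz01
  have hs := conj hp hkt
  have e1 : p⁻¹ * (p * a' * p⁻¹) * p = a' := by group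
  rw [e1] at hs
  have e2 : x * y * a' = (x * a') * y := by
    have e3 : y * a' = a' * y := (C.comm12 ha' hyX).symm
    calc x * y * a' = x * (y * a') := by group
      _ = x * (a' * y) := by rw [e3]
      _ = (x * a') * y := by group
  rw [e2] at hs
  -- torus
  have hxa : x * a' ≠ 1 := by
    intro h
    apply ha'x
    have h1 : x⁻¹ = a' := inv_eq_of_mul_eq_one_right h
    rw [← h1]
    exact inv_eq_of_mul_eq_one_left (C.sq₁ x hx)
  obtain ⟨h, hh, h1, h2⟩ := C.Htr (x * a') (mul_mem hx ha') y hyX x hx y hyX hxa (ne1 hx1) hx1 (ne1 hx1)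
  have hsh : (k * p * h)⁻¹ * t * (k * p * h) = t * (x * y) := by
    calc (k * p * h)⁻¹ * t * (k * p * h) = h⁻¹ * ((k * p)⁻¹ * t * (k * p)) * h := by group
      _ = (h⁻¹ * t * h) * ((h⁻¹ * (x * a') * h) * (h⁻¹ * y * h)) := by rw [hs]; group
      _ = t * (x * y) := by rw [C.conj_H hh, h1, h2]
  -- `c₀ = k p h p⁻¹` centralises `t` and swaps
  set c := k * p * h * p⁻¹ with hc
  have hct : c⁻¹ * t * c = t := by
    calc c⁻¹ * t * c = p * ((k * p * h)⁻¹ * t * (k * p * h)) * p⁻¹ := by rw [hc]; group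
      _ = p * (t * (x * y)) * p⁻¹ := by rw [hsh]
      _ = p * (p⁻¹ * t * p) * p⁻¹ := by rw [hp]
      _ = t := by group
  have hc₁ : Maps c X₁ X₂ := ((hk₁.mul hp₂).mul (C.H₂ h hh)).mul hp₂.inv
  have hc₂ : Maps c X₂ X₁ := ((hk₂.mul hp₁).mul (C.H₁ h hh)).mul hp₁.inv
  refine ⟨c * n, hc₁.mul hn₂, hc₂.mul hn₁, ?_⟩
  calc (c * n)⁻¹ * t * (c * n) = n⁻¹ * (c⁻¹ * t * c) * n := by group
    _ = t * x := by rw [hct, hnx]

/-- `n ∈ N(U)` with `t ^ n ∈ t X₁#` : some element of `N(X₁)` does it. -/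
theorem exists_of_norm (C : Ctx t K U X₁ X₂ H) {n x : G} (hn : Maps n U U) (hx : x ∈ X₁) (hx1 : x ≠ 1)
    (hnx : n⁻¹ * t * n = t * x) : ∃ m, Maps m X₁ X₁ ∧ Maps m X₂ X₂ ∧ m⁻¹ * t * m = t * x := by
  rcases C.perm n hn with ⟨h1, h2⟩ | ⟨h1, h2⟩
  · exact ⟨n, h1, h2, hnx⟩
  · exact C.exists_stay h1 h2 hx hx1 hnx

theorem _root_.Cfsg.Agent.OddHalf.D7F4.FusionOut.moved_of {t m x : G} {X : Subgroup G} (tt : t * t = 1)
    (hm : Maps m X X) (hx : x ∈ X) (hx1 : x ≠ 1) (hmt : m⁻¹ * t * m = t * x) : Moved t X := by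
  refine ⟨m⁻¹, fun y hy => ?_, fun y hy => ?_, ?_, ?_⟩
  · have := (hm y).1 hy
    rwa [inv_inv]
  · exact (hm.inv y).1 hy
  · rw [inv_inv, hmt, ← mul_assoc, tt, one_mul]; exact hx
  · rw [inv_inv, hmt]
    intro h
    exact hx1 (mul_eq_left.1 h)

/-- `n ∈ N(U)` with `t ^ n ∈ t X₁#` : `X₁` is moved. -/
theorem moved_of_norm (C : Ctx t K U X₁ X₂ H) {n x : G} (hn : Maps n U U) (hx : x ∈ X₁) (hx1 : x ≠ 1)
    (hnx : n⁻¹ * t * n = t * x) : Moved t X₁ := by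
  obtain ⟨m, hm, -, hmt⟩ := C.exists_of_norm hn hx hx1 hnx
  exact moved_of C.tt hm hx hx1 hmt

/-- **Moved or not moved.** -/
theorem moved_or [Finite G] (C : Ctx t K U X₁ X₂ H) :
    Moved t X₁ ∨ ∀ g : G, ∀ x ∈ X₁, g⁻¹ * t * g = t * x → x = 1 := by
  by_contra hcon
  push Not at hcon
  obtain ⟨h1, g, x, hx, hg, hx1⟩ := hcon
  apply h1
  obtain ⟨n, hn, hnt⟩ := C.exists_norm (g := g) hx (one_mem X₂) (by rw [mul_one]; exact hg)
  rw [mul_one] at hnt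
  exact C.moved_of_norm hn hx hx1 hnt

/-- If `X₁` is moved, then `t` goes to every `t x`, `x ∈ X₁`, under `N(X₁)`. -/
theorem onto (C : Ctx t K U X₁ X₂ H) (hM : Moved t X₁) {x : G} (hx : x ∈ X₁) :
    ∃ m, Maps m X₁ X₁ ∧ m⁻¹ * t * m = t * x := by
  by_cases hx1 : x = 1
  · refine ⟨1, fun y => by rw [inv_one, one_mul, mul_one], ?_⟩
    rw [hx1]; group
  obtain ⟨n, h1, h2, h3, h4⟩ := hM
  have hy1 : t * (n * t * n⁻¹) ≠ 1 := by
    intro h
    apply h4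
    calc n * t * n⁻¹ = (t * t) * (n * t * n⁻¹) := by rw [C.tt, one_mul]
      _ = t * (t * (n * t * n⁻¹)) := by rw [mul_assoc]
      _ = t := by rw [h, mul_one]
  obtain ⟨h, hh, e⟩ := C.tr1 h3 hx hy1 hx1
  have hn : Maps n⁻¹ X₁ X₁ := by
    intro y
    rw [inv_inv]
    refine ⟨h1 y, fun hy => ?_⟩
    have := h2 _ hy
    have e : n⁻¹ * (n * y * n⁻¹) * n = y := by group
    rwa [e] at this
  refine ⟨n⁻¹ * h, hn.mul (C.H₁ h hh), ?_⟩
  calc (n⁻¹ * h)⁻¹ * t * (n⁻¹ * h) = h⁻¹ * (n * t * n⁻¹) * h := by group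
    _ = h⁻¹ * (t * t) * (n * t * n⁻¹) * h := by rw [C.tt, mul_one]
    _ = (h⁻¹ * t * h) * (h⁻¹ * (t * (n * t * n⁻¹)) * h) := by group
    _ = t * x := by rw [C.conj_H hh, e]

/-- **Start of fusion.** -/
theorem exists_moved [Finite G] (C : Ctx t K U X₁ X₂ H) {g a b : G} (ha : a ∈ X₁) (hb : b ∈ X₂) (hz1 : a * b ≠ 1)
    (hg : g⁻¹ * t * g = t * (a * b)) : Moved t X₁ ∨ Moved t X₂ := by
  obtain ⟨n, hn, hnt⟩ := C.exists_norm ha hb hg
  by_cases ha1 : a = 1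
  · right
    rw [ha1, one_mul] at hnt hz1
    exact C.symm.moved_of_norm hn hb hz1 hnt
  by_cases hb1 : b = 1
  · left
    rw [hb1, mul_one] at hnt hz1
    exact C.moved_of_norm hn ha hz1 hnt
  left
  -- mixed: `a₁ ≠ a`
  obtain ⟨a₁, ha₁, ha₁1, ha₁a⟩ := C.big₁ a ha
  have haa : a * a₁ ≠ 1 := by
    intro h
    apply ha₁a
    have h1 : a⁻¹ = a₁ := inv_eq_of_mul_eq_one_right h
    rw [← h1]
    exact inv_eq_of_mul_eq_one_left (C.sq₁ a ha)
  have ne1 : ∀ {v : G}, v ≠ 1 → n * v * n⁻¹ ≠ 1 := by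
    intro v hv h
    apply hv
    calc v = n⁻¹ * (n * v * n⁻¹) * n := by group
      _ = 1 := by rw [h]; group
  -- `h` with `(a b)^h = n (a a₁ b) n⁻¹`
  obtain ⟨h, hh, e⟩ : ∃ h ∈ H, h⁻¹ * (a * b) * h = n * (a * a₁ * b) * n⁻¹ := by
    rcases C.perm n hn with ⟨h1, h2⟩ | ⟨h1, h2⟩
    · have k1 := (h1.inv _).1 (mul_mem ha ha₁)
      have k2 := (h2.inv _).1 hb
      rw [inv_inv] at k1 k2
      obtain ⟨h, hh, e1, e2⟩ := C.Htr a ha b hb _ k1 _ k2 ha1 hb1 (ne1 haa) (ne1 hb1)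
      refine ⟨h, hh, ?_⟩
      calc h⁻¹ * (a * b) * h = (h⁻¹ * a * h) * (h⁻¹ * b * h) := by group
        _ = _ := by rw [e1, e2]; group
    · have k1 := (h2.inv _).1 (mul_mem ha ha₁)
      have k2 := (h1.inv _).1 hb
      rw [inv_inv] at k1 k2
      obtain ⟨h, hh, e1, e2⟩ := C.Htr a ha b hb _ k2 _ k1 ha1 hb1 (ne1 hb1) (ne1 haa)
      refine ⟨h, hh, ?_⟩
      calc h⁻¹ * (a * b) * h = (h⁻¹ * a * h) * (h⁻¹ * b * h) := by group
        _ = (n * b * n⁻¹) * (n * (a * a₁) * n⁻¹) := by rw [e1, e2]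
        _ = n * (b * (a * a₁)) * n⁻¹ := by group
        _ = n * (a * a₁ * b) * n⁻¹ := by rw [C.comm12 (mul_mem ha ha₁) hb]
  -- `n h n` maps `t` to `t a₁`
  refine C.moved_of_norm (n := n * h * n) (x := a₁) ?_ ha₁ ha₁1 ?_
  · exact (hn.mul (C.HU h hh)).mul hn
  · calc (n * h * n)⁻¹ * t * (n * h * n) = n⁻¹ * (h⁻¹ * (n⁻¹ * t * n) * h) * n := by group
      _ = n⁻¹ * ((h⁻¹ * t * h) * (h⁻¹ * (a * b) * h)) * n := by rw [hnt]; group
      _ = (n⁻¹ * t * n) * (a * a₁ * b) := by rw [C.conj_H hh, e]; group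
      _ = t * ((a * b) * (a * a₁ * b)) := by rw [hnt, mul_assoc]
      _ = t * a₁ := by
        congr 1
        calc a * b * (a * a₁ * b) = a * (b * (a * a₁)) * b := by group
          _ = a * ((a * a₁) * b) * b := by rw [C.comm12 (mul_mem ha ha₁) hb]
          _ = (a * a) * a₁ * (b * b) := by group
          _ = a₁ := by rw [C.sq₁ a ha, C.sq₂ b hb, one_mul, mul_one]

end Ctx

/-- An element of `C(t)` mapping `X₁` to `X₂` (graph type): both are moved or none. -/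
theorem moved_swap {t c : G} {X Y : Subgroup G} (hct : c * t = t * c) (hc : Maps c X Y) (h : Moved t X) :
    Moved t Y := by
  obtain ⟨n, h1, h2, h3, h4⟩ := h
  have hc' : ∀ y ∈ Y, c * y * c⁻¹ ∈ X := fun y hy => by
    rw [hc]
    have e : c⁻¹ * (c * y * c⁻¹) * c = y := by group
    rwa [e]
  have e1 : c⁻¹ * t * c = t := by rw [mul_assoc, ← hct, inv_mul_cancel_left]
  have e2 : c * t * c⁻¹ = t := by rw [hct, mul_inv_cancel_right]
  have e3 : (c⁻¹ * n * c) * t * (c⁻¹ * n * c)⁻¹ = c⁻¹ * (n * t * n⁻¹) * c := by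
    calc (c⁻¹ * n * c) * t * (c⁻¹ * n * c)⁻¹ = c⁻¹ * (n * (c * t * c⁻¹) * n⁻¹) * c := by group
      _ = _ := by rw [e2]
  refine ⟨c⁻¹ * n * c, fun y hy => ?_, fun y hy => ?_, ?_, ?_⟩
  · have e : c⁻¹ * n * c * y * (c⁻¹ * n * c)⁻¹ = c⁻¹ * (n * (c * y * c⁻¹) * n⁻¹) * c := by group
    rw [e, ← hc]
    exact h1 _ (hc' y hy)
  · have e : (c⁻¹ * n * c)⁻¹ * y * (c⁻¹ * n * c) = c⁻¹ * (n⁻¹ * (c * y * c⁻¹) * n) * c := by group
    rw [e, ← hc]
    exact h2 _ (hc' y hy)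
  · rw [e3]
    have e : t * (c⁻¹ * (n * t * n⁻¹) * c) = c⁻¹ * (t * (n * t * n⁻¹)) * c := by
      calc t * (c⁻¹ * (n * t * n⁻¹) * c) = (c⁻¹ * t * c) * (c⁻¹ * (n * t * n⁻¹) * c) := by rw [e1]
        _ = _ := by group
    rw [e, ← hc]
    exact h3
  · rw [e3]
    intro h
    apply h4
    calc n * t * n⁻¹ = c * (c⁻¹ * (n * t * n⁻¹) * c) * c⁻¹ := by group
      _ = t := by rw [h, e2]

open D7Out.Defs in
/-- **The front**, any `|R|`, cyclic outer part: `|R| = 2` and `t` is conjugate to some `t z ≠ t`, `z ∈ Z`. -/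
theorem front [Finite G] (hG : commutator G = ⊤) {t v : G} {K U Z T : Subgroup G} (F : Fr t v K U Z T)
    (hcyc : ∃ s ∈ T, ∀ x ∈ T, ∃ k : ℤ, ∃ r ∈ zpowers v, ∃ u ∈ U, x = s ^ k * r * u) :
    (∃ n ∈ normalizer (T : Set G), ∃ z ∈ Z, z ≠ 1 ∧ (∀ x ∈ T, x * z = z * x) ∧ n * t * n⁻¹ = t * z) ∧
      ∀ r ∈ zpowers v, r = 1 ∨ r = t :=
  D7Out.Front.exists_swap F (fun hiso => D7Out.TransGen.false_of_cyclic hG F hiso hcyc)

open D7Out.Defs in
/-- **The front and the start of fusion.** -/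
theorem exists_moved [Finite G] (hG : commutator G = ⊤) {t v : G} {K U Z T X₁ X₂ H : Subgroup G}
    (F : Fr t v K U Z T) (hcyc : ∃ s ∈ T, ∀ x ∈ T, ∃ k : ℤ, ∃ r ∈ zpowers v, ∃ u ∈ U, x = s ^ k * r * u)
    (C : Ctx t K U X₁ X₂ H) (hZ : ∀ z ∈ Z, ∃ a ∈ X₁, ∃ b ∈ X₂, z = a * b) :
    (Moved t X₁ ∨ Moved t X₂) ∧ ∀ r ∈ zpowers v, r = 1 ∨ r = t := by
  obtain ⟨⟨n, -, z, hz, hz1, -, hnz⟩, h2⟩ := front hG F hcyc
  obtain ⟨a, ha, b, hb, rfl⟩ := hZ z hz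
  refine ⟨C.exists_moved (g := n⁻¹) ha hb hz1 ?_, h2⟩
  rw [inv_inv]; exact hnz

end Cfsg.Agent.OddHalf.D7F4.FusionOut

end

-- merged: Cfsg.Agent.OddHalf.D7F4.KFront
section

/-!
# `F₄(q)`, `q ≥ 4` even: the facts for the front and the fusion (ODD D7; helper588)

`UK` the Sylow 2-subgroup `⟨X_c : c > 0⟩`, `X1 = X_ρ` (long, `ρ = v 47`), `X2 = X_σ` (short, `σ = v 44`), `ZK = X1 X2`.

* `kf0` : `FrGen.KF0 UK ZK`;
* `LK` : `⟨X_c : ⟨c,ρ⟩, ⟨c,σ⟩ ≥ 0⟩` is perfect (`LK_perfect`), contains `UK`, centralises `ZK`;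
* `Frame.ctx` : a frame gives `FusionOut.Ctx`.
-/

set_option autoImplicit false
set_option Elab.async false
set_option linter.unusedSectionVars false

namespace Cfsg.Agent.OddHalf.D7F4.KFront

open CoxeterSystem Cfsg.Agent.ChevalleyStructure.CoxeterGeom Cfsg.Agent.Tits.Roots Cfsg.Agent.Tits.Core
open Cfsg.Lie Cfsg.Agent.ChevalleyStructure Cfsg.Agent.ChevalleyStructure.Elts
  Cfsg.Agent.ChevalleyStructure.RootVec Cfsg.Agent.ChevalleyStructure.CoxeterGeomTypes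
open Cfsg.Agent.Nodes Cfsg.Agent.Nodes.Reps Cfsg.Agent.Nodes.BNOf Cfsg.Agent.Nodes.RGDChev Cfsg.Agent.Nodes.Coroot
  Cfsg.Agent.Nodes.KindF Cfsg.Agent.Nodes.Bruhat Cfsg.Agent.KFacts.ChevTwo Cfsg.Agent.KFacts.ChevTwoTab
  Cfsg.Agent.KFacts.ChevTwoInst Cfsg.Agent.KFacts.RgdTI
  Cfsg.Agent.KFacts.F4Star Cfsg.Agent.KFacts.F4Cent Cfsg.Agent.KFacts.F4Pair Cfsg.Agent.KFacts.F4Torus
  Cfsg.Agent.KFacts.F4Perf
open scoped commutatorElement

universe u

/-- the Coxeter system -/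
abbrev c4 : CoxeterSystem CoxeterMatrix.F₄ CoxeterMatrix.F₄.Group := CoxeterMatrix.F₄.toCoxeterSystem

instance : Finite CoxeterMatrix.F₄.Group := finite_W isType c4

variable (K : Type u) [Field K]

/-- the Sylow 2-subgroup -/
abbrev UK : Subgroup ↥(chevF4.group K) := RGD.Sup (XF K) (RGD.Pos c4 isType.isCartan)

/-- the long root group in the centre -/
abbrev X1 : Subgroup ↥(chevF4.group K) := XF K (v 47)

/-- the short root group in the centre -/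
abbrev X2 : Subgroup ↥(chevF4.group K) := XF K (v 44)

/-- the centre of `UK` -/
abbrev ZK : Subgroup ↥(chevF4.group K) := X1 K ⊔ X2 K

/-- the roots which are not negative on `ρ` and `σ` -/
def SL : Set (Fin 4 → ℤ) := {x | x ∈ Ge c4 isType.isCartan (v 47) ∧ x ∈ Ge c4 isType.isCartan (v 44)}

/-- the perfect subgroup -/
abbrev LK : Subgroup ↥(chevF4.group K) := RGD.Sup (XF K) SL

variable {K}
variable [Finite K] [CharP K 2]

/-! ### Checks -/

theorem chkPos : ((List.range 48).all fun r => decide (r < 24) || ((nn 47).testBit r && (nn 44).testBit r)) = true := by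
  decide +kernel

theorem chk46 : ((List.range 48).all fun c => decide (c < 24) || decide (c = 24) || (nn c).testBit 46) = true := by
  decide +kernel

theorem chk40 : ((List.range 48).all fun c => decide (c < 24) || decide (c = 33) || (nn c).testBit 40) = true := by
  decide +kernel

/-- the mask of `SL` -/
def SM : ℕ := Nat.land (nn 47) (nn 44)

/-- some `b`, `-b` in `SL` is not orthogonal to `c` -/
def tor (c : ℕ) : Bool := (List.range 48).any fun b => SM.testBit b && SM.testBit (47 - b) && !decide (carB chevF4 b c = 0)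

/-- `c = b + d`, same length, `b, d` in `SL` -/
def o1 (c : ℕ) : Bool := (decs.getD c []).any fun q =>
  SM.testBit q.1 && SM.testBit q.2 && decide (carB chevF4 q.1 q.2 = -1) && decide (carB chevF4 q.2 q.1 = -1) &&
    lin 1 c 1 q.1 1 q.2

/-- `c = b + d`, `⟨b,d⟩ = -2`, `⟨d,b⟩ = -1`, `tor (b + 2 d)` -/
def o2 (c : ℕ) : Bool := (decs.getD c []).any fun q =>
  SM.testBit q.1 && SM.testBit q.2 && lin 1 c 1 q.1 1 q.2 &&
    ((decide (carB chevF4 q.2 q.1 = -2) && decide (carB chevF4 q.1 q.2 = -1) &&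
        (List.range 48).any fun f => lin 1 f 1 q.1 2 q.2 && SM.testBit f && tor f) ||
     (decide (carB chevF4 q.1 q.2 = -2) && decide (carB chevF4 q.2 q.1 = -1) &&
        (List.range 48).any fun f => lin 1 f 1 q.2 2 q.1 && SM.testBit f && tor f))

/-- `c = b + 2 d`, `⟨b,d⟩ = -2`, `⟨d,b⟩ = -1`, `tor (b + d)` -/
def o3 (c : ℕ) : Bool := (List.range 48).any fun f => SM.testBit f && tor f && (decs.getD f []).any fun q =>
  SM.testBit q.1 && SM.testBit q.2 && lin 1 f 1 q.1 1 q.2 &&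
    ((decide (carB chevF4 q.2 q.1 = -2) && decide (carB chevF4 q.1 q.2 = -1) && lin 1 c 1 q.1 2 q.2) ||
     (decide (carB chevF4 q.1 q.2 = -2) && decide (carB chevF4 q.2 q.1 = -1) && lin 1 c 1 q.2 2 q.1))

theorem chkL : ((List.range 48).all fun c => !(SM.testBit c) || tor c || o1 c || o2 c || o3 c) = true := by
  decide +kernel

/-- every non-simple positive root is `b + d` (same length) or comes from a pair of positive roots with
`⟨b,d⟩ = -2` -/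
def p1 (c : ℕ) : Bool := (decs.getD c []).any fun q =>
  decide (24 ≤ q.1) && decide (24 ≤ q.2) && decide (carB chevF4 q.1 q.2 = -1) && decide (carB chevF4 q.2 q.1 = -1) &&
    lin 1 c 1 q.1 1 q.2

def p2 (c : ℕ) : Bool := (List.range 48).any fun b => (List.range 48).any fun d =>
  decide (24 ≤ b) && decide (24 ≤ d) && decide (carB chevF4 d b = -2) && decide (carB chevF4 b d = -1) &&
    ((List.range 48).any fun f => lin 1 c 1 b 1 d && lin 1 f 1 b 2 d || lin 1 c 1 b 2 d && lin 1 f 1 b 1 d)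

theorem chkN : ((List.range 48).all fun c => !(nsM.testBit c) || p1 c || p2 c) = true := by decide +kernel

theorem chk4724 : (lin 1 47 1 46 1 24 && decide (carB chevF4 46 24 = -1) && decide (carB chevF4 24 46 = -1) &&
    lin 1 44 1 40 1 33 && decide (carB chevF4 40 33 = -1) && decide (carB chevF4 33 40 = -1) &&
    (nn 46).testBit 40 && (nn 33).testBit 46 && (nn 24).testBit 40) = true := by decide +kernel

/-! ### Elementary consequences -/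

theorem dat : Data c4 isType.isCartan (eF K) := (sysF (K := K) c4).data

theorem rv {r : ℕ} (hr : r < 48) : IsRoot c4 isType.isCartan (v r) := isRoot_v c4 hr

theorem mem_XF {x : Fin 4 → ℤ} (hx : IsRoot c4 isType.isCartan x) {g : ↥(chevF4.group K)} :
    g ∈ XF K x ↔ ∃ t, eF K x t = g := mem_XF_iff c4 hx

theorem e_mem_X {x : Fin 4 → ℤ} (hx : IsRoot c4 isType.isCartan x) (t : K) : eF K x t ∈ XF K x :=
  (mem_XF hx).2 ⟨t, rfl⟩

theorem e_mem_U {r : ℕ} (hr : r < 48) (h : 24 ≤ r) (t : K) : eF K (v r) t ∈ UK K :=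
  RGD.le_Sup ((mem_pos_iff c4 hr).2 h) (e_mem_X (rv hr) t)

theorem X_le_U {r : ℕ} (hr : r < 48) (h : 24 ≤ r) : XF K (v r) ≤ UK K :=
  RGD.le_Sup ((mem_pos_iff c4 hr).2 h)

theorem X1_le_U : X1 K ≤ UK K := X_le_U (by norm_num) (by norm_num)

theorem X2_le_U : X2 K ≤ UK K := X_le_U (by norm_num) (by norm_num)

theorem pos_SL : RGD.Pos c4 isType.isCartan ⊆ SL := by
  intro x hx
  obtain ⟨r, hr, rfl⟩ := exists_v c4 hx.1
  have h1 := (mem_pos_iff c4 hr).1 hx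
  have h2 := List.all_eq_true.1 chkPos r (List.mem_range.2 hr)
  rw [Bool.or_eq_true, decide_eq_true_eq, Bool.and_eq_true] at h2
  have h3 := h2.resolve_left (by omega)
  exact ⟨(mem_Ge_v c4 (by norm_num) hr).2 h3.1, (mem_Ge_v c4 (by norm_num) hr).2 h3.2⟩

theorem U_le_L : UK K ≤ LK K := RGD.Sup_mono pos_SL

theorem L_comm1 {u z : ↥(chevF4.group K)} (hu : u ∈ LK K) (hz : z ∈ X1 K) : u * z = z * u :=
  ((sysF (K := K) c4).lr (rv (by norm_num))).comm' (RGD.Sup_mono (fun _ hx => hx.1) hu) hz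

theorem L_comm2 {u z : ↥(chevF4.group K)} (hu : u ∈ LK K) (hz : z ∈ X2 K) : u * z = z * u :=
  ((sysF (K := K) c4).lr (rv (by norm_num))).comm' (RGD.Sup_mono (fun _ hx => hx.2) hu) hz

theorem mem_ZK {z : ↥(chevF4.group K)} : z ∈ ZK K ↔ ∃ a ∈ X1 K, ∃ b ∈ X2 K, z = a * b :=
  KFacts.RgdAutCent.mem_sup_comm (fun _ ha _ hb => L_comm2 (U_le_L (X1_le_U ha)) hb)

theorem L_commZ {u z : ↥(chevF4.group K)} (hu : u ∈ LK K) (hz : z ∈ ZK K) : u * z = z * u := by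
  obtain ⟨a, ha, b, hb, rfl⟩ := mem_ZK.1 hz
  have h1 : Commute u a := L_comm1 hu ha
  have h2 : Commute u b := L_comm2 hu hb
  exact h1.mul_right h2

theorem sq_X {r : ℕ} (hr : r < 48) {x : ↥(chevF4.group K)} (hx : x ∈ XF K (v r)) : x * x = 1 := by
  obtain ⟨t, rfl⟩ := (mem_XF (rv hr)).1 hx
  exact (dat (K := K)).sq (rv hr) t

theorem Zsq {z : ↥(chevF4.group K)} (hz : z ∈ ZK K) : z * z = 1 := by
  obtain ⟨a, ha, b, hb, rfl⟩ := mem_ZK.1 hz
  have h1 : a * b = b * a := L_comm2 (U_le_L (X1_le_U ha)) hb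
  calc a * b * (a * b) = a * (b * a) * b := by group
    _ = (a * a) * (b * b) := by rw [← h1]; group
    _ = 1 := by rw [sq_X (by norm_num) ha, sq_X (by norm_num) hb, one_mul]

theorem mem_Z_of_Sup {z : ↥(chevF4.group K)} (hz : z ∈ RGD.Sup (XF K) {v 47, v 44}) : z ∈ ZK K := by
  refine (RGD.Sup_le ?_ : RGD.Sup (XF K) {v 47, v 44} ≤ ZK K) hz
  rintro x (rfl | rfl)
  · exact le_sup_left
  · exact le_sup_right

/-- `C_K(U) = Z` -/
theorem mem_Z_of_comm {z : ↥(chevF4.group K)} (hz : ∀ u ∈ UK K, z * u = u * z) : z ∈ ZK K := by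
  refine mem_Z_of_Sup (cent_pos c4 fun c hc => ?_)
  refine ⟨eF K c 1, e_mem_X hc.1 1, (dat (K := K)).ne_one hc.1 one_ne_zero, hz _ ?_⟩
  exact RGD.le_Sup hc (e_mem_X hc.1 1)

/-! ### `LK` is perfect -/

theorem mem_SL {r : ℕ} (hr : r < 48) : v r ∈ SL ↔ SM.testBit r = true := by
  have e : SM = nn 47 &&& nn 44 := rfl
  rw [e, Nat.testBit_and, Bool.and_eq_true, ← mem_Ge_v c4 (by norm_num) hr, ← mem_Ge_v c4 (by norm_num) hr]
  rfl

theorem e_mem_L {x : Fin 4 → ℤ} (hx : x ∈ SL) (t : K) : eF K x t ∈ LK K := RGD.le_Sup hx (e_mem_X hx.1.1 t)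

theorem lt_of_testBit {b : ℕ} (h : SM.testBit b = true) : b < 48 := by
  by_contra h0
  have h1 : SM < 2 ^ 48 := by decide +kernel
  have h2 : SM < 2 ^ b := lt_of_lt_of_le h1 (Nat.pow_le_pow_right (by norm_num) (by omega))
  rw [Nat.testBit_lt_two_pow h2] at h
  exact absurd h (by decide)

theorem exists_zpow_ne (hK : 2 < Nat.card K) : ∃ c : K, c ≠ 0 ∧ ∀ k : ℤ, k ≠ 0 → -2 ≤ k → k ≤ 2 → c ^ k ≠ 1 := by
  classical
  have : Fintype K := Fintype.ofFinite K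
  obtain ⟨c, hc⟩ : ∃ c : K, c ∉ ({0, 1} : Finset K) := by
    by_contra hcon
    push Not at hcon
    have h1 : (Finset.univ : Finset K) ⊆ {0, 1} := fun x _ => hcon x
    have h2 := Finset.card_le_card h1
    rw [Finset.card_univ, ← Nat.card_eq_fintype_card] at h2
    have h3 : ({0, 1} : Finset K).card ≤ 2 := Finset.card_le_two
    omega
  rw [Finset.mem_insert, Finset.mem_singleton, not_or] at hc
  have h2 : c ^ 2 ≠ 1 := by
    intro h
    apply hc.2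
    have h3 : (c - 1) ^ 2 = 0 := by
      have : (c - 1) ^ 2 = c ^ 2 - 1 := by
        have h4 : (2 : K) = 0 := CharTwo.two_eq_zero
        linear_combination (1 - c) * h4
      rw [this, h, sub_self]
    exact sub_eq_zero.1 (pow_eq_zero_iff (two_ne_zero)|>.1 h3)
  refine ⟨c, hc.1, fun k hk h1 h3 => ?_⟩
  have : k = -2 ∨ k = -1 ∨ k = 1 ∨ k = 2 := by omega
  rcases this with rfl | rfl | rfl | rfl
  · intro h
    rw [zpow_neg, inv_eq_one] at h
    exact h2 (by exact_mod_cast h)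
  · intro h
    rw [zpow_neg, inv_eq_one, zpow_one] at h
    exact hc.2 h
  · rw [zpow_one]; exact hc.2
  · intro h
    exact h2 (by exact_mod_cast h)

/-- **`LK` is perfect.** -/
theorem LK_perfect (hK : 2 < Nat.card K) : ⁅LK K, LK K⁆ = LK K := by
  have D := dat (K := K)
  refine le_antisymm (Subgroup.commutator_le_self _) (RGD.Sup_le fun c hc => ?_)
  have key : ∀ b d, b ∈ SL → d ∈ SL → ∀ t u : K, ⁅eF K b t, eF K d u⁆ ∈ ⁅LK K, LK K⁆ := fun b d hb hd t u =>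
    Subgroup.commutator_mem_commutator (e_mem_L hb t) (e_mem_L hd u)
  obtain ⟨l, hl, hl2⟩ := exists_zpow_ne hK
  -- torus
  have ht : ∀ c < 48, SM.testBit c = true → tor c = true → ∀ t : K, eF K (v c) t ∈ ⁅LK K, LK K⁆ := by
    intro c hc hcS h t
    obtain ⟨b, hb, h1⟩ := List.any_eq_true.1 h
    rw [List.mem_range] at hb
    simp only [Bool.and_eq_true, Bool.not_eq_true', decide_eq_false_iff_not] at h1
    obtain ⟨⟨h1, h2⟩, h3⟩ := h1
    have h4 : cpr c4 isType.isCartan (v c) (v b) ≠ 0 := by rw [cpr_v c4 hb hc]; exact h3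
    have hbS := (mem_SL hb).2 h1
    have hbS' : -v b ∈ SL := by
      rw [← v_neg hb]
      exact (mem_SL (by omega)).2 h2
    have hcS' := (mem_SL hc).2 hcS
    set k := cpr c4 isType.isCartan (v c) (v b) with hk
    have hk2 : -2 ≤ k ∧ k ≤ 2 := by
      obtain ⟨h5, h6⟩ := cpr_abs_le c4 (rv hc) (rv hb)
      omega
    have h5 := hl2 k h4 hk2.1 hk2.2
    have h6 : l ^ k - 1 ≠ 0 := sub_ne_zero.2 h5
    set t' : K := t * (l ^ k - 1)⁻¹ with ht'
    have h7 := D.hel_conj (rv hc) (rv hb) hl t'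
    have h8 : ⁅hel (eF K) (v b) l, eF K (v c) t'⁆ = eF K (v c) t := by
      rw [commutatorElement_def, h7, D.inv (rv hc), ← D.add _ (rv hc), ht']
      congr 1
      have h9 : (2 : K) = 0 := CharTwo.two_eq_zero
      rw [← hk]
      have h10 : l ^ k * (t * (l ^ k - 1)⁻¹) + t * (l ^ k - 1)⁻¹ =
          t * ((l ^ k - 1)⁻¹ * (l ^ k - 1)) + 2 * (t * (l ^ k - 1)⁻¹) := by ring
      rw [h10, h9, inv_mul_cancel₀ h6, mul_one, zero_mul, add_zero]
    rw [← h8]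
    exact Subgroup.commutator_mem_commutator (hel_mem_of c4 (rv hb) hbS hbS' l) (e_mem_L hcS' t')
  intro z hz
  obtain ⟨t, rfl⟩ := (mem_XF hc.1.1).1 hz
  obtain ⟨r, hr, rfl⟩ := exists_v c4 hc.1.1
  have hrS := (mem_SL hr).1 hc
  have h1 := List.all_eq_true.1 chkL r (List.mem_range.2 hr)
  rw [hrS, Bool.not_true, Bool.false_or, Bool.or_eq_true, Bool.or_eq_true, Bool.or_eq_true] at h1
  rcases h1 with ((h1 | h1) | h1) | h1
  · exact ht r hr hrS h1 t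
  · obtain ⟨q, hq, h1⟩ := List.any_eq_true.1 h1
    simp only [Bool.and_eq_true, decide_eq_true_eq] at h1
    obtain ⟨⟨⟨⟨h1, h2⟩, h3⟩, h4⟩, h5⟩ := h1
    have l1 := lt_of_testBit h1
    have l2 := lt_of_testBit h2
    have h6 := key _ _ ((mem_SL l1).2 h1) ((mem_SL l2).2 h2) t 1
    rwa [D.comm1 _ _ (rv l1) (rv l2) (by rw [cpr_v c4 l2 l1]; exact h4) (by rw [cpr_v c4 l1 l2]; exact h3), mul_one,
      ← lin_one h5] at h6
  · obtain ⟨q, hq, h1⟩ := List.any_eq_true.1 h1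
    simp only [Bool.and_eq_true, Bool.or_eq_true, decide_eq_true_eq] at h1
    obtain ⟨⟨⟨h1, h2⟩, h3⟩, h4⟩ := h1
    have l1 := lt_of_testBit h1
    have l2 := lt_of_testBit h2
    rcases h4 with ⟨⟨h5, h6⟩, h7⟩ | ⟨⟨h5, h6⟩, h7⟩
    · obtain ⟨f, hf, h8⟩ := List.any_eq_true.1 h7
      simp only [Bool.and_eq_true] at h8
      rw [List.mem_range] at hf
      have h9 := key _ _ ((mem_SL l1).2 h1) ((mem_SL l2).2 h2) t 1
      rw [D.comm2 _ _ (rv l1) (rv l2) (by rw [cpr_v c4 l2 l1]; exact h5) (by rw [cpr_v c4 l1 l2]; exact h6), mul_one,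
        ← lin_one h3, ← lin_two h8.1.1] at h9
      exact (Subgroup.mul_mem_cancel_right _ (ht f hf h8.1.2 h8.2 _)).1 h9
    · obtain ⟨f, hf, h8⟩ := List.any_eq_true.1 h7
      simp only [Bool.and_eq_true] at h8
      rw [List.mem_range] at hf
      have h9 := key _ _ ((mem_SL l2).2 h2) ((mem_SL l1).2 h1) t 1
      rw [D.comm2 _ _ (rv l2) (rv l1) (by rw [cpr_v c4 l1 l2]; exact h5) (by rw [cpr_v c4 l2 l1]; exact h6), mul_one,
        add_comm (v q.2) (v q.1), ← lin_one h3, ← lin_two h8.1.1] at h9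
      exact (Subgroup.mul_mem_cancel_right _ (ht f hf h8.1.2 h8.2 _)).1 h9
  · obtain ⟨f, hf, h1⟩ := List.any_eq_true.1 h1
    rw [List.mem_range] at hf
    simp only [Bool.and_eq_true] at h1
    obtain ⟨⟨h0, h0'⟩, h1⟩ := h1
    obtain ⟨q, hq, h1⟩ := List.any_eq_true.1 h1
    simp only [Bool.and_eq_true, Bool.or_eq_true, decide_eq_true_eq] at h1
    obtain ⟨⟨⟨h1, h2⟩, h3⟩, h4⟩ := h1
    have l1 := lt_of_testBit h1
    have l2 := lt_of_testBit h2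
    rcases h4 with ⟨⟨h5, h6⟩, h7⟩ | ⟨⟨h5, h6⟩, h7⟩
    · have h9 := key _ _ ((mem_SL l1).2 h1) ((mem_SL l2).2 h2) t 1
      rw [D.comm2 _ _ (rv l1) (rv l2) (by rw [cpr_v c4 l2 l1]; exact h5) (by rw [cpr_v c4 l1 l2]; exact h6), mul_one,
        one_pow, mul_one, ← lin_one h3, ← lin_two h7] at h9
      exact (Subgroup.mul_mem_cancel_left _ (ht f hf h0 h0' _)).1 h9
    · have h9 := key _ _ ((mem_SL l2).2 h2) ((mem_SL l1).2 h1) t 1
      rw [D.comm2 _ _ (rv l2) (rv l1) (by rw [cpr_v c4 l1 l2]; exact h5) (by rw [cpr_v c4 l2 l1]; exact h6), mul_one,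
        one_pow, mul_one, add_comm (v q.2) (v q.1), ← lin_one h3, ← lin_two h7] at h9
      exact (Subgroup.mul_mem_cancel_left _ (ht f hf h0 h0' _)).1 h9

/-! ### The front -/

theorem simple_comm (i : Fin 4) : ∀ a ∈ XF K (sr i), ∀ b ∈ XF K (sr i), a * b = b * a := by
  intro a ha b hb
  obtain ⟨t, rfl⟩ := (mem_XF (isRoot_sr c4 _ i)).1 ha
  obtain ⟨u, rfl⟩ := (mem_XF (isRoot_sr c4 _ i)).1 hb
  exact (dat (K := K)).comm_same (isRoot_sr c4 _ i) t u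

/-- **The facts of the front.** -/
theorem kf0 (hK : 2 < Nat.card K) : D7Out.FrGen.KF0 (UK K) (ZK K) where
  pU := RGD.isPGroup_Upos (rgd (K := K) isType c4 2)
  maxU := by
    intro P hP hU
    have : Fact (Nat.Prime 2) := ⟨Nat.prime_two⟩
    have h1 := NormalForm.eq_U_of_isPGroup (rgd (K := K) isType c4 2) hP hU (by
      have h2 : GG c4 isType.isCartan (TF K) (XF K) = ⊤ := by
        rw [eq_top_iff]
        have h3 : RGDLib.G1 c4 isType.isCartan (XF K) ≤ GG c4 isType.isCartan (TF K) (XF K) :=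
          RGD.Sup_le fun x hx => X_le_GG hx
        rwa [show RGDLib.G1 c4 isType.isCartan (XF K) = ⊤ from G1_eq_top isType c4] at h3
      rw [h2]; exact le_top)
    exact h1.le
  ZU := sup_le X1_le_U X2_le_U
  Zc := fun z hz u hu => L_commZ (U_le_L hu) hz
  Zsq := fun z hz => Zsq hz
  Z1 := by
    intro h
    have h1 : eF K (v 47) 1 ∈ ZK K := Subgroup.mem_sup_left (e_mem_X (rv (by norm_num)) 1)
    rw [h, Subgroup.mem_bot] at h1
    exact (dat (K := K)).ne_one (rv (by norm_num)) one_ne_zero h1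
  aut := by
    rintro α - hα
    obtain ⟨z, hz, hzU, rfl⟩ := KFacts.RgdFixU.eq_conj_of_fix_U (rgd (K := K) isType c4 2)
      (G1_eq_top isType c4) simple_comm hα
    exact ⟨z, mem_Z_of_comm hzU, fun x => rfl⟩
  P2' := fun z hz => ⟨LK K, LK_perfect hK, U_le_L (sup_le X1_le_U X2_le_U hz), fun y hy => L_commZ hy hz⟩

/-! ### The second centre -/

theorem comm_mul {g u w : ↥(chevF4.group K)} {Z' : Subgroup ↥(chevF4.group K)} (hZ : Z' ≤ ZK K) (hu : u ∈ UK K)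
    (hw : ⁅g, w⁆ ∈ Z') : ⁅g, u * w⁆ = ⁅g, u⁆ * ⁅g, w⁆ := by
  have h1 : u * ⁅g, w⁆ = ⁅g, w⁆ * u := L_commZ (U_le_L hu) (hZ hw)
  calc ⁅g, u * w⁆ = ⁅g, u⁆ * (u * ⁅g, w⁆ * u⁻¹) := by
        rw [commutatorElement_def, commutatorElement_def, commutatorElement_def]; group
    _ = ⁅g, u⁆ * ⁅g, w⁆ := by rw [h1, mul_inv_cancel_right]

theorem comm_mem_of_gen {g : ↥(chevF4.group K)} {Z' : Subgroup ↥(chevF4.group K)} (hZ : Z' ≤ ZK K)
    (hg : ∀ r < 48, 24 ≤ r → ∀ t : K, ⁅g, eF K (v r) t⁆ ∈ Z') : ∀ u ∈ UK K, ⁅g, u⁆ ∈ Z' := by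
  let S : Subgroup ↥(chevF4.group K) :=
    { carrier := {u | u ∈ UK K ∧ ⁅g, u⁆ ∈ Z'}
      one_mem' := ⟨one_mem _, by rw [commutatorElement_one_right]; exact one_mem _⟩
      mul_mem' := by
        rintro a b ⟨ha, ha'⟩ ⟨hb, hb'⟩
        exact ⟨mul_mem ha hb, by rw [comm_mul hZ ha hb']; exact mul_mem ha' hb'⟩
      inv_mem' := by
        rintro a ⟨ha, ha'⟩
        refine ⟨inv_mem ha, ?_⟩
        have h1 : a * ⁅g, a⁆ = ⁅g, a⁆ * a := L_commZ (U_le_L ha) (hZ ha')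
        have h2 : ⁅g, a⁻¹⁆ = ⁅g, a⁆⁻¹ := by
          have h3 : ⁅g, a⁻¹⁆ = (a⁻¹ * ⁅g, a⁆ * a)⁻¹ := by
            rw [commutatorElement_def, commutatorElement_def]; group
          have h4 : a⁻¹ * ⁅g, a⁆ * a = ⁅g, a⁆ := by rw [mul_assoc, ← h1, inv_mul_cancel_left]
          rw [h3, h4]
        rw [h2]; exact inv_mem ha' }
  have h1 : UK K ≤ S := by
    refine RGD.Sup_le fun x hx y hy => ?_
    obtain ⟨t, rfl⟩ := (mem_XF hx.1).1 hy
    obtain ⟨r, hr, rfl⟩ := exists_v c4 hx.1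
    have h2 := (mem_pos_iff c4 hr).1 hx
    exact ⟨e_mem_U hr h2 t, hg r hr h2 t⟩
  exact fun u hu => (h1 hu).2

theorem chk_facts : v 47 = v 46 + v 24 ∧ cpr c4 isType.isCartan (v 24) (v 46) = -1 ∧
    cpr c4 isType.isCartan (v 46) (v 24) = -1 ∧ v 44 = v 40 + v 33 ∧ cpr c4 isType.isCartan (v 33) (v 40) = -1 ∧
    cpr c4 isType.isCartan (v 40) (v 33) = -1 ∧ 0 ≤ cpr c4 isType.isCartan (v 40) (v 46) ∧
    0 ≤ cpr c4 isType.isCartan (v 46) (v 33) ∧ 0 ≤ cpr c4 isType.isCartan (v 40) (v 24) := by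
  have h := chk4724
  simp only [Bool.and_eq_true, decide_eq_true_eq] at h
  obtain ⟨⟨⟨⟨⟨⟨⟨⟨h1, h2⟩, h3⟩, h4⟩, h5⟩, h6⟩, h7⟩, h8⟩, h9⟩ := h
  refine ⟨lin_one h1, ?_, ?_, lin_one h4, ?_, ?_, ?_, ?_, ?_⟩
  · rw [cpr_v c4 (by norm_num) (by norm_num)]; exact h2
  · rw [cpr_v c4 (by norm_num) (by norm_num)]; exact h3
  · rw [cpr_v c4 (by norm_num) (by norm_num)]; exact h5
  · rw [cpr_v c4 (by norm_num) (by norm_num)]; exact h6
  · exact (testBit_nn c4 (by norm_num) (by norm_num)).1 h7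
  · exact (testBit_nn c4 (by norm_num) (by norm_num)).1 h8
  · exact (testBit_nn c4 (by norm_num) (by norm_num)).1 h9

theorem c46_24 (a t : K) : ⁅eF K (v 46) a, eF K (v 24) t⁆ = eF K (v 47) (a * t) := by
  obtain ⟨h1, h2, h3, -⟩ := chk_facts
  rw [(dat (K := K)).comm1 _ _ (rv (by norm_num)) (rv (by norm_num)) h3 h2, ← h1]

theorem c40_33 (a t : K) : ⁅eF K (v 40) a, eF K (v 33) t⁆ = eF K (v 44) (a * t) := by
  obtain ⟨-, -, -, h1, h2, h3, -⟩ := chk_facts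
  rw [(dat (K := K)).comm1 _ _ (rv (by norm_num)) (rv (by norm_num)) h3 h2, ← h1]

theorem comm_one {r s : ℕ} (hr : r < 48) (hs : s < 48) (h : 0 ≤ cpr c4 isType.isCartan (v r) (v s)) (a t : K) :
    ⁅eF K (v r) a, eF K (v s) t⁆ = 1 := by
  rw [commutatorElement_eq_one_iff_mul_comm]
  exact (dat (K := K)).comm_of_nonneg (rv hr) (rv hs) h a t

theorem comm46 (a : K) : ∀ u ∈ UK K, ⁅eF K (v 46) a, u⁆ ∈ X1 K := by
  refine comm_mem_of_gen le_sup_left fun r hr h24 t => ?_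
  by_cases h : r = 24
  · subst h
    rw [c46_24]; exact e_mem_X (rv (by norm_num)) _
  · have h1 := List.all_eq_true.1 chk46 r (List.mem_range.2 hr)
    rw [Bool.or_eq_true, Bool.or_eq_true, decide_eq_true_eq, decide_eq_true_eq] at h1
    have h2 : (nn r).testBit 46 = true := by
      rcases h1 with (h1 | h1) | h1
      · omega
      · exact absurd h1 h
      · exact h1
    rw [comm_one (by norm_num) hr ((testBit_nn c4 hr (by norm_num)).1 h2)]; exact one_mem _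

theorem comm40 (a : K) : ∀ u ∈ UK K, ⁅eF K (v 40) a, u⁆ ∈ X2 K := by
  refine comm_mem_of_gen le_sup_right fun r hr h24 t => ?_
  by_cases h : r = 33
  · subst h
    rw [c40_33]; exact e_mem_X (rv (by norm_num)) _
  · have h1 := List.all_eq_true.1 chk40 r (List.mem_range.2 hr)
    rw [Bool.or_eq_true, Bool.or_eq_true, decide_eq_true_eq, decide_eq_true_eq] at h1
    have h2 : (nn r).testBit 40 = true := by
      rcases h1 with (h1 | h1) | h1
      · omega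
      · exact absurd h1 h
      · exact h1
    rw [comm_one (by norm_num) hr ((testBit_nn c4 hr (by norm_num)).1 h2)]; exact one_mem _

theorem X1_le_der : X1 K ≤ ⁅UK K, UK K⁆ := by
  intro z hz
  obtain ⟨t, rfl⟩ := (mem_XF (rv (by norm_num))).1 hz
  have h1 := Subgroup.commutator_mem_commutator (e_mem_U (K := K) (r := 46) (by norm_num) (by norm_num) t)
    (e_mem_U (K := K) (r := 24) (by norm_num) (by norm_num) 1)
  rwa [c46_24, mul_one] at h1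

theorem X2_le_der : X2 K ≤ ⁅UK K, UK K⁆ := by
  intro z hz
  obtain ⟨t, rfl⟩ := (mem_XF (rv (by norm_num))).1 hz
  have h1 := Subgroup.commutator_mem_commutator (e_mem_U (K := K) (r := 40) (by norm_num) (by norm_num) t)
    (e_mem_U (K := K) (r := 33) (by norm_num) (by norm_num) 1)
  rwa [c40_33, mul_one] at h1

/-- a nontrivial element of every non-simple positive root group in `U'` -/
theorem exists_der (hK : 2 < Nat.card K) {r : ℕ} (hr : r < 48) (hns : nsM.testBit r = true) :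
    ∃ z ∈ XF K (v r), z ≠ 1 ∧ z ∈ ⁅UK K, UK K⁆ := by
  have D := dat (K := K)
  obtain ⟨l, hl, hl2⟩ := exists_zpow_ne hK
  have hl1 : l ≠ 1 := by
    have := hl2 1 one_ne_zero (by norm_num) (by norm_num)
    rwa [zpow_one] at this
  have key : ∀ b d, b < 48 → d < 48 → 24 ≤ b → 24 ≤ d → ∀ t u : K, ⁅eF K (v b) t, eF K (v d) u⁆ ∈ ⁅UK K, UK K⁆ :=
    fun b d hb hd hb' hd' t u => Subgroup.commutator_mem_commutator (e_mem_U hb hb' t) (e_mem_U hd hd' u)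
  have h1 := List.all_eq_true.1 chkN r (List.mem_range.2 hr)
  rw [hns, Bool.not_true, Bool.false_or, Bool.or_eq_true] at h1
  rcases h1 with h1 | h1
  · obtain ⟨q, hq, h1⟩ := List.any_eq_true.1 h1
    obtain ⟨l1, l2⟩ := decs_lt hr hq
    simp only [Bool.and_eq_true, decide_eq_true_eq] at h1
    obtain ⟨⟨⟨⟨h1, h2⟩, h3⟩, h4⟩, h5⟩ := h1
    refine ⟨eF K (v r) 1, e_mem_X (rv hr) 1, D.ne_one (rv hr) one_ne_zero, ?_⟩
    have h6 := key _ _ l1 l2 h1 h2 1 1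
    rwa [D.comm1 _ _ (rv l1) (rv l2) (by rw [cpr_v c4 l2 l1]; exact h4) (by rw [cpr_v c4 l1 l2]; exact h3), mul_one,
      ← lin_one h5] at h6
  · obtain ⟨b, hb, h1⟩ := List.any_eq_true.1 h1
    obtain ⟨d, hd, h1⟩ := List.any_eq_true.1 h1
    rw [List.mem_range] at hb hd
    simp only [Bool.and_eq_true, decide_eq_true_eq] at h1
    obtain ⟨⟨⟨⟨h1, h2⟩, h3⟩, h4⟩, h5⟩ := h1
    obtain ⟨f, hf, h5⟩ := List.any_eq_true.1 h5
    rw [List.mem_range] at hf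
    rw [Bool.or_eq_true, Bool.and_eq_true, Bool.and_eq_true] at h5
    have hc2 : ∀ t u : K, ⁅eF K (v b) t, eF K (v d) u⁆ =
        eF K (v b + v d) (t * u) * eF K (v b + (2 : ℤ) • v d) (t * u ^ 2) := fun t u =>
      D.comm2 _ _ (rv hb) (rv hd) (by rw [cpr_v c4 hd hb]; exact h3) (by rw [cpr_v c4 hb hd]; exact h4) t u
    have hne : ∀ m : K, m ≠ 1 → (1 : K) + m ≠ 0 := by
      intro m hm h
      apply hm
      have h9 : (2 : K) = 0 := CharTwo.two_eq_zero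
      linear_combination h - h9
    rcases h5 with ⟨h5, h6⟩ | ⟨h5, h6⟩
    · rw [lin_one h5]
      have hbd : IsRoot c4 isType.isCartan (v b + v d) := by rw [← lin_one h5]; exact rv hr
      have hbd2 : IsRoot c4 isType.isCartan (v b + (2 : ℤ) • v d) := by rw [← lin_two h6]; exact rv hf
      refine ⟨eF K (v b + v d) (1 + l⁻¹), e_mem_X hbd _, D.ne_one hbd (hne _ (fun h => hl1 (inv_eq_one.1 h))), ?_⟩
      have h7 := mul_mem (key b d hb hd h1 h2 1 1) (inv_mem (key b d hb hd h1 h2 ((l ^ 2)⁻¹) l))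
      rw [hc2, hc2] at h7
      have e1 : (l ^ 2)⁻¹ * l = l⁻¹ := by field_simp
      have e2 : (l ^ 2)⁻¹ * l ^ 2 = 1 := inv_mul_cancel₀ (pow_ne_zero 2 hl)
      rw [e1, e2, one_pow, mul_one, mul_inv_rev, D.inv hbd2, D.inv hbd] at h7
      have e3 : eF K (v b + v d) 1 * eF K (v b + (2 : ℤ) • v d) 1 * (eF K (v b + (2 : ℤ) • v d) 1 *
          eF K (v b + v d) l⁻¹) = eF K (v b + v d) (1 + l⁻¹) := by
        rw [D.add _ hbd]
        calc _ = eF K (v b + v d) 1 * (eF K (v b + (2 : ℤ) • v d) 1 * eF K (v b + (2 : ℤ) • v d) 1) *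
              eF K (v b + v d) l⁻¹ := by group
          _ = _ := by rw [D.sq hbd2, mul_one]
      rwa [e3] at h7
    · rw [lin_two h5]
      have hbd : IsRoot c4 isType.isCartan (v b + v d) := by rw [← lin_one h6]; exact rv hf
      have hbd2 : IsRoot c4 isType.isCartan (v b + (2 : ℤ) • v d) := by rw [← lin_two h5]; exact rv hr
      refine ⟨eF K (v b + (2 : ℤ) • v d) (1 + l), e_mem_X hbd2 _, D.ne_one hbd2 (hne _ hl1), ?_⟩
      have h7 := mul_mem (inv_mem (key b d hb hd h1 h2 1 1)) (key b d hb hd h1 h2 l⁻¹ l)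
      rw [hc2, hc2] at h7
      have e1 : l⁻¹ * l = 1 := inv_mul_cancel₀ hl
      have e2 : l⁻¹ * l ^ 2 = l := by field_simp
      rw [e1, e2, one_pow, mul_one, mul_inv_rev, D.inv hbd2, D.inv hbd] at h7
      have e3 : eF K (v b + (2 : ℤ) • v d) 1 * eF K (v b + v d) 1 * (eF K (v b + v d) 1 *
          eF K (v b + (2 : ℤ) • v d) l) = eF K (v b + (2 : ℤ) • v d) (1 + l) := by
        rw [D.add _ hbd2]
        calc _ = eF K (v b + (2 : ℤ) • v d) 1 * (eF K (v b + v d) 1 * eF K (v b + v d) 1) *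
              eF K (v b + (2 : ℤ) • v d) l := by group
          _ = _ := by rw [D.sq hbd, mul_one]
      rwa [e3] at h7

theorem comm4640 (a b : K) : eF K (v 46) a * eF K (v 40) b = eF K (v 40) b * eF K (v 46) a := by
  obtain ⟨-, -, -, -, -, -, h1, -⟩ := chk_facts
  exact ((dat (K := K)).comm_of_nonneg (rv (by norm_num)) (rv (by norm_num)) h1 b a).symm

/-- The second centre of `U`. -/
theorem mem_Z2 (hK : 2 < Nat.card K) {g : ↥(chevF4.group K)} (hg : ∀ u ∈ UK K, ⁅g, u⁆ ∈ ZK K) :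
    ∃ a b : K, ∃ z ∈ ZK K, g = eF K (v 46) a * eF K (v 40) b * z := by
  -- `g` centralises `U'`
  have h1 : ∀ x ∈ UK K, ∀ y ∈ UK K, g * ⁅x, y⁆ = ⁅x, y⁆ * g := by
    intro x hx y hy
    obtain ⟨z, hz⟩ : ∃ z, ⁅g, x⁆ = z := ⟨_, rfl⟩
    obtain ⟨z', hz'⟩ : ∃ z', ⁅g, y⁆ = z' := ⟨_, rfl⟩
    have hzZ : z ∈ ZK K := hz ▸ hg x hx
    have hzZ' : z' ∈ ZK K := hz' ▸ hg y hy
    have e1 : g * x * g⁻¹ = z * x := by rw [← hz, commutatorElement_def]; group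
    have e2 : g * y * g⁻¹ = z' * y := by rw [← hz', commutatorElement_def]; group
    have k1 : x * z' = z' * x := L_commZ (U_le_L hx) hzZ'
    have k2 : y * z = z * y := L_commZ (U_le_L hy) hzZ
    have k3 : z * z' = z' * z := L_commZ (U_le_L (sup_le X1_le_U X2_le_U hzZ)) hzZ'
    have k4 : y⁻¹ * z'⁻¹ = z'⁻¹ * y⁻¹ := by
      have : z' * y = y * z' := (L_commZ (U_le_L hy) hzZ').symm
      rw [← mul_inv_rev, ← mul_inv_rev, this]
    have e3 : g * ⁅x, y⁆ * g⁻¹ = ⁅z * x, z' * y⁆ := by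
      rw [← e1, ← e2, commutatorElement_def, commutatorElement_def]; group
    have cz : Commute z x := (L_commZ (U_le_L hx) hzZ).symm
    have cz2 : Commute z y := (L_commZ (U_le_L hy) hzZ).symm
    have cz' : Commute z' x := (L_commZ (U_le_L hx) hzZ').symm
    have cz3 : Commute z' y := (L_commZ (U_le_L hy) hzZ').symm
    have czz : Commute z z' := k3
    have e4 : ⁅z * x, z' * y⁆ = ⁅x, y⁆ := by
      have c1 : Commute z (x * (z' * y) * x⁻¹) := (cz.mul_right (czz.mul_right cz2)).mul_right cz.inv_right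
      rw [commutatorElement_def, commutatorElement_def]
      calc z * x * (z' * y) * (z * x)⁻¹ * (z' * y)⁻¹
          = z * (x * (z' * y) * x⁻¹) * z⁻¹ * (z' * y)⁻¹ := by group
        _ = (x * (z' * y) * x⁻¹) * z * z⁻¹ * (z' * y)⁻¹ := by rw [c1.eq]
        _ = x * z' * y * x⁻¹ * (z' * y)⁻¹ := by group
        _ = z' * (x * y * x⁻¹) * (z' * y)⁻¹ := by rw [← cz'.eq]; group
        _ = (x * y * x⁻¹) * z' * (z' * y)⁻¹ := by
            rw [((cz'.mul_right cz3).mul_right cz'.inv_right).eq]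
        _ = x * y * x⁻¹ * y⁻¹ := by rw [cz3.eq]; group
    calc g * ⁅x, y⁆ = g * ⁅x, y⁆ * g⁻¹ * g := by group
      _ = ⁅x, y⁆ * g := by rw [e3, e4]
  have h2 : ∀ w ∈ ⁅UK K, UK K⁆, g * w = w * g := by
    have : ⁅UK K, UK K⁆ ≤ Subgroup.centralizer ({g} : Set ↥(chevF4.group K)) := by
      rw [Subgroup.commutator_le]
      intro x hx y hy
      exact Subgroup.mem_centralizer_singleton_iff.2 (h1 x hx y hy).symm
    exact fun w hw => (Subgroup.mem_centralizer_singleton_iff.1 (this hw)).symm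
  have h3 : g ∈ RGD.Sup (XF K) {v 47, v 46, v 44, v 40} := by
    refine cent_nonsimple c4 ?_
    rw [← SetOf_ns c4]
    rintro x ⟨r, hr, hr', rfl⟩
    obtain ⟨z, hz, hz1, hzd⟩ := exists_der hK hr hr'
    exact ⟨z, hz, hz1, h2 z hzd⟩
  have c1 : ∀ a ∈ XF K (v 46), ∀ b ∈ XF K (v 40), a * b = b * a := by
    intro a ha b hb
    obtain ⟨s, rfl⟩ := (mem_XF (rv (by norm_num))).1 ha
    obtain ⟨t, rfl⟩ := (mem_XF (rv (by norm_num))).1 hb
    exact comm4640 s t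
  have hle : XF K (v 46) ⊔ XF K (v 40) ≤ UK K :=
    sup_le (X_le_U (by norm_num) (by norm_num)) (X_le_U (by norm_num) (by norm_num))
  have h4 : g ∈ (XF K (v 46) ⊔ XF K (v 40)) ⊔ ZK K := by
    refine (RGD.Sup_le ?_ : RGD.Sup (XF K) {v 47, v 46, v 44, v 40} ≤ _) h3
    rintro x (rfl | rfl | rfl | rfl)
    · exact le_sup_left.trans le_sup_right
    · exact le_sup_left.trans le_sup_left
    · exact le_sup_right.trans le_sup_right
    · exact le_sup_right.trans le_sup_left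
  obtain ⟨y, hy, z, hz, rfl⟩ := (KFacts.RgdAutCent.mem_sup_comm (fun a ha b hb => L_commZ (U_le_L (hle ha)) hb)).1 h4
  obtain ⟨a, ha, b, hb, rfl⟩ := (KFacts.RgdAutCent.mem_sup_comm c1).1 hy
  obtain ⟨s, rfl⟩ := (mem_XF (rv (by norm_num))).1 ha
  obtain ⟨t, rfl⟩ := (mem_XF (rv (by norm_num))).1 hb
  exact ⟨s, t, z, hz, rfl⟩

/-- The three types of elements of the second centre. -/
theorem tri (hK : 2 < Nat.card K) {g : ↥(chevF4.group K)} (hg : ∀ u ∈ UK K, ⁅g, u⁆ ∈ ZK K) :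
    (∀ u ∈ UK K, ⁅g, u⁆ ∈ X1 K) ∨ (∀ u ∈ UK K, ⁅g, u⁆ ∈ X2 K) ∨
      ∀ a ∈ X1 K, ∀ b ∈ X2 K, ∃ u ∈ UK K, ⁅g, u⁆ = a * b := by
  obtain ⟨a, b, z, hz, rfl⟩ := mem_Z2 hK hg
  have D := dat (K := K)
  have h1 : ∀ u ∈ UK K, ⁅eF K (v 46) a * eF K (v 40) b * z, u⁆ = ⁅eF K (v 46) a, u⁆ * ⁅eF K (v 40) b, u⁆ := by
    intro u hu
    have k1 : u * z = z * u := L_commZ (U_le_L hu) hz
    have k2 := L_commZ (U_le_L (e_mem_U (K := K) (r := 46) (by norm_num) (by norm_num) a))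
      (Subgroup.mem_sup_right (S := X1 K) (comm40 b u hu))
    calc ⁅eF K (v 46) a * eF K (v 40) b * z, u⁆
        = eF K (v 46) a * eF K (v 40) b * (z * u) * z⁻¹ * (eF K (v 40) b)⁻¹ * (eF K (v 46) a)⁻¹ * u⁻¹ := by
          rw [commutatorElement_def]; group
      _ = eF K (v 46) a * ⁅eF K (v 40) b, u⁆ * (u * (eF K (v 46) a)⁻¹ * u⁻¹) := by
          rw [← k1, commutatorElement_def]; group
      _ = ⁅eF K (v 40) b, u⁆ * ⁅eF K (v 46) a, u⁆ := by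
          rw [k2]
          simp only [commutatorElement_def]; group
      _ = ⁅eF K (v 46) a, u⁆ * ⁅eF K (v 40) b, u⁆ :=
          (L_comm2 (U_le_L (X1_le_U (comm46 a u hu))) (comm40 b u hu)).symm
  by_cases ha : a = 0
  · right; left
    intro u hu
    rw [h1 u hu, ha, D.zero (rv (by norm_num)), commutatorElement_one_left, one_mul]
    exact comm40 b u hu
  by_cases hb : b = 0
  · left
    intro u hu
    rw [h1 u hu, hb, D.zero (rv (by norm_num)), commutatorElement_one_left, mul_one]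
    exact comm46 a u hu
  right; right
  intro x hx y hy
  obtain ⟨s, rfl⟩ := (mem_XF (rv (by norm_num))).1 hx
  obtain ⟨t, rfl⟩ := (mem_XF (rv (by norm_num))).1 hy
  obtain ⟨-, -, -, -, -, -, -, q1, q2⟩ := chk_facts
  have m1 := e_mem_U (K := K) (r := 24) (by norm_num) (by norm_num) (a⁻¹ * s)
  have m2 := e_mem_U (K := K) (r := 33) (by norm_num) (by norm_num) (b⁻¹ * t)
  refine ⟨eF K (v 24) (a⁻¹ * s) * eF K (v 33) (b⁻¹ * t), mul_mem m1 m2, ?_⟩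
  rw [h1 _ (mul_mem m1 m2), comm_mul le_sup_left m1 (comm46 a _ m2), comm_mul le_sup_right m1 (comm40 b _ m2),
    c46_24, c40_33, comm_one (by norm_num) (by norm_num) q1, comm_one (by norm_num) (by norm_num) q2, mul_one, one_mul,
    mul_inv_cancel_left₀ ha, mul_inv_cancel_left₀ hb]

end Cfsg.Agent.OddHalf.D7F4.KFront

end
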