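import Mathlib
import Cfsg.Agent.OddHalf.D7F4.Roots
import Cfsg.Agent.OddHalf.SL.One
import Cfsg.Agent.OddHalf.SL.Bridge

-- merged: Cfsg.Agent.OddHalf.D7F4.TypeC
section

/-!
# Types of the doubled root groups of `F4(q)`, `q ≥ 4` even (ODD D7, text #8532 (3)(4); helper588)

`t` an involution, `X` root groups of `K ≤ C_G(t)`, `W ≥ X` doubled root groups (`IsW`). `W` is of type C if it commutes
with the orthogonal root groups of the same length, of type O if it acts nontrivially on all of them.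

* `false_of_C_O` : type C at `s` (`s, s₁` orthogonal of the same length, `r = s₁ - s`, `ρ = mid(s, s₁)`) and type O at `ρ`
  are incompatible;
* `false_of_O_O` : type O at both lengths is impossible;
* `IsW.exists_diff`, `comm_mem_of_torus`, `comm_eq_one_of_torus` : the torus arguments (`q ≥ 4`).
-/

set_option autoImplicit false

namespace Cfsg.Agent.OddHalf.D7F4.TypeC

variable {G : Type*} [Group G]

/-- `[w, t] = w⁻¹ (t w t)` -/
def D (t w : G) : G := w⁻¹ * (t * w * t)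

section D

variable {t : G} (tt : t * t = 1)

include tt

theorem t_inv : t⁻¹ = t := inv_eq_of_mul_eq_one_left tt

theorem D_mul (v w : G) : D t (v * w) = w⁻¹ * D t v * w * D t w := by
  unfold D
  calc (v * w)⁻¹ * (t * (v * w) * t) = w⁻¹ * v⁻¹ * t * v * 1 * w * t := by group
    _ = w⁻¹ * v⁻¹ * t * v * (t * t) * w * t := by rw [tt]
    _ = _ := by group

theorem D_inv (g : G) : D t g⁻¹ = g * (D t g)⁻¹ * g⁻¹ := by
  unfold D
  calc g⁻¹⁻¹ * (t * g⁻¹ * t) = g * (t⁻¹ * g⁻¹ * t⁻¹) := by rw [t_inv tt, inv_inv]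
    _ = _ := by group

theorem D_eq_one {w : G} : D t w = 1 ↔ t * w = w * t := by
  unfold D
  rw [inv_mul_eq_one]
  constructor
  · intro h
    calc t * w = t * (t * w * t) := by rw [← h]
      _ = (t * t) * w * t := by group
      _ = w * t := by rw [tt, one_mul]
  · intro h
    rw [h, mul_assoc, tt, mul_one]

omit tt in
theorem D_conj {x : G} (hx : t * x = x * t) (w : G) : D t (x⁻¹ * w * x) = x⁻¹ * D t w * x := by
  unfold D
  have h1 : t * x⁻¹ = x⁻¹ * t := by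
    rw [eq_inv_mul_iff_mul_eq, ← mul_assoc, ← hx, mul_inv_cancel_right]
  calc (x⁻¹ * w * x)⁻¹ * (t * (x⁻¹ * w * x) * t) = x⁻¹ * w⁻¹ * x * ((t * x⁻¹) * w * (x * t)) := by group
    _ = x⁻¹ * w⁻¹ * x * ((x⁻¹ * t) * w * (t * x)) := by rw [h1, hx]
    _ = x⁻¹ * (w⁻¹ * (t * w * t)) * x := by group

omit tt in
theorem D_conj' {x : G} (hx : t * x = x * t) (w : G) : D t (x * w * x⁻¹) = x * D t w * x⁻¹ := by
  have h1 : t * x⁻¹ = x⁻¹ * t := by
    rw [eq_inv_mul_iff_mul_eq, ← mul_assoc, ← hx, mul_inv_cancel_right]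
  have := D_conj (t := t) (x := x⁻¹) h1 w
  rwa [inv_inv] at this

omit tt in
theorem conj_t (w : G) : t * w * t = w * D t w := by unfold D; group

end D

/-- `W` is a doubled root group over `X`. -/
structure IsW (t : G) (X W : Subgroup G) : Prop where
  tX : ∀ x ∈ X, t * x = x * t
  XW : X ≤ W
  sq : ∀ w ∈ W, w * w = 1
  brk : ∀ w ∈ W, w⁻¹ * (t * w * t) ∈ X
  cent : ∀ w ∈ W, t * w = w * t → w ∈ X
  surj : ∀ x ∈ X, ∃ w ∈ W, w⁻¹ * (t * w * t) = x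

theorem inv_of_sq {w : G} (h : w * w = 1) : w⁻¹ = w := inv_eq_of_mul_eq_one_left h

theorem comm_of_sq {v w : G} (hv : v * v = 1) (hw : w * w = 1) (hvw : v * w * (v * w) = 1) : v * w = w * v := by
  have h : (v * w)⁻¹ = v * w := inv_of_sq hvw
  rw [mul_inv_rev, inv_of_sq hv, inv_of_sq hw] at h
  exact h.symm

namespace IsW

variable {t : G} {X W : Subgroup G}

theorem inv (h : IsW t X W) {w : G} (hw : w ∈ W) : w⁻¹ = w := inv_of_sq (h.sq w hw)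

theorem ab (h : IsW t X W) {v w : G} (hv : v ∈ W) (hw : w ∈ W) : v * w = w * v :=
  comm_of_sq (h.sq v hv) (h.sq w hw) (h.sq _ (mul_mem hv hw))

theorem conj_mem (h : IsW t X W) {w : G} (hw : w ∈ W) : t * w * t ∈ W := by
  have := mul_mem hw (h.XW (h.brk w hw))
  rwa [mul_inv_cancel_left] at this

/-- A torus element without fixed points on `X`: `W = [W, δ] X`. -/
theorem exists_diff [Finite G] (tt : t * t = 1) (h : IsW t X W) {δ : G} (δt : t * δ = δ * t)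
    (δW : ∀ w ∈ W, δ * w * δ⁻¹ ∈ W) (fpf : ∀ x ∈ X, δ * x = x * δ → x = 1) {z : G} (hz : z ∈ W) :
    ∃ z' ∈ W, ∃ x ∈ X, z = δ * z' * δ⁻¹ * z' * x := by
  have δX : ∀ x ∈ X, δ * x * δ⁻¹ ∈ X := by
    intro x hx
    apply h.cent _ (δW x (h.XW hx))
    calc t * (δ * x * δ⁻¹) = (t * δ) * x * δ⁻¹ := by group
      _ = δ * (t * x) * δ⁻¹ := by rw [δt]; group
      _ = δ * x * (δ⁻¹ * (δ * t) * δ⁻¹) := by rw [h.tX x hx]; group
      _ = δ * x * (δ⁻¹ * (t * δ) * δ⁻¹) := by rw [δt]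
      _ = δ * x * δ⁻¹ * t := by group
  let f : X → X := fun x => ⟨δ * x * δ⁻¹ * x, mul_mem (δX x x.2) x.2⟩
  have hf : Function.Injective f := by
    rintro ⟨a, ha⟩ ⟨b, hb⟩ hab
    have h1 : δ * a * δ⁻¹ * a = δ * b * δ⁻¹ * b := congrArg Subtype.val hab
    apply Subtype.ext
    show a = b
    have h2 : a * b⁻¹ = 1 := by
      apply fpf _ (mul_mem ha (inv_mem hb))
      have e1 : a * b⁻¹ = b⁻¹ * a := h.ab (h.XW ha) (inv_mem (h.XW hb))
      have e2 : δ * (a * b⁻¹) * δ⁻¹ = a * b⁻¹ := by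
        have h3 : δ * b⁻¹ * δ⁻¹ * (δ * a * δ⁻¹) * a = b := by
          calc δ * b⁻¹ * δ⁻¹ * (δ * a * δ⁻¹) * a = (δ * b * δ⁻¹)⁻¹ * (δ * a * δ⁻¹ * a) := by group
            _ = (δ * b * δ⁻¹)⁻¹ * (δ * b * δ⁻¹ * b) := by rw [h1]
            _ = b := by group
        calc δ * (a * b⁻¹) * δ⁻¹ = δ * (b⁻¹ * a) * δ⁻¹ := by rw [e1]
          _ = (δ * b⁻¹ * δ⁻¹ * (δ * a * δ⁻¹) * a) * a⁻¹ := by group
          _ = b * a⁻¹ := by rw [h3]
          _ = a * b⁻¹ := by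
            rw [h.inv (h.XW ha), h.inv (h.XW hb)]
            exact h.ab (h.XW hb) (h.XW ha)
      calc δ * (a * b⁻¹) = δ * (a * b⁻¹) * δ⁻¹ * δ := by group
        _ = a * b⁻¹ * δ := by rw [e2]
    exact mul_inv_eq_one.1 h2
  obtain ⟨⟨x', hx'⟩, hfx⟩ := Finite.surjective_of_injective hf ⟨D t z, h.brk z hz⟩
  have hfx' : δ * x' * δ⁻¹ * x' = D t z := congrArg Subtype.val hfx
  obtain ⟨z', hz', hzz⟩ := h.surj x' hx'
  have hzD : D t z' = x' := hzz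
  have h1 : D t (δ * z' * δ⁻¹ * z') = D t z := by
    have c1 : z'⁻¹ * (δ * x' * δ⁻¹) * z' = δ * x' * δ⁻¹ := by
      rw [mul_assoc, h.ab (h.XW (δX x' hx')) hz', inv_mul_cancel_left]
    rw [D_mul tt, D_conj' δt, hzD, c1, hfx']
  have hm : δ * z' * δ⁻¹ * z' ∈ W := mul_mem (δW z' hz') hz'
  refine ⟨z', hz', (δ * z' * δ⁻¹ * z')⁻¹ * z, ?_, by group⟩
  apply h.cent _ (mul_mem (inv_mem hm) hz)
  rw [← D_eq_one tt, D_mul tt, D_inv tt, h1]
  have hDz : D t z ∈ X := h.brk z hz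
  have c2 : ∀ w ∈ W, w * (D t z)⁻¹ * w⁻¹ = (D t z)⁻¹ := by
    intro w hw
    rw [h.ab hw (inv_mem (h.XW hDz)), mul_inv_cancel_right]
  rw [c2 _ hm]
  have c3 := c2 _ (inv_mem hz)
  rw [inv_inv] at c3
  rw [c3, inv_mul_cancel]

end IsW

/-- Commutators of two doubled root groups with `[W₁, X₂] = [X₁, W₂] = 1` commute with `t`. -/
theorem comm_t {t : G} (tt : t * t = 1) {X₁ X₂ W₁ W₂ : Subgroup G} (h₁ : IsW t X₁ W₁) (h₂ : IsW t X₂ W₂)
    (c12 : ∀ w ∈ W₁, ∀ x ∈ X₂, w * x = x * w) (c21 : ∀ w ∈ W₂, ∀ x ∈ X₁, w * x = x * w) {y z : G} (hy : y ∈ W₁)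
    (hz : z ∈ W₂) : y⁻¹ * z⁻¹ * y * z * t = t * (y⁻¹ * z⁻¹ * y * z) := by
  have ey : t * y * t = y * D t y := conj_t y
  have ez : t * z * t = z * D t z := conj_t z
  have hDy : D t y ∈ X₁ := h₁.brk y hy
  have hDz : D t z ∈ X₂ := h₂.brk z hz
  have a1 : D t y * z = z * D t y := (c21 z hz _ hDy).symm
  have a2 : D t z * y = y * D t z := (c12 y hy _ hDz).symm
  have a3 : D t y * y = y * D t y := h₁.ab (h₁.XW hDy) hy
  have a4 : D t z * z = z * D t z := h₂.ab (h₂.XW hDz) hz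
  have a5 : D t y * D t z = D t z * D t y := (c12 _ (h₁.XW hDy) _ hDz)
  have iy : y⁻¹ = y := h₁.inv hy
  have iz : z⁻¹ = z := h₂.inv hz
  have sy := h₁.sq _ (h₁.XW hDy)
  have sz := h₂.sq _ (h₂.XW hDz)
  have key : t * (y * z * y * z) * t = y * z * y * z := by
    have e1 : t * (y * z * y * z) * t = (t * y * t) * (t * z * t) * (t * y * t) * (t * z * t) := by
      symm
      calc (t * y * t) * (t * z * t) * (t * y * t) * (t * z * t)
          = t * y * (t * t) * z * (t * t) * y * (t * t) * z * t := by group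
        _ = t * (y * z * y * z) * t := by rw [tt]; group
    rw [e1, ey, ez]
    calc y * D t y * (z * D t z) * (y * D t y) * (z * D t z)
        = y * (D t y * z) * (D t z * y) * (D t y * z) * D t z := by group
      _ = y * (z * D t y) * (y * D t z) * (z * D t y) * D t z := by rw [a1, a2]
      _ = y * z * (D t y * y) * (D t z * z) * D t y * D t z := by group
      _ = y * z * (y * D t y) * (z * D t z) * D t y * D t z := by rw [a3, a4]
      _ = y * z * y * (D t y * z) * (D t z * D t y) * D t z := by group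
      _ = y * z * y * (z * D t y) * (D t y * D t z) * D t z := by rw [a1, a5]
      _ = y * z * y * z * (D t y * D t y) * (D t z * D t z) := by group
      _ = y * z * y * z := by rw [sy, sz, mul_one, mul_one]
  rw [iy, iz]
  calc y * z * y * z * t = (t * t) * (y * z * y * z * t) := by rw [tt, one_mul]
    _ = t * (t * (y * z * y * z) * t) := by group
    _ = t * (y * z * y * z) := by rw [key]

/-- The commutator has no `t`-component. -/
theorem comm_no_t {t : G} (tt : t * t = 1) {X₁ X₂ W₁ W₂ : Subgroup G} (h₁ : IsW t X₁ W₁) (h₂ : IsW t X₂ W₂)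
    (c12 : ∀ w ∈ W₁, ∀ x ∈ X₂, w * x = x * w) (c21 : ∀ w ∈ W₂, ∀ x ∈ X₁, w * x = x * w) {y z : G} (hy : y ∈ W₁)
    (hz : z ∈ W₂)
    (hc : ∃ a ∈ X₁, ∃ b ∈ X₂, y⁻¹ * z⁻¹ * y * z = a * b ∨ y⁻¹ * z⁻¹ * y * z = t * (a * b)) :
    ∃ a ∈ X₁, ∃ b ∈ X₂, y⁻¹ * z⁻¹ * y * z = a * b := by
  obtain ⟨a, ha, b, hb, hc | hc⟩ := hc
  · exact ⟨a, ha, b, hb, hc⟩
  have iy : y⁻¹ = y := h₁.inv hy
  have iz : z⁻¹ = z := h₂.inv hz
  have ab : a * b = b * a := c12 a (h₁.XW ha) b hb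
  have sa := h₁.sq a (h₁.XW ha)
  have sb := h₂.sq b (h₂.XW hb)
  have s1 : a * b * (a * b) = 1 := by
    calc a * b * (a * b) = a * (b * a) * b := by group
      _ = (a * a) * (b * b) := by rw [← ab]; group
      _ = 1 := by rw [sa, sb, mul_one]
  have ye : y * (a * b) = a * b * y := by
    calc y * (a * b) = (y * a) * b := by group
      _ = a * (y * b) := by rw [h₁.ab hy (h₁.XW ha)]; group
      _ = a * b * y := by rw [c12 y hy b hb]; group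
  have te : t * (a * b) = a * b * t := by
    calc t * (a * b) = (t * a) * b := by group
      _ = a * (t * b) := by rw [h₁.tX a ha]; group
      _ = a * b * t := by rw [h₂.tX b hb]; group
  have hyy := h₁.sq y hy
  have hzz := h₂.sq z hz
  -- `y c y = c⁻¹`
  have e1 : y * (y⁻¹ * z⁻¹ * y * z) * y = (y⁻¹ * z⁻¹ * y * z)⁻¹ := by
    rw [iy, iz]
    calc y * (y * z * y * z) * y = (y * y) * (z * y * z * y) := by group
      _ = z * y * z * y := by rw [hyy, one_mul]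
      _ = z⁻¹ * y⁻¹ * z⁻¹ * y⁻¹ := by rw [iy, iz]
      _ = (y * z * y * z)⁻¹ := by group
  rw [hc] at e1
  have e2 : (t * (a * b))⁻¹ = t * (a * b) := by
    apply inv_of_sq
    calc t * (a * b) * (t * (a * b)) = t * ((a * b) * t) * (a * b) := by group
      _ = (t * t) * (a * b * (a * b)) := by rw [← te]; group
      _ = 1 := by rw [tt, s1, mul_one]
  rw [e2] at e1
  -- so `y` commutes with `t`
  have e3 : y * t = t * y := by
    have h1 : y * t * y * (a * b) = t * (a * b) := by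
      calc y * t * y * (a * b) = y * t * (y * (a * b)) := by group
        _ = y * (t * (a * b)) * y := by rw [ye]; group
        _ = t * (a * b) := e1
    have h2 : y * t * y = t := mul_right_cancel h1
    calc y * t = y * t * (y * y) := by rw [hyy, mul_one]
      _ = (y * t * y) * y := by group
      _ = t * y := by rw [h2]
  have hyX := h₁.cent y hy e3.symm
  refine ⟨1, one_mem _, 1, one_mem _, ?_⟩
  have h3 := c21 z hz y hyX
  calc y⁻¹ * z⁻¹ * y * z = y⁻¹ * z⁻¹ * (y * z) := by group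
    _ = y⁻¹ * z⁻¹ * (z * y) := by rw [h3]
    _ = 1 * 1 := by group

/-- **The torus argument**: `δ` commutes with `W₁` and has no fixed points on `X₂`; then the `X₁`-component of
`[y, z]` is trivial. -/
theorem comm_mem_of_torus [Finite G] {t : G} (tt : t * t = 1) {X₁ X₂ W₁ W₂ : Subgroup G} (h₁ : IsW t X₁ W₁)
    (h₂ : IsW t X₂ W₂)
    (c12 : ∀ w ∈ W₁, ∀ x ∈ X₂, w * x = x * w) (c21 : ∀ w ∈ W₂, ∀ x ∈ X₁, w * x = x * w)
    (hall : ∀ y ∈ W₁, ∀ z ∈ W₂, ∃ a ∈ X₁, ∃ b ∈ X₂, y⁻¹ * z⁻¹ * y * z = a * b)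
    {δ : G} (δt : t * δ = δ * t) (δ₁ : ∀ w ∈ W₁, δ * w = w * δ) (δ₂ : ∀ w ∈ W₂, δ * w * δ⁻¹ ∈ W₂)
    (fpf : ∀ x ∈ X₂, δ * x = x * δ → x = 1) {y z : G} (hy : y ∈ W₁) (hz : z ∈ W₂) :
    y⁻¹ * z⁻¹ * y * z ∈ X₂ := by
  obtain ⟨z', hz', x, hx, rfl⟩ := h₂.exists_diff tt δt δ₂ fpf hz
  obtain ⟨a, ha, b, hb, hab⟩ := hall y hy z' hz'
  have hδX : δ * b * δ⁻¹ ∈ X₂ := by
    apply h₂.cent _ (δ₂ b (h₂.XW hb))
    calc t * (δ * b * δ⁻¹) = (t * δ) * b * δ⁻¹ := by group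
      _ = δ * (t * b) * δ⁻¹ := by rw [δt]; group
      _ = δ * b * (δ⁻¹ * (δ * t) * δ⁻¹) := by rw [h₂.tX b hb]; group
      _ = δ * b * (δ⁻¹ * (t * δ) * δ⁻¹) := by rw [δt]
      _ = δ * b * δ⁻¹ * t := by group
  -- `[y, δ z' δ⁻¹] = a (δ b δ⁻¹)`
  have e1 : y⁻¹ * (δ * z' * δ⁻¹)⁻¹ * y * (δ * z' * δ⁻¹) = a * (δ * b * δ⁻¹) := by
    have k1 := δ₁ y hy
    have k2 : δ * y⁻¹ = y⁻¹ * δ := δ₁ _ (inv_mem hy)
    have k3 := δ₁ a (h₁.XW ha)
    calc y⁻¹ * (δ * z' * δ⁻¹)⁻¹ * y * (δ * z' * δ⁻¹)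
        = (y⁻¹ * δ) * z'⁻¹ * (δ⁻¹ * (y * δ)) * z' * δ⁻¹ := by group
      _ = (δ * y⁻¹) * z'⁻¹ * (δ⁻¹ * (δ * y)) * z' * δ⁻¹ := by rw [k2, k1]
      _ = δ * (y⁻¹ * z'⁻¹ * y * z') * δ⁻¹ := by group
      _ = (δ * a) * b * δ⁻¹ := by rw [hab]; group
      _ = a * (δ * b * δ⁻¹) := by rw [k3]; group
  -- `[y, u v] = [y, v] (v⁻¹ [y, u] v)`
  have e2 : y⁻¹ * (δ * z' * δ⁻¹ * z' * x)⁻¹ * y * (δ * z' * δ⁻¹ * z' * x) = b * (δ * b * δ⁻¹) := by
    have hx1 : y * x = x * y := c12 y hy x hx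
    have sa : a * a = 1 := h₁.sq a (h₁.XW ha)
    have hz1 := c21 z' hz' a ha
    have hz2 : z' * (δ * b * δ⁻¹) = δ * b * δ⁻¹ * z' := h₂.ab hz' (h₂.XW hδX)
    have hx2 : (b * (δ * b * δ⁻¹)) * x = x * (b * (δ * b * δ⁻¹)) :=
      h₂.ab (h₂.XW (mul_mem hb hδX)) (h₂.XW hx)
    set u := δ * z' * δ⁻¹ with hu
    set b' := δ * b * δ⁻¹ with hb'
    have hab2 : a * b = b * a := c12 a (h₁.XW ha) b hb
    calc y⁻¹ * (u * z' * x)⁻¹ * y * (u * z' * x)
        = y⁻¹ * x⁻¹ * z'⁻¹ * u⁻¹ * y * u * z' * x := by group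
      _ = (y⁻¹ * x⁻¹ * y) * ((y⁻¹ * z'⁻¹ * y * z') * (z'⁻¹ * (y⁻¹ * u⁻¹ * y * u) * z')) * x := by group
      _ = x⁻¹ * ((a * b) * (z'⁻¹ * (a * b') * z')) * x := by
        have : y⁻¹ * x⁻¹ * y = x⁻¹ := by
          rw [mul_assoc, ← c12 y hy _ (inv_mem hx), inv_mul_cancel_left]
        rw [this, hab, e1]
      _ = x⁻¹ * ((a * b) * (z'⁻¹ * (a * (b' * z')))) * x := by group
      _ = x⁻¹ * ((a * b) * (z'⁻¹ * (a * (z' * b')))) * x := by rw [← hz2]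
      _ = x⁻¹ * ((a * b) * (z'⁻¹ * (a * z') * b')) * x := by group
      _ = x⁻¹ * ((a * b) * (z'⁻¹ * (z' * a) * b')) * x := by rw [← hz1]
      _ = x⁻¹ * ((b * a) * (z'⁻¹ * (z' * a) * b')) * x := by rw [hab2]
      _ = x⁻¹ * (b * (a * a) * b') * x := by group
      _ = x⁻¹ * ((b * b') * x) := by rw [sa]; group
      _ = b * b' := by rw [hx2, inv_mul_cancel_left]
  rw [e2]
  exact mul_mem hb hδX

/-- **The torus argument**, both sides: `[W₁, W₂] = 1`. -/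
theorem comm_eq_one_of_torus [Finite G] {t : G} (tt : t * t = 1) {X₁ X₂ W₁ W₂ : Subgroup G} (h₁ : IsW t X₁ W₁)
    (h₂ : IsW t X₂ W₂)
    (c12 : ∀ w ∈ W₁, ∀ x ∈ X₂, w * x = x * w) (c21 : ∀ w ∈ W₂, ∀ x ∈ X₁, w * x = x * w)
    (dis : ∀ x, x ∈ X₁ → x ∈ X₂ → x = 1)
    (hall : ∀ y ∈ W₁, ∀ z ∈ W₂, ∃ a ∈ X₁, ∃ b ∈ X₂, y⁻¹ * z⁻¹ * y * z = a * b ∨ y⁻¹ * z⁻¹ * y * z = t * (a * b))
    {δ δ' : G} (δt : t * δ = δ * t) (δ₁ : ∀ w ∈ W₁, δ * w = w * δ) (δ₂ : ∀ w ∈ W₂, δ * w * δ⁻¹ ∈ W₂)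
    (fpf : ∀ x ∈ X₂, δ * x = x * δ → x = 1)
    (δt' : t * δ' = δ' * t) (δ₂' : ∀ w ∈ W₂, δ' * w = w * δ') (δ₁' : ∀ w ∈ W₁, δ' * w * δ'⁻¹ ∈ W₁)
    (fpf' : ∀ x ∈ X₁, δ' * x = x * δ' → x = 1) {y z : G} (hy : y ∈ W₁) (hz : z ∈ W₂) : y * z = z * y := by
  have hall' : ∀ y ∈ W₁, ∀ z ∈ W₂, ∃ a ∈ X₁, ∃ b ∈ X₂, y⁻¹ * z⁻¹ * y * z = a * b := fun y hy z hz =>
    comm_no_t tt h₁ h₂ c12 c21 hy hz (hall y hy z hz)
  have m1 := comm_mem_of_torus tt h₁ h₂ c12 c21 hall' δt δ₁ δ₂ fpf hy hz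
  have hall'' : ∀ y ∈ W₂, ∀ z ∈ W₁, ∃ a ∈ X₂, ∃ b ∈ X₁, y⁻¹ * z⁻¹ * y * z = a * b := by
    intro y hy z hz
    obtain ⟨a, ha, b, hb, hab⟩ := hall' z hz y hy
    refine ⟨b⁻¹, inv_mem hb, a⁻¹, inv_mem ha, ?_⟩
    calc y⁻¹ * z⁻¹ * y * z = (z⁻¹ * y⁻¹ * z * y)⁻¹ := by group
      _ = (a * b)⁻¹ := by rw [hab]
      _ = b⁻¹ * a⁻¹ := by group
  have m2 := comm_mem_of_torus tt h₂ h₁ c21 c12 hall'' δt' δ₂' δ₁' fpf' hz hy
  have m3 : y⁻¹ * z⁻¹ * y * z ∈ X₁ := by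
    have := inv_mem m2
    have e : (z⁻¹ * y⁻¹ * z * y)⁻¹ = y⁻¹ * z⁻¹ * y * z := by group
    rwa [e] at this
  have h1 := dis _ m3 m1
  calc y * z = z * y * (y⁻¹ * z⁻¹ * y * z) := by group
    _ = z * y := by rw [h1, mul_one]

/-- **Type C at `s` and type O at `ρ` are incompatible.** -/
theorem false_of_C_O {t : G} (tt : t * t = 1) {Xs Xs1 Xr Xp Xd Ws Ws1 Wp : Subgroup G}
    (hs : IsW t Xs Ws) (hs1 : IsW t Xs1 Ws1) (hp : IsW t Xp Wp)
    (tr : ∀ x ∈ Xr, t * x = x * t) (ns : ∃ x ∈ Xs, x ≠ 1) (nr : ∃ x ∈ Xr, x ≠ 1)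
    (csp : ∀ w ∈ Ws, ∀ x ∈ Xp, w * x = x * w) (cs1p : ∀ w ∈ Ws1, ∀ x ∈ Xp, w * x = x * w)
    (cC : ∀ w ∈ Ws1, ∀ x ∈ Xs, w * x = x * w)
    (rel : ∀ u ∈ Xs, ∀ x ∈ Xr, ∃ α ∈ Xs1, ∃ β ∈ Xp, x⁻¹ * u * x = u * α * β ∧ (u ≠ 1 → x ≠ 1 → β ≠ 1))
    (td : ∀ v ∈ Xd, t * v = v * t) (csd : ∀ y ∈ Ws, ∀ v ∈ Xd, y * v = v * y)
    (cs1d : ∀ y ∈ Ws1, ∀ v ∈ Xd, y * v = v * y) (cpd : ∀ y ∈ Xp, ∀ v ∈ Xd, y * v = v * y)
    (crd : ∀ y ∈ Xr, ∀ v ∈ Xd, y * v = v * y)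
    (typeO : ∀ z ∈ Wp, (∀ v ∈ Xd, z * v = v * z) → z ∈ Xp)
    (Fam : Set G) (fs : ∀ y ∈ Ws, ∀ v ∈ Fam, y * v = v * y)
    (fs' : ∀ y ∈ Ws, ∀ x ∈ Xr, ∀ v ∈ Fam, (x⁻¹ * y * x) * v = v * (x⁻¹ * y * x))
    (fs1 : ∀ y ∈ Ws1, ∀ v ∈ Fam, y * v = v * y) (fp : ∀ z ∈ Wp, ∀ v ∈ Fam, z * v = v * z)
    (KF : ∀ k, k * t = t * k → (∀ v ∈ Fam, k * v = v * k) →
      ∃ a ∈ Xs, ∃ b ∈ Xs1, ∃ c ∈ Xp, k = a * b * c ∨ k = t * (a * b * c)) : False := by
  obtain ⟨u, hu, hu1⟩ := ns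
  obtain ⟨x, hx, hx1⟩ := nr
  obtain ⟨α, hα, β, hβ, hrel, hβ1⟩ := rel u hu x hx
  replace hβ1 := hβ1 hu1 hx1
  obtain ⟨y, hy, hyu⟩ := hs.surj u hu
  obtain ⟨y1, hy1, hy1α⟩ := hs1.surj α hα
  obtain ⟨z, hz, hzβ⟩ := hp.surj β hβ
  change D t y = u at hyu
  change D t y1 = α at hy1α
  change D t z = β at hzβ
  set f := x⁻¹ * y * x * (y * y1)⁻¹ with hf
  -- `[f, t] = β`
  have d1 : D t (x⁻¹ * y * x) = u * α * β := by rw [D_conj (tr x hx), hyu, hrel]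
  have d2 : D t (y * y1) = u * α := by
    rw [D_mul tt, hyu, hy1α]
    congr 1
    rw [mul_assoc, ← cC y1 hy1 u hu, inv_mul_cancel_left]
  have d3 : D t f = β := by
    rw [hf, D_mul tt, D_inv tt, d1, d2]
    have k1 : u * β = β * u := csp u (hs.XW hu) β hβ
    have k2 : α * β = β * α := cs1p α (hs1.XW hα) β hβ
    have k3 : y * β = β * y := csp y hy β hβ
    have k4 : y1 * β = β * y1 := cs1p y1 hy1 β hβ
    calc (y * y1)⁻¹⁻¹ * (u * α * β) * (y * y1)⁻¹ * (y * y1 * (u * α)⁻¹ * (y * y1)⁻¹)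
        = y * y1 * (u * (α * β)) * (u * α)⁻¹ * (y * y1)⁻¹ := by group
      _ = y * y1 * ((u * β) * α) * (u * α)⁻¹ * (y * y1)⁻¹ := by rw [k2]; group
      _ = y * (y1 * β) * (y * y1)⁻¹ := by rw [k1]; group
      _ = (y * β) * y1 * (y * y1)⁻¹ := by rw [k4]; group
      _ = β := by rw [k3]; group
  have d4 : D t (f * z⁻¹) = 1 := by
    rw [D_mul tt, D_inv tt, d3, hzβ]; group
  have hk : f * z⁻¹ * t = t * (f * z⁻¹) := ((D_eq_one tt).1 d4).symm
  -- `f` commutes with `Fam` and with `Xd`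
  have gen : ∀ v : G, (x⁻¹ * y * x) * v = v * (x⁻¹ * y * x) → y * v = v * y → y1 * v = v * y1 → f * v = v * f := by
    intro v h1 h2 h3
    have c1 : Commute (x⁻¹ * y * x) v := h1
    have c2 : Commute y v := h2
    have c3 : Commute y1 v := h3
    exact (c1.mul_left (c2.mul_left c3).inv_left)
  have hF : ∀ v ∈ Fam, (f * z⁻¹) * v = v * (f * z⁻¹) := by
    intro v hv
    have c1 : Commute f v := gen v (fs' y hy x hx v hv) (fs y hy v hv) (fs1 y1 hy1 v hv)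
    have c2 : Commute z v := fp z hz v hv
    exact c1.mul_left c2.inv_left
  obtain ⟨a, ha, b, hb, c, hc, habc⟩ := KF _ hk hF
  have hzd : ∀ v ∈ Xd, z * v = v * z := by
    intro v hv
    have ca : Commute a v := csd a (hs.XW ha) v hv
    have cb : Commute b v := cs1d b (hs1.XW hb) v hv
    have cc : Commute c v := cpd c hc v hv
    have ct : Commute t v := td v hv
    have cx : Commute x v := crd x hx v hv
    have cy : Commute y v := csd y hy v hv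
    have ck : Commute (f * z⁻¹) v := by
      rcases habc with h | h
      · rw [h]; exact (ca.mul_left cb).mul_left cc
      · rw [h]; exact ct.mul_left ((ca.mul_left cb).mul_left cc)
    have cf : Commute f v :=
      gen v ((cx.inv_left.mul_left cy).mul_left cx) cy (cs1d y1 hy1 v hv)
    have h1 : z = (f * z⁻¹)⁻¹ * f := by group
    have : Commute z v := by
      rw [h1]
      exact ck.inv_left.mul_left cf
    exact this
  have hzX := typeO z hz hzd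
  apply hβ1
  rw [← hzβ, D_eq_one tt]
  exact hp.tX z hzX

/-- **Type O at both lengths is impossible.** -/
theorem false_of_O_O [Finite G] {t : G} (tt : t * t = 1) {Xa Xp Xr Xm Wa Wp : Subgroup G}
    (ha : IsW t Xa Wa) (hp : IsW t Xp Wp) (na : ∃ x ∈ Xa, x ≠ 1) (np : ∃ x ∈ Xp, x ≠ 1)
    (cap : ∀ w ∈ Wa, ∀ x ∈ Xp, w * x = x * w) (cpa : ∀ w ∈ Wp, ∀ x ∈ Xa, w * x = x * w)
    (car : ∀ w ∈ Wa, ∀ x ∈ Xr, w * x = x * w)
    (orel : ∀ z ∈ Wp, ∀ x ∈ Xr, z⁻¹ * (x⁻¹ * z * x) ∈ Xm)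
    (typeOp : ∀ z ∈ Wp, (∀ x ∈ Xr, z * x = x * z) → z ∈ Xp)
    (typeOa : ∀ y ∈ Wa, ∀ u ∈ Xm, u ≠ 1 → y * u = u * y → y ∈ Xa)
    (dis : ∀ x, x ∈ Xa → x ∈ Xp → x = 1)
    (Fam : Set G) (fa : ∀ y ∈ Wa, ∀ v ∈ Fam, y * v = v * y) (fp : ∀ z ∈ Wp, ∀ v ∈ Fam, z * v = v * z)
    (KF : ∀ k, k * t = t * k → (∀ v ∈ Fam, k * v = v * k) →
      ∃ a ∈ Xa, ∃ b ∈ Xp, k = a * b ∨ k = t * (a * b))
    {δ δ' : G} (δt : t * δ = δ * t) (δ₁ : ∀ w ∈ Wa, δ * w = w * δ) (δ₂ : ∀ w ∈ Wp, δ * w * δ⁻¹ ∈ Wp)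
    (fpf : ∀ x ∈ Xp, δ * x = x * δ → x = 1)
    (δt' : t * δ' = δ' * t) (δ₂' : ∀ w ∈ Wp, δ' * w = w * δ') (δ₁' : ∀ w ∈ Wa, δ' * w * δ'⁻¹ ∈ Wa)
    (fpf' : ∀ x ∈ Xa, δ' * x = x * δ' → x = 1) : False := by
  have hall : ∀ y ∈ Wa, ∀ z ∈ Wp, ∃ a ∈ Xa, ∃ b ∈ Xp,
      y⁻¹ * z⁻¹ * y * z = a * b ∨ y⁻¹ * z⁻¹ * y * z = t * (a * b) := by
    intro y hy z hz
    refine KF _ (comm_t tt ha hp cap cpa hy hz) fun v hv => ?_
    have c1 : Commute y v := fa y hy v hv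
    have c2 : Commute z v := fp z hz v hv
    exact ((c1.inv_left.mul_left c2.inv_left).mul_left c1).mul_left c2
  have hcomm : ∀ y ∈ Wa, ∀ z ∈ Wp, y * z = z * y := fun y hy z hz =>
    comm_eq_one_of_torus tt ha hp cap cpa dis hall δt δ₁ δ₂ fpf δt' δ₂' δ₁' fpf' hy hz
  obtain ⟨u, hu, hu1⟩ := na
  obtain ⟨v, hv, hv1⟩ := np
  obtain ⟨y, hy, hyu⟩ := ha.surj u hu
  obtain ⟨z, hz, hzv⟩ := hp.surj v hv
  have hyX : y ∉ Xa := by
    intro h
    apply hu1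
    rw [← hyu]
    exact (D_eq_one tt).2 (ha.tX y h)
  have hzX : z ∉ Xp := by
    intro h
    apply hv1
    rw [← hzv]
    exact (D_eq_one tt).2 (hp.tX z h)
  have h1 : ¬ ∀ x ∈ Xr, z * x = x * z := fun h => hzX (typeOp z hz h)
  push Not at h1
  obtain ⟨x, hx, hzx⟩ := h1
  apply hyX
  refine typeOa y hy _ (orel z hz x hx) ?_ ?_
  · intro h
    apply hzx
    have h2 : x⁻¹ * z * x = z := (inv_mul_eq_one.1 h).symm
    calc z * x = x * (x⁻¹ * z * x) := by group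
      _ = x * z := by rw [h2]
  · have cz : Commute y z := hcomm y hy z hz
    have cx : Commute y x := car y hy x hx
    exact cz.inv_right.mul_right ((cx.inv_right.mul_right cz).mul_right cx)

end Cfsg.Agent.OddHalf.D7F4.TypeC

end

-- merged: Cfsg.Agent.OddHalf.D7F4.CC
section

/-!
# F4(q), `q ≥ 4` even: the pattern (C, C) (helper186; text: helper763 #8532 (5), helper588)

Both root lengths are moved and all doubled root groups are of type C.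

* `Hyp`: the hypotheses; `torus_kill`: the torus argument;
* `comm_acute`: `[W a, W b] = 1` for `(a, b) > 0` and for orthogonal roots of different lengths;
* `four`: `[X b, W a] ≤ W (a + b)` (120°), `six`, `six'`: `[X r, W s], [X s, W r] ≤ W (r + s) W (r + 2 s)` (135°).
-/

set_option autoImplicit false

namespace Cfsg.Agent.OddHalf.D7F4.CC

open Cfsg.Agent.OddHalf.D7F4.TypeC

variable {G : Type*} [Group G]

/-! ### The torus argument -/

/-- `m` is centralised by `A` and `δ` modulo `N` and normalises `N`. -/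
structure Good (N A : Subgroup G) (δ m : G) : Prop where
  nor : ∀ n ∈ N, m⁻¹ * n * m ∈ N
  nor' : ∀ n ∈ N, m * n * m⁻¹ ∈ N
  act : ∀ x ∈ A, m⁻¹ * (x * m * x⁻¹) ∈ N
  tor : m⁻¹ * (δ * m * δ⁻¹) ∈ N

theorem Good.mul {N A : Subgroup G} {δ m m' : G} (h : Good N A δ m) (h' : Good N A δ m') :
    Good N A δ (m * m') where
  nor n hn := by
    have := h'.nor _ (h.nor _ hn)
    have e : m'⁻¹ * (m⁻¹ * n * m) * m' = (m * m')⁻¹ * n * (m * m') := by group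
    rwa [e] at this
  nor' n hn := by
    have := h.nor' _ (h'.nor' n hn)
    have e : m * (m' * n * m'⁻¹) * m⁻¹ = (m * m') * n * (m * m')⁻¹ := by group
    rwa [e] at this
  act x hx := by
    have e : (m * m')⁻¹ * (x * (m * m') * x⁻¹) =
        (m'⁻¹ * (m⁻¹ * (x * m * x⁻¹)) * m') * (m'⁻¹ * (x * m' * x⁻¹)) := by group
    rw [e]
    exact mul_mem (h'.nor _ (h.act x hx)) (h'.act x hx)
  tor := by
    have e : (m * m')⁻¹ * (δ * (m * m') * δ⁻¹) =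
        (m'⁻¹ * (m⁻¹ * (δ * m * δ⁻¹)) * m') * (m'⁻¹ * (δ * m' * δ⁻¹)) := by group
    rw [e]
    exact mul_mem (h'.nor _ h.tor) h'.tor

/-- elements of `N` are good if `A` and `δ` normalise `N` -/
theorem Good.of_mem {N A : Subgroup G} {δ m : G} (hm : m ∈ N) (hA : ∀ x ∈ A, x * m * x⁻¹ ∈ N)
    (hδ : δ * m * δ⁻¹ ∈ N) : Good N A δ m where
  nor _ hn := mul_mem (mul_mem (inv_mem hm) hn) hm
  nor' _ hn := mul_mem (mul_mem hm hn) (inv_mem hm)
  act x hx := mul_mem (inv_mem hm) (hA x hx)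
  tor := mul_mem (inv_mem hm) hδ

theorem torus_kill [Finite G] (A N : Subgroup G) (v δ : G)
    (hgood : ∀ x ∈ A, Good N A δ (v⁻¹ * (x * v * x⁻¹))) (hv : δ * v = v * δ)
    (hA : ∀ x ∈ A, δ * x * δ⁻¹ ∈ A) (fpf : ∀ x ∈ A, δ * x = x * δ → x = 1) {x : G} (hx : x ∈ A) :
    v⁻¹ * (x * v * x⁻¹) ∈ N := by
  obtain ⟨y, hy, rfl⟩ := Cfsg.Agent.OddHalf.SL.One.surj_of_fpf A δ hA fpf x hx
  have hyi := inv_mem hy
  have hz : δ * y⁻¹ * δ⁻¹ ∈ A := hA _ hyi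
  -- `c (x y) = c x * (x * c y * x⁻¹)`
  have hc : ∀ a b : G, v⁻¹ * ((a * b) * v * (a * b)⁻¹) =
      (v⁻¹ * (a * v * a⁻¹)) * (a * (v⁻¹ * (b * v * b⁻¹)) * a⁻¹) := by intro a b; group
  have hδc : v⁻¹ * ((δ * y⁻¹ * δ⁻¹) * v * (δ * y⁻¹ * δ⁻¹)⁻¹) = δ * (v⁻¹ * (y⁻¹ * v * y⁻¹⁻¹)) * δ⁻¹ := by
    have h1 : δ⁻¹ * v = v * δ⁻¹ := by
      have : Commute δ v := hv
      exact this.inv_left.eq
    have h2 : δ * v⁻¹ = v⁻¹ * δ := by
      have : Commute δ v := hv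
      exact this.inv_right.eq
    calc v⁻¹ * ((δ * y⁻¹ * δ⁻¹) * v * (δ * y⁻¹ * δ⁻¹)⁻¹) =
          (v⁻¹ * δ) * y⁻¹ * (δ⁻¹ * v) * δ * y * δ⁻¹ := by group
      _ = (δ * v⁻¹) * y⁻¹ * (v * δ⁻¹) * δ * y * δ⁻¹ := by rw [h1, h2]
      _ = _ := by group
  obtain ⟨p, hp⟩ : ∃ p, p = v⁻¹ * (y * v * y⁻¹) := ⟨_, rfl⟩
  obtain ⟨q, hq⟩ : ∃ q, q = v⁻¹ * (y⁻¹ * v * y⁻¹⁻¹) := ⟨_, rfl⟩
  have hqg := hgood _ hyi
  rw [← hq] at hqg hδc
  have g2 := hgood _ hz
  rw [hδc] at g2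
  have e1 := hc y y⁻¹
  rw [← hp, ← hq] at e1
  have e0 : v⁻¹ * ((y * y⁻¹) * v * (y * y⁻¹)⁻¹) = 1 := by group
  rw [e0] at e1
  -- `1 = p q n'`
  have n1 := hqg.act y hy
  have n2 := g2.act y hy
  have n3 := hqg.tor
  rw [hc, ← hp, hδc]
  have e2 : p * (y * (δ * q * δ⁻¹) * y⁻¹) =
      (q⁻¹ * (y * q * y⁻¹))⁻¹ * (q⁻¹ * (δ * q * δ⁻¹)) *
        ((δ * q * δ⁻¹)⁻¹ * (y * (δ * q * δ⁻¹) * y⁻¹)) := by
    have h3 : p = (y * q * y⁻¹)⁻¹ := eq_inv_of_mul_eq_one_left e1.symm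
    rw [h3]; group
  rw [e2]
  exact mul_mem (mul_mem (inv_mem n1) n3) n2

/-! ### Products of doubled root groups -/

theorem t_comm_of_D_eq {t : G} (tt : t * t = 1) {c w : G} (h : D t c = D t w) :
    (c * w⁻¹) * t = t * (c * w⁻¹) := by
  have h1 : D t (c * w⁻¹) = 1 := by rw [D_mul tt, D_inv tt, h]; group
  exact ((D_eq_one tt).1 h1).symm

theorem mem_sup_of_comm {W₁ W₂ : Subgroup G} (hc : ∀ w ∈ W₁, ∀ v ∈ W₂, w * v = v * w) {g : G} :
    g ∈ W₁ ⊔ W₂ ↔ ∃ w ∈ W₁, ∃ v ∈ W₂, g = w * v := by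
  constructor
  · intro hg
    let P : Subgroup G :=
      { carrier := {g | ∃ w ∈ W₁, ∃ v ∈ W₂, g = w * v}
        one_mem' := ⟨1, one_mem _, 1, one_mem _, (mul_one 1).symm⟩
        mul_mem' := by
          rintro _ _ ⟨w, hw, v, hv, rfl⟩ ⟨w', hw', v', hv', rfl⟩
          refine ⟨w * w', mul_mem hw hw', v * v', mul_mem hv hv', ?_⟩
          calc w * v * (w' * v') = w * (v * w') * v' := by group
            _ = w * (w' * v) * v' := by rw [hc w' hw' v hv]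
            _ = w * w' * (v * v') := by group
        inv_mem' := by
          rintro _ ⟨w, hw, v, hv, rfl⟩
          refine ⟨w⁻¹, inv_mem hw, v⁻¹, inv_mem hv, ?_⟩
          rw [hc w hw v hv, mul_inv_rev] }
    have hle : W₁ ⊔ W₂ ≤ P := sup_le (fun w hw => ⟨w, hw, 1, one_mem _, (mul_one w).symm⟩)
      (fun v hv => ⟨1, one_mem _, v, hv, (one_mul v).symm⟩)
    exact hle hg
  · rintro ⟨w, hw, v, hv, rfl⟩
    exact mul_mem (Subgroup.mem_sup_left hw) (Subgroup.mem_sup_right hv)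

theorem isW_sup {t : G} (tt : t * t = 1) {X₁ X₂ W₁ W₂ : Subgroup G} (h₁ : IsW t X₁ W₁) (h₂ : IsW t X₂ W₂)
    (hc : ∀ w ∈ W₁, ∀ v ∈ W₂, w * v = v * w) (dis : ∀ x, x ∈ X₁ → x ∈ X₂ → x = 1) :
    IsW t (X₁ ⊔ X₂) (W₁ ⊔ W₂) := by
  have hcX : ∀ w ∈ X₁, ∀ v ∈ X₂, w * v = v * w := fun w hw v hv => hc w (h₁.XW hw) v (h₂.XW hv)
  have hD : ∀ w ∈ W₁, ∀ v ∈ W₂, D t (w * v) = D t w * D t v := by
    intro w hw v hv
    rw [D_mul tt]
    have h3 : D t w * v = v * D t w := hc _ (h₁.XW (h₁.brk w hw)) v hv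
    calc v⁻¹ * D t w * v * D t v = v⁻¹ * (D t w * v) * D t v := by group
      _ = D t w * D t v := by rw [h3]; group
  refine ⟨?_, sup_le_sup h₁.XW h₂.XW, ?_, ?_, ?_, ?_⟩
  · intro x hx
    obtain ⟨w, hw, v, hv, rfl⟩ := (mem_sup_of_comm hcX).1 hx
    have c1 : Commute t w := h₁.tX w hw
    have c2 : Commute t v := h₂.tX v hv
    exact (c1.mul_right c2).eq
  · intro x hx
    obtain ⟨w, hw, v, hv, rfl⟩ := (mem_sup_of_comm hc).1 hx
    calc w * v * (w * v) = w * (v * w) * v := by group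
      _ = (w * w) * (v * v) := by rw [← hc w hw v hv]; group
      _ = 1 := by rw [h₁.sq w hw, h₂.sq v hv, mul_one]
  · intro x hx
    obtain ⟨w, hw, v, hv, rfl⟩ := (mem_sup_of_comm hc).1 hx
    have := hD w hw v hv
    have e : D t (w * v) ∈ X₁ ⊔ X₂ := by
      rw [this]
      exact mul_mem (Subgroup.mem_sup_left (h₁.brk w hw)) (Subgroup.mem_sup_right (h₂.brk v hv))
    exact e
  · intro x hx htx
    obtain ⟨w, hw, v, hv, rfl⟩ := (mem_sup_of_comm hc).1 hx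
    have h3 := (D_eq_one tt).2 htx
    rw [hD w hw v hv] at h3
    have h4 : D t w = (D t v)⁻¹ := eq_inv_of_mul_eq_one_left h3
    have h5 : D t w ∈ X₁ := h₁.brk w hw
    have h6 : D t v ∈ X₂ := h₂.brk v hv
    have h7 : D t w = 1 := dis _ h5 (by rw [h4]; exact inv_mem h6)
    have h8 : D t v = 1 := by
      rw [h7, one_mul] at h3; exact h3
    exact mul_mem (Subgroup.mem_sup_left (h₁.cent w hw ((D_eq_one tt).1 h7)))
      (Subgroup.mem_sup_right (h₂.cent v hv ((D_eq_one tt).1 h8)))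
  · intro x hx
    obtain ⟨w, hw, v, hv, rfl⟩ := (mem_sup_of_comm hcX).1 hx
    obtain ⟨w', hw', e1⟩ := h₁.surj w hw
    obtain ⟨v', hv', e2⟩ := h₂.surj v hv
    refine ⟨w' * v', mul_mem (Subgroup.mem_sup_left hw') (Subgroup.mem_sup_right hv'), ?_⟩
    have := hD w' hw' v' hv'
    have e3 : D t w' = w := e1
    have e4 : D t v' = v := e2
    rw [e3, e4] at this
    exact this

/-! ### The two abstract lemmas -/

/-- **Lemma A**: `[A, Wd] ≤ NW`. -/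
theorem lemA [Finite G] {t : G} (tt : t * t = 1) {A Xd Wd NX NW : Subgroup G} (hd : IsW t Xd Wd)
    (hN : IsW t NX NW)
    (hA : ∀ x ∈ A, t * x = x * t)
    (h1 : ∀ x ∈ A, ∀ y ∈ Xd, y⁻¹ * (x * y * x⁻¹) ∈ NX)
    (h2 : ∀ w ∈ Wd, ∀ n ∈ NX, w * n = n * w)
    (h3 : ∀ x ∈ A, ∀ n ∈ NW, x * n = n * x)
    (h4 : ∀ y ∈ Xd, ∀ n ∈ NW, y * n = n * y)
    (F : Set G) (F1 : ∀ e ∈ F, ∀ w ∈ Wd, w * e = e * w) (F2 : ∀ e ∈ F, ∀ n ∈ NW, n * e = e * n)
    (F3 : ∀ e ∈ F, ∀ x ∈ A, ∀ w ∈ Wd, (x * w * x⁻¹) * e = e * (x * w * x⁻¹))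
    (KF : ∀ k, k * t = t * k → (∀ e ∈ F, k * e = e * k) → ∃ y ∈ Xd, ∃ n ∈ NX, k = y * n ∨ k = t * (y * n))
    {δ : G} (δt : t * δ = δ * t) (δd : ∀ w ∈ Wd, δ * w = w * δ) (δN : ∀ n ∈ NW, δ * n * δ⁻¹ ∈ NW)
    (δA : ∀ x ∈ A, δ * x * δ⁻¹ ∈ A) (fpf : ∀ x ∈ A, δ * x = x * δ → x = 1) {v x : G} (hv : v ∈ Wd)
    (hx : x ∈ A) : v⁻¹ * (x * v * x⁻¹) ∈ NW := by
  refine torus_kill A NW v δ ?_ (δd v hv) δA fpf hx
  clear hx x
  intro x hx
  obtain ⟨y, hy⟩ : ∃ y, y = D t v := ⟨_, rfl⟩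
  have hyX : y ∈ Xd := by rw [hy]; exact hd.brk v hv
  have vy : Commute v y := hd.ab hv (hd.XW hyX)
  have htx := hA x hx
  -- `D c = y⁻¹ x y x⁻¹`
  have hDc : D t (v⁻¹ * (x * v * x⁻¹)) = y⁻¹ * (x * y * x⁻¹) := by
    rw [D_mul tt, D_inv tt, D_conj' htx, ← hy]
    have e1 : v * y⁻¹ * v⁻¹ = y⁻¹ := by rw [vy.inv_right.eq]; group
    rw [e1]
    have e2 : Commute v (x⁻¹ * y⁻¹ * x) := by
      have h5 := h1 x⁻¹ (inv_mem hx) y⁻¹ (inv_mem hyX)
      have h6 : Commute v (y⁻¹⁻¹ * (x⁻¹ * y⁻¹ * x⁻¹⁻¹)) := h2 v hv _ h5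
      have h7 : x⁻¹ * y⁻¹ * x = y⁻¹ * (y⁻¹⁻¹ * (x⁻¹ * y⁻¹ * x⁻¹⁻¹)) := by group
      rw [h7]
      exact vy.inv_right.mul_right h6
    calc (x * v * x⁻¹)⁻¹ * y⁻¹ * (x * v * x⁻¹) * (x * y * x⁻¹)
        = x * v⁻¹ * ((x⁻¹ * y⁻¹ * x) * v) * y * x⁻¹ := by group
      _ = x * v⁻¹ * (v * (x⁻¹ * y⁻¹ * x)) * y * x⁻¹ := by rw [e2.eq]
      _ = y⁻¹ * (x * y * x⁻¹) := by group
  obtain ⟨w, hw, hDw⟩ := hN.surj _ (h1 x hx y hyX)
  have hDw' : D t w = y⁻¹ * (x * y * x⁻¹) := hDw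
  have hkt := t_comm_of_D_eq tt (hDc.trans hDw'.symm)
  obtain ⟨y', hy', n, hn, hk⟩ := KF _ hkt (fun e he => by
    have c1 : Commute v e := F1 e he v hv
    have c2 : Commute (x * v * x⁻¹) e := F3 e he x hx v hv
    have c3 : Commute w e := F2 e he w hw
    exact ((c1.inv_left.mul_left c2).mul_left c3.inv_left).eq)
  have hn' : n * w ∈ NW := mul_mem (hN.XW hn) hw
  have g1 : Good NW A δ y' := by
    have c : ∀ n ∈ NW, Commute y' n := h4 y' hy'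
    refine ⟨fun m hm => ?_, fun m hm => ?_, fun z hz => hN.XW (h1 z hz y' hy'), ?_⟩
    · rw [((c m hm).inv_left).eq, mul_assoc, inv_mul_cancel, mul_one]; exact hm
    · rw [(c m hm).eq, mul_assoc, mul_inv_cancel, mul_one]; exact hm
    · rw [δd y' (hd.XW hy'), mul_assoc, mul_inv_cancel, mul_one, inv_mul_cancel]; exact one_mem _
  have g2 : Good NW A δ (n * w) := by
    refine Good.of_mem hn' (fun z hz => ?_) (δN _ hn')
    rw [h3 z hz _ hn', mul_assoc, mul_inv_cancel, mul_one]; exact hn'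
  have g3 : Good NW A δ t := by
    have hti := t_inv tt
    refine ⟨fun m hm => ?_, fun m hm => ?_, fun z hz => ?_, ?_⟩
    · rw [hti]; exact hN.conj_mem hm
    · rw [hti]; exact hN.conj_mem hm
    · rw [← hA z hz, mul_assoc, mul_inv_cancel, mul_one, inv_mul_cancel]; exact one_mem _
    · rw [← δt, mul_assoc, mul_inv_cancel, mul_one, inv_mul_cancel]; exact one_mem _
  rcases hk with hk | hk
  · have : v⁻¹ * (x * v * x⁻¹) = y' * (n * w) := by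
      calc v⁻¹ * (x * v * x⁻¹) = (v⁻¹ * (x * v * x⁻¹) * w⁻¹) * w := by group
        _ = y' * (n * w) := by rw [hk]; group
    rw [this]; exact g1.mul g2
  · have : v⁻¹ * (x * v * x⁻¹) = t * (y' * (n * w)) := by
      calc v⁻¹ * (x * v * x⁻¹) = (v⁻¹ * (x * v * x⁻¹) * w⁻¹) * w := by group
        _ = t * (y' * (n * w)) := by rw [hk]; group
    rw [this]; exact g3.mul (g1.mul g2)

/-- **Lemma B**: `[Wa, Wb] ≤ NW`. -/
theorem lemB {t : G} (tt : t * t = 1) {Xa Xb Wa Wb NX NW : Subgroup G} (ha : IsW t Xa Wa)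
    (hb : IsW t Xb Wb) (hN : IsW t NX NW) (c1 : ∀ w ∈ Wa, ∀ n ∈ NW, w * n = n * w)
    (c2 : ∀ w ∈ Wb, ∀ n ∈ NW, w * n = n * w)
    (ab : ∀ x ∈ Xb, ∀ v ∈ Wa, v⁻¹ * (x * v * x⁻¹) ∈ NW) (ba : ∀ x ∈ Xa, ∀ v ∈ Wb, v⁻¹ * (x * v * x⁻¹) ∈ NW)
    (F : Set G) (F1 : ∀ e ∈ F, ∀ n ∈ NW, n * e = e * n)
    (F2 : ∀ e ∈ F, ∀ v ∈ Wa, ∀ u ∈ Wb, (v⁻¹ * (u * v * u⁻¹)) * e = e * (v⁻¹ * (u * v * u⁻¹)))
    (KF : ∀ k, k * t = t * k → (∀ e ∈ F, k * e = e * k) → ∃ n ∈ NX, k = n ∨ k = t * n)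
    (dis : ∀ x, x ∈ Xa → x ∈ NX → x = 1) {v u : G} (hv : v ∈ Wa) (hu : u ∈ Wb) :
    v⁻¹ * (u * v * u⁻¹) ∈ NW := by
  obtain ⟨y, hy⟩ : ∃ y, y = D t v := ⟨_, rfl⟩
  obtain ⟨z, hz⟩ : ∃ z, z = D t u := ⟨_, rfl⟩
  have hyX : y ∈ Xa := by rw [hy]; exact ha.brk v hv
  have hzX : z ∈ Xb := by rw [hz]; exact hb.brk u hu
  have hti := t_inv tt
  obtain ⟨c, hc⟩ : ∃ c, c = v⁻¹ * (u * v * u⁻¹) := ⟨_, rfl⟩
  have vy : Commute v y := ha.ab hv (ha.XW hyX)
  -- the three commutators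
  obtain ⟨g1, hg1⟩ : ∃ g, g = v⁻¹ * (z * v * z⁻¹) := ⟨_, rfl⟩
  obtain ⟨g3, hg3⟩ : ∃ g, g = y⁻¹ * (z * y * z⁻¹) := ⟨_, rfl⟩
  obtain ⟨g2, hg2⟩ : ∃ g, g = u⁻¹ * (y⁻¹ * u * y⁻¹⁻¹) := ⟨_, rfl⟩
  have m1 : g1 ∈ NW := by rw [hg1]; exact ab z hzX v hv
  have m3 : g3 ∈ NW := by rw [hg3]; exact ab z hzX y (ha.XW hyX)
  have m2 : g2 ∈ NW := by rw [hg2]; exact ba y⁻¹ (inv_mem hyX) u hu
  have e1 : z * v = v * g1 * z := by rw [hg1]; group
  have e3 : z * y = y * g3 * z := by rw [hg3]; group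
  have e2 : y⁻¹ * u = u * g2 * y⁻¹ := by rw [hg2]; group
  have ux : ∀ n ∈ NW, Commute u n := c2 u hu
  have vx : ∀ n ∈ NW, Commute v n := c1 v hv
  have yx : ∀ n ∈ NW, Commute y n := c1 y (ha.XW hyX)
  have m13 : g1 * g3 ∈ NW := mul_mem m1 m3
  have hconj : t * c * t = c * (g2 * (g1 * g3)) := by
    have h5 : t * v * t = v * y := by rw [hy]; exact conj_t v
    have h6 : t * u * t = u * z := by rw [hz]; exact conj_t u
    have h7 : t * c * t = (t * v * t)⁻¹ * ((t * u * t) * (t * v * t) * (t * u * t)⁻¹) := by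
      rw [hc, mul_inv_rev, mul_inv_rev, mul_inv_rev, mul_inv_rev, hti]
      symm
      calc t * (v⁻¹ * t) * (t * u * t * (t * v * t) * (t * (u⁻¹ * t)))
          = t * v⁻¹ * (t * t) * u * (t * t) * v * (t * t) * u⁻¹ * t := by group
        _ = t * (v⁻¹ * (u * v * u⁻¹)) * t := by rw [tt]; group
    rw [h7, h5, h6, hc]
    calc (v * y)⁻¹ * ((u * z) * (v * y) * (u * z)⁻¹)
        = y⁻¹ * v⁻¹ * u * (z * v) * y * z⁻¹ * u⁻¹ := by group
      _ = y⁻¹ * v⁻¹ * u * v * g1 * (z * y) * z⁻¹ * u⁻¹ := by rw [e1]; group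
      _ = y⁻¹ * v⁻¹ * u * v * (g1 * y) * g3 * u⁻¹ := by rw [e3]; group
      _ = y⁻¹ * v⁻¹ * u * v * (y * g1) * g3 * u⁻¹ := by rw [(yx g1 m1).eq]
      _ = y⁻¹ * v⁻¹ * u * (v * y) * ((g1 * g3) * u⁻¹) := by group
      _ = y⁻¹ * v⁻¹ * u * (y * v) * (u⁻¹ * (g1 * g3)) := by rw [vy.eq, ((ux _ m13).inv_left).eq]
      _ = (y⁻¹ * v⁻¹) * (u * y) * v * u⁻¹ * (g1 * g3) := by group
      _ = (v⁻¹ * y⁻¹) * (u * y) * v * u⁻¹ * (g1 * g3) := by rw [(vy.inv_inv).eq]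
      _ = v⁻¹ * (y⁻¹ * u) * y * v * u⁻¹ * (g1 * g3) := by group
      _ = v⁻¹ * u * (g2 * (v * u⁻¹)) * (g1 * g3) := by rw [e2]; group
      _ = v⁻¹ * u * ((v * u⁻¹) * g2) * (g1 * g3) := by
          rw [((vx g2 m2).mul_left (ux g2 m2).inv_left).eq]
      _ = v⁻¹ * (u * v * u⁻¹) * (g2 * (g1 * g3)) := by group
  obtain ⟨g, hg⟩ : ∃ g, g = g2 * (g1 * g3) := ⟨_, rfl⟩
  have mg : g ∈ NW := by rw [hg]; exact mul_mem m2 m13
  rw [← hg] at hconj
  have hDc : D t c = g := by unfold D; rw [hconj]; group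
  -- `g` is fixed by `t`
  have hgt : t * g = g * t := by
    have h5 : c = c * g * (t * g * t) := by
      calc c = (t * t) * c * (t * t) := by rw [tt]; group
        _ = t * (t * c * t) * t := by group
        _ = t * (c * g) * t := by rw [hconj]
        _ = (t * c * t) * (t * g * t) := by
          calc t * (c * g) * t = t * c * 1 * g * t := by group
            _ = t * c * (t * t) * g * t := by rw [tt]
            _ = _ := by group
        _ = c * g * (t * g * t) := by rw [hconj]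
    have h6 : g * (t * g * t) = 1 := by
      have : c * (g * (t * g * t)) = c * 1 := by rw [mul_one, ← mul_assoc]; exact h5.symm
      exact mul_left_cancel this
    have h7 : t * g * t = g := by
      have := eq_inv_of_mul_eq_one_right h6
      rw [this]; exact hN.inv mg
    calc t * g = t * g * (t * t) := by rw [tt, mul_one]
      _ = (t * g * t) * t := by group
      _ = g * t := by rw [h7]
  have hgX := hN.cent g mg hgt
  obtain ⟨w, hw, hDw⟩ := hN.surj g hgX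
  have hDw' : D t w = g := hDw
  have hkt := t_comm_of_D_eq tt (hDc.trans hDw'.symm)
  obtain ⟨n, hn, hk⟩ := KF _ hkt (fun e he => by
    have k1 : Commute c e := by rw [hc]; exact F2 e he v hv u hu
    have k2 : Commute w e := F1 e he w hw
    exact (k1.mul_left k2.inv_left).eq)
  rw [← hc]
  rcases hk with hk | hk
  · have : c = n * w := by rw [← hk]; group
    rw [this]; exact mul_mem (hN.XW hn) hw
  -- `c = t m`
  obtain ⟨m, hm⟩ : ∃ m, m = n * w := ⟨_, rfl⟩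
  have mm : m ∈ NW := by rw [hm]; exact mul_mem (hN.XW hn) hw
  have hcm : c = t * m := by
    rw [hm]
    calc c = (c * w⁻¹) * w := by group
      _ = t * (n * w) := by rw [hk]; group
  have hvv := ha.sq v hv
  have h5 : v * (t * m) * (v * (t * m)) = 1 := by
    have h6 : v * (t * m) = u * v * u⁻¹ := by rw [← hcm, hc]; group
    rw [h6]
    calc u * v * u⁻¹ * (u * v * u⁻¹) = u * (v * v) * u⁻¹ := by group
      _ = 1 := by rw [hvv]; group
  have h6 : y * D t m = 1 := by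
    have h7 : t * v * t = v * y := by rw [hy]; exact conj_t v
    have h8 : t * m * t = m * D t m := conj_t m
    have hDm : D t m ∈ NX := hN.brk m mm
    have h9 : m * D t m * m = D t m := by
      rw [mul_assoc, hN.ab (hN.XW hDm) mm, ← mul_assoc, hN.sq m mm, one_mul]
    calc y * D t m = (v * v) * y * (m * D t m * m) := by rw [hvv, h9, one_mul]
      _ = v * (v * y) * (m * D t m) * m := by group
      _ = v * (t * v * t) * (t * m * t) * m := by rw [h7, h8]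
      _ = v * t * v * (t * t) * m * t * m := by group
      _ = v * t * (v * m) * t * m := by rw [tt]; group
      _ = v * t * (m * v) * t * m := by rw [(vx m mm).eq]
      _ = v * (t * m) * (v * (t * m)) := by group
      _ = 1 := h5
  have h7 : y = 1 := by
    apply dis y hyX
    rw [eq_inv_of_mul_eq_one_left h6]
    exact inv_mem (hN.brk m mm)
  have hvX : v ∈ Xa := ha.cent v hv ((D_eq_one tt).1 (hy ▸ h7))
  have h8 := ba v⁻¹ (inv_mem hvX) u hu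
  have h9 : c = u * (u⁻¹ * (v⁻¹ * u * v⁻¹⁻¹)) * u⁻¹ := by rw [hc]; group
  rw [h9, (ux _ h8).eq, mul_inv_cancel_right]
  exact h8

/-! ### Root combinatorics -/

variable {L : Type*} [AddCommGroup L] {B : L → L → ℤ} {Φ : Set L}

/-- values of the form on pairs at an obtuse angle -/
theorem neg_vals (h : D7F4.Roots B Φ) {a b : L} (ha : a ∈ Φ) (hb : b ∈ Φ) (hab : B a b < 0) (hne : a ≠ -b) :
    (B a a = 2 ∧ B b b = 2 ∧ B a b = -1) ∨ (B a a = 4 ∧ B b b = 4 ∧ B a b = -2) ∨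
    (B a a = 4 ∧ B b b = 2 ∧ B a b = -2) ∨ (B a a = 2 ∧ B b b = 4 ∧ B a b = -2) := by
  have hn := h.neg_mem a ha
  have e1 := h.neg_left a b
  have e2 : B (-a) (-a) = B a a := by rw [h.neg_left, h.neg_right, neg_neg]
  have hne' : -a ≠ b := by
    rintro rfl
    exact hne (neg_neg a).symm
  rcases h.norm a ha with h1 | h1 <;> rcases h.norm b hb with h2 | h2
  · obtain ⟨h3, h4⟩ := h.ss (-a) hn b hb (by rw [e2, h1]) h2
    have h5 : B (-a) b ≠ 2 := fun h6 => hne' (h4 h6)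
    omega
  · rcases h.ls b hb a ha h2 h1 with h3 | h3 | h3 <;> rw [h.symm] at h3 <;> omega
  · rcases h.ls a ha b hb h1 h2 with h3 | h3 | h3 <;> omega
  · obtain ⟨h0, h3, h4⟩ := h.ll (-a) hn b hb (by rw [e2, h1]) h2
    have h5 : B (-a) b ≠ 4 := fun h6 => hne' (h4 h6)
    omega

/-- values of the form -/
theorem vals (h : D7F4.Roots B Φ) {a b : L} (ha : a ∈ Φ) (hb : b ∈ Φ) :
    (B a a = 2 ∧ B b b = 2 ∧ -2 ≤ B a b ∧ B a b ≤ 2) ∨
    (B a a = 4 ∧ B b b = 4 ∧ -4 ≤ B a b ∧ B a b ≤ 4 ∧ B a b % 2 = 0) ∨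
    (B a a = 4 ∧ B b b = 2 ∧ (B a b = -2 ∨ B a b = 0 ∨ B a b = 2)) ∨
    (B a a = 2 ∧ B b b = 4 ∧ (B a b = -2 ∨ B a b = 0 ∨ B a b = 2)) := by
  have hn := h.neg_mem a ha
  have e1 := h.neg_left a b
  have e2 : B (-a) (-a) = B a a := by rw [h.neg_left, h.neg_right, neg_neg]
  rcases h.norm a ha with h1 | h1 <;> rcases h.norm b hb with h2 | h2
  · have h3 := (h.ss (-a) hn b hb (by rw [e2, h1]) h2).1
    have h4 := (h.ss a ha b hb h1 h2).1
    omega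
  · have h3 := h.ls b hb a ha h2 h1
    rw [h.symm] at h3
    omega
  · have h3 := h.ls a ha b hb h1 h2
    omega
  · obtain ⟨h0, h3, -⟩ := h.ll (-a) hn b hb (by rw [e2, h1]) h2
    obtain ⟨h4, h5, -⟩ := h.ll a ha b hb h1 h2
    omega

/-- The roots of the open cone spanned by `b`, `d` (at an obtuse angle). -/
def Cn (B : L → L → ℤ) (b d c : L) : Prop :=
  c = b + d ∨ (B b b = 4 ∧ B d d = 2 ∧ c = b + d + d) ∨ (B b b = 2 ∧ B d d = 4 ∧ c = d + b + b)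

theorem Cn.symm {b d c : L} (h : Cn B b d c) : Cn B d b c := by
  rcases h with h | ⟨h1, h2, h3⟩ | ⟨h1, h2, h3⟩
  · exact Or.inl (h.trans (add_comm b d))
  · exact Or.inr (Or.inr ⟨h2, h1, h3⟩)
  · exact Or.inr (Or.inl ⟨h2, h1, h3⟩)

theorem Cn.mem (h : D7F4.Roots B Φ) {b d c : L} (hb : b ∈ Φ) (hd : d ∈ Φ) (hbd : B b d < 0) (hne : b ≠ -d)
    (hc : Cn B b d c) : c ∈ Φ := by
  have hv := neg_vals h hb hd hbd hne
  rcases hc with rfl | ⟨h1, h2, rfl⟩ | ⟨h1, h2, rfl⟩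
  · exact h.add b hb d hd hbd hne
  · exact (h.add_ls hb hd h1 h2 (by omega)).2.2.2.1
  · exact (h.add_ls hd hb h2 h1 (by rw [h.symm]; omega)).2.2.2.1

/-- the form on the cone -/
theorem Cn.left (h : D7F4.Roots B Φ) {b d c : L} (hb : b ∈ Φ) (hd : d ∈ Φ) (hbd : B b d < 0) (hne : b ≠ -d)
    (hc : Cn B b d c) : 0 ≤ B c b := by
  have hv := neg_vals h hb hd hbd hne
  have hs := h.symm d b
  rcases hc with rfl | ⟨h1, h2, rfl⟩ | ⟨h1, h2, rfl⟩
  · rw [h.add_left]; omega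
  · rw [h.add_left, h.add_left]; omega
  · rw [h.add_left, h.add_left]; omega

theorem Cn.right (h : D7F4.Roots B Φ) {b d c : L} (hb : b ∈ Φ) (hd : d ∈ Φ) (hbd : B b d < 0) (hne : b ≠ -d)
    (hc : Cn B b d c) : 0 ≤ B c d := by
  refine Cn.left h hd hb ?_ ?_ hc.symm
  · rw [h.symm]; exact hbd
  · rintro rfl; exact hne (neg_neg b).symm

/-- the group generated by the terms of the cone -/
def N (B : L → L → ℤ) (V : L → Subgroup G) (b d : L) : Subgroup G := ⨆ c : L, ⨆ _ : Cn B b d c, V c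

theorem le_N {V : L → Subgroup G} {b d c : L} (hc : Cn B b d c) : V c ≤ N B V b d :=
  le_iSup₂_of_le (f := fun c (_ : Cn B b d c) => V c) c hc le_rfl

theorem N_symm (V : L → Subgroup G) (b d : L) : N B V b d = N B V d b :=
  le_antisymm (iSup₂_le fun _ hc => le_N hc.symm) (iSup₂_le fun _ hc => le_N hc.symm)

theorem N_same (V : L → Subgroup G) {b d : L} (hbd : B b b = B d d) : N B V b d = V (b + d) := by
  apply le_antisymm
  · refine iSup₂_le fun c hc => ?_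
    rcases hc with rfl | ⟨h1, h2, -⟩ | ⟨h1, h2, -⟩
    · exact le_rfl
    · omega
    · omega
  · exact le_N (Or.inl rfl)

theorem N_ls (V : L → Subgroup G) {b d : L} (hb : B b b = 4) (hd : B d d = 2) :
    N B V b d = V (b + d) ⊔ V (b + d + d) := by
  apply le_antisymm
  · refine iSup₂_le fun c hc => ?_
    rcases hc with rfl | ⟨-, -, rfl⟩ | ⟨h1, -, -⟩
    · exact le_sup_left
    · exact le_sup_right
    · omega
  · exact sup_le (le_N (Or.inl rfl)) (le_N (Or.inr (Or.inl ⟨hb, hd, rfl⟩)))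

theorem comm_N {V : L → Subgroup G} {b d : L} {g : G} (h : ∀ c, Cn B b d c → ∀ v ∈ V c, g * v = v * g) {n : G}
    (hn : n ∈ N B V b d) : g * n = n * g := by
  have hle : N B V b d ≤ Subgroup.centralizer {g} := by
    refine iSup₂_le fun c hc v hv => ?_
    rw [Subgroup.mem_centralizer_singleton_iff]
    exact (h c hc v hv).symm
  exact (Subgroup.mem_centralizer_singleton_iff.1 (hle hn)).symm

theorem conj_N {V : L → Subgroup G} {b d : L} {g : G} (h : ∀ c, Cn B b d c → ∀ v ∈ V c, g * v * g⁻¹ ∈ V c) {n : G}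
    (hn : n ∈ N B V b d) : g * n * g⁻¹ ∈ N B V b d := by
  have hle : N B V b d ≤ (N B V b d).comap (MulAut.conj g).toMonoidHom := by
    refine iSup₂_le fun c hc v hv => ?_
    exact le_N hc (h c hc v hv)
  exact hle hn

/-- the key numerical fact: `f` is nonnegative on the cone of `b`, `d` but negative on `b` -/
theorem key (h : D7F4.Roots B Φ) {b d f : L} (hb : b ∈ Φ) (hd : d ∈ Φ) (hf : f ∈ Φ) (hbd : B b d < 0)
    (hne : b ≠ -d) (hfc : ∀ c, Cn B b d c → 0 ≤ B f c) (hfb : B f b < 0) :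
    f ≠ -b ∧ 0 < B f d ∧ ∀ c, Cn B f b c → 0 ≤ B c d := by
  have hv := neg_vals h hb hd hbd hne
  have h1 := hfc _ (Or.inl rfl)
  rw [h.add_right] at h1
  have h2 : B b b = 4 → B d d = 2 → 0 ≤ B f b + B f d + B f d := by
    intro h3 h4
    have := hfc _ (Or.inr (Or.inl ⟨h3, h4, rfl⟩))
    rwa [h.add_right, h.add_right] at this
  have h2' : B b b = 2 → B d d = 4 → 0 ≤ B f d + B f b + B f b := by
    intro h3 h4
    have := hfc _ (Or.inr (Or.inr ⟨h3, h4, rfl⟩))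
    rwa [h.add_right, h.add_right] at this
  have hfne : f ≠ -b := by
    rintro rfl
    rw [h.neg_left, h.neg_left] at h1 h2'
    omega
  have hw := neg_vals h hf hb hfb hfne
  have hx := vals h hf hd
  have hs := h.symm d b
  refine ⟨hfne, by omega, ?_⟩
  intro c hc
  rcases hc with rfl | ⟨h5, h6, rfl⟩ | ⟨h5, h6, rfl⟩
  · rw [h.add_left]; omega
  · rw [h.add_left, h.add_left]; omega
  · rw [h.add_left, h.add_left]; omega

/-! ### The pattern (C, C) -/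

/-- **Hypotheses** of the pattern (C, C). -/
structure Hyp (t : G) (B : L → L → ℤ) (Φ : Set L) (X W : L → Subgroup G) : Prop where
  roots : D7F4.Roots B Φ
  tt : t * t = 1
  isW : ∀ a ∈ Φ, IsW t (X a) (W a)
  /-- type C -/
  WX : ∀ a ∈ Φ, ∀ d ∈ Φ, 0 ≤ B a d → ∀ w ∈ W a, ∀ x ∈ X d, w * x = x * w
  c1 : ∀ a ∈ Φ, ∀ b ∈ Φ, B a a = B b b → B a b < 0 → a ≠ -b → ∀ x ∈ X a, ∀ y ∈ X b, x * y * x⁻¹ * y⁻¹ ∈ X (a + b)
  c2 : ∀ a ∈ Φ, ∀ b ∈ Φ, B a a = 4 → B b b = 2 → B a b = -2 → ∀ x ∈ X a, ∀ y ∈ X b,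
    ∃ p ∈ X (a + b), ∃ q ∈ X (a + b + b), x * y * x⁻¹ * y⁻¹ = p * q
  /-- orthogonal roots `a`, `b` of the same length: `b` occurs in `[X β, X d]`, `β`, `d` orthogonal to `a` -/
  mid : ∀ a ∈ Φ, ∀ b ∈ Φ, B a a = B b b → B a b = 0 → ∃ β ∈ Φ, ∃ d ∈ Φ, ∃ b' ∈ Φ, B β d < 0 ∧ β ≠ -d ∧
    B a β = 0 ∧ B a d = 0 ∧ B a b' = 0 ∧ B a a ≠ B d d ∧ B a a ≠ B b' b' ∧ Cn B β d b ∧ Cn B β d b' ∧
    ∀ q ∈ X b, ∃ x ∈ X β, ∃ y ∈ X d, ∃ p ∈ X b', y⁻¹ * (x * y * x⁻¹) = p * q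
  torus : ∀ a ∈ Φ, ∀ b ∈ Φ, a ≠ b → a ≠ -b → ∃ δ, t * δ = δ * t ∧ (∀ w ∈ W a, δ * w = w * δ) ∧
    (∀ c ∈ Φ, ∀ w ∈ W c, δ * w * δ⁻¹ ∈ W c) ∧ ∀ x ∈ X b, δ * x = x * δ → x = 1
  /-- the K-facts: pairs at 60°, 45° and pairs of orthogonal roots of different lengths -/
  KA : ∀ a ∈ Φ, ∀ b ∈ Φ, a ≠ b → (0 < B a b ∨ (B a b = 0 ∧ B a a ≠ B b b)) → ∀ k, k * t = t * k →
    (∀ f ∈ Φ, 0 ≤ B f a → 0 ≤ B f b → ∀ x ∈ X f, k * x = x * k) →
    ∃ p ∈ X a, ∃ q ∈ X b, k = p * q ∨ k = t * (p * q)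
  /-- orthogonal short roots `b`, `a + b` -/
  KMs : ∀ a ∈ Φ, ∀ b ∈ Φ, B a a = 4 → B b b = 2 → B a b = -2 → ∀ k, k * t = t * k →
    (∀ f ∈ Φ, 0 ≤ B f b → 0 ≤ B f (a + b) → ∀ x ∈ X f, k * x = x * k) →
    ∃ x ∈ X b, ∃ p ∈ X (a + b), ∃ q ∈ X (a + b + b), k = x * (p * q) ∨ k = t * (x * (p * q))
  /-- orthogonal long roots `a`, `a + b + b` -/
  KMl : ∀ a ∈ Φ, ∀ b ∈ Φ, B a a = 4 → B b b = 2 → B a b = -2 → ∀ k, k * t = t * k →
    (∀ f ∈ Φ, 0 ≤ B f a → 0 ≤ B f (a + b + b) → ∀ x ∈ X f, k * x = x * k) →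
    ∃ x ∈ X a, ∃ p ∈ X (a + b), ∃ q ∈ X (a + b + b), k = x * (p * q) ∨ k = t * (x * (p * q))
  KP : ∀ a ∈ Φ, ∀ k, k * t = t * k → (∀ f ∈ Φ, 0 ≤ B f a → ∀ x ∈ X f, k * x = x * k) →
    ∃ p ∈ X a, k = p ∨ k = t * p
  dis : ∀ a ∈ Φ, ∀ b ∈ Φ, a ≠ b → ∀ x, x ∈ X a → x ∈ X b → x = 1
  ind : ∀ a ∈ Φ, ∀ b ∈ Φ, B a a = 4 → B b b = 2 → B a b = -2 → ∀ x ∈ X a, ∀ p ∈ X (a + b), ∀ q ∈ X (a + b + b),
    x = p * q → x = 1

namespace Hyp

variable {t : G} {X W : L → Subgroup G}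

/-- (i): `[W a, W b] = 1` for `(a, b) > 0` and for orthogonal roots of different lengths -/
theorem acute [Finite G] (h : Hyp t B Φ X W) {a b : L} (ha : a ∈ Φ) (hb : b ∈ Φ)
    (hab : 0 < B a b ∨ (B a b = 0 ∧ B a a ≠ B b b)) {v u : G} (hv : v ∈ W a) (hu : u ∈ W b) : v * u = u * v := by
  by_cases he : a = b
  · subst he
    exact (h.isW a ha).ab hv hu
  have hab0 : 0 ≤ B a b := by omega
  have hba0 : 0 ≤ B b a := by rw [h.roots.symm]; exact hab0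
  have hn : a ≠ -b := by
    rintro rfl
    rw [h.roots.neg_left] at hab0
    have := h.roots.norm_pos hb
    omega
  have hn' : b ≠ -a := by
    rintro rfl
    exact hn (neg_neg a).symm
  obtain ⟨δ, d1, d2, d3, d4⟩ := h.torus a ha b hb he hn
  obtain ⟨δ', d1', d2', d3', d4'⟩ := h.torus b hb a ha (Ne.symm he) hn'
  refine comm_eq_one_of_torus h.tt (h.isW a ha) (h.isW b hb) (h.WX a ha b hb hab0) (h.WX b hb a ha hba0)
    (h.dis a ha b hb he) ?_ d1 d2 (d3 b hb) d4 d1' d2' (d3' a ha) d4' hv hu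
  intro y hy z hz
  refine h.KA a ha b hb he hab _ (comm_t h.tt (h.isW a ha) (h.isW b hb) (h.WX a ha b hb hab0)
    (h.WX b hb a ha hba0) hy hz) fun f hf h1 h2 x hx => ?_
  have c1 : Commute y x := h.WX a ha f hf (by rw [h.roots.symm]; exact h1) y hy x hx
  have c2 : Commute z x := h.WX b hb f hf (by rw [h.roots.symm]; exact h2) z hz x hx
  exact (((c1.inv_left.mul_left c2.inv_left).mul_left c1).mul_left c2).eq

/-- `[X a, X b]` for an obtuse angle -/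
theorem cX (h : Hyp t B Φ X W) {a b : L} (ha : a ∈ Φ) (hb : b ∈ Φ) (hab : B a b < 0) (hne : a ≠ -b) {x y : G}
    (hx : x ∈ X a) (hy : y ∈ X b) : x * y * x⁻¹ * y⁻¹ ∈ N B X a b := by
  rcases neg_vals h.roots ha hb hab hne with ⟨h1, h2, h3⟩ | ⟨h1, h2, h3⟩ | ⟨h1, h2, h3⟩ | ⟨h1, h2, h3⟩
  · exact le_N (Or.inl rfl) (h.c1 a ha b hb (by omega) hab hne x hx y hy)
  · exact le_N (Or.inl rfl) (h.c1 a ha b hb (by omega) hab hne x hx y hy)
  · obtain ⟨p, hp, q, hq, e⟩ := h.c2 a ha b hb h1 h2 h3 x hx y hy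
    rw [e]
    exact mul_mem (le_N (Or.inl rfl) hp) (le_N (Or.inr (Or.inl ⟨h1, h2, rfl⟩)) hq)
  · rw [h.roots.symm] at h3
    obtain ⟨p, hp, q, hq, e⟩ := h.c2 b hb a ha h2 h1 h3 y hy x hx
    have e2 : x * y * x⁻¹ * y⁻¹ = (y * x * y⁻¹ * x⁻¹)⁻¹ := by group
    rw [e2, e, N_symm]
    exact inv_mem (mul_mem (le_N (Or.inl rfl) hp) (le_N (Or.inr (Or.inl ⟨h2, h1, rfl⟩)) hq))

/-- the product of the doubled root groups of the cone is a doubled root group -/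
theorem isN [Finite G] (h : Hyp t B Φ X W) {b d : L} (hb : b ∈ Φ) (hd : d ∈ Φ) (hbd : B b d < 0) (hne : b ≠ -d) :
    IsW t (N B X b d) (N B W b d) := by
  have mixed : ∀ b ∈ Φ, ∀ d ∈ Φ, B b b = 4 → B d d = 2 → B b d = -2 → IsW t (N B X b d) (N B W b d) := by
    intro b hb d hd h1 h2 h3
    obtain ⟨m1, m2, m3, m4, m5⟩ := h.roots.add_ls hb hd h1 h2 h3
    rw [N_ls X h1 h2, N_ls W h1 h2]
    have e1 : B (b + d) (b + d + d) = 2 := by
      rw [h.roots.add_right, m2, m3]; norm_num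
    refine isW_sup h.tt (h.isW _ m1) (h.isW _ m4) (fun w hw v hv => h.acute m1 m4 (Or.inl (by omega)) hw hv)
      (h.dis _ m1 _ m4 ?_)
    intro he
    rw [← he] at m5
    omega
  rcases neg_vals h.roots hb hd hbd hne with ⟨h1, h2, h3⟩ | ⟨h1, h2, h3⟩ | ⟨h1, h2, h3⟩ | ⟨h1, h2, h3⟩
  · rw [N_same X (by omega), N_same W (by omega)]
    exact h.isW _ (h.roots.add b hb d hd hbd hne)
  · rw [N_same X (by omega), N_same W (by omega)]
    exact h.isW _ (h.roots.add b hb d hd hbd hne)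
  · exact mixed b hb d hd h1 h2 h3
  · rw [N_symm X, N_symm W]
    exact mixed d hd b hb h2 h1 (by rw [h.roots.symm]; exact h3)

/-- (ii), (iii): `[X b, W d]` for an obtuse angle -/
theorem cXW [Finite G] (h : Hyp t B Φ X W) {b d : L} (hb : b ∈ Φ) (hd : d ∈ Φ) (hbd : B b d < 0) (hne : b ≠ -d)
    {x v : G} (hx : x ∈ X b) (hv : v ∈ W d) : v⁻¹ * (x * v * x⁻¹) ∈ N B W b d := by
  have R := h.roots
  have hdb : B d b < 0 := by rw [R.symm]; exact hbd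
  have hne' : d ≠ -b := by
    rintro rfl
    exact hne (neg_neg b).symm
  have hne2 : d ≠ b := by
    rintro rfl
    have := R.norm_pos hd
    omega
  obtain ⟨δ, d1, d2, d3, d4⟩ := h.torus d hd b hb hne2 hne'
  have cm : ∀ c, Cn B b d c → c ∈ Φ := fun c hc => hc.mem R hb hd hbd hne
  have cl : ∀ c, Cn B b d c → 0 ≤ B c b := fun c hc => hc.left R hb hd hbd hne
  have cr : ∀ c, Cn B b d c → 0 ≤ B c d := fun c hc => hc.right R hb hd hbd hne
  have δX : ∀ c ∈ Φ, ∀ x ∈ X c, δ * x * δ⁻¹ ∈ X c := by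
    intro c hc x hx
    apply (h.isW c hc).cent _ (d3 c hc x ((h.isW c hc).XW hx))
    have k1 : Commute t δ := d1
    have k2 : Commute t x := (h.isW c hc).tX x hx
    exact ((k1.mul_right k2).mul_right k1.inv_right).eq
  let F : Set G := {e | ∃ f ∈ Φ, 0 ≤ B f d ∧ (∀ c, Cn B b d c → 0 ≤ B f c) ∧ e ∈ X f}
  refine lemA h.tt (A := X b) (h.isW d hd) (h.isN hb hd hbd hne) ((h.isW b hb).tX) ?_ ?_ ?_ ?_ F ?_ ?_ ?_ ?_ d1 d2 ?_
    (δX b hb) d4 hv hx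
  · -- h1
    intro x hx y hy
    have := h.cX hd hb hdb hne' (inv_mem hy) hx
    rw [N_symm] at this
    have e : y⁻¹ * (x * y * x⁻¹) = y⁻¹ * x * y⁻¹⁻¹ * x⁻¹ := by group
    rw [e]; exact this
  · -- h2
    intro w hw n hn
    exact comm_N (fun c hc y hy => h.WX d hd c (cm c hc) (by rw [R.symm]; exact cr c hc) w hw y hy) hn
  · -- h3
    intro y hy n hn
    exact comm_N (fun c hc w hw => (h.WX c (cm c hc) b hb (cl c hc) w hw y hy).symm) hn
  · -- h4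
    intro y hy n hn
    exact comm_N (fun c hc w hw => (h.WX c (cm c hc) d hd (cr c hc) w hw y hy).symm) hn
  · -- F1
    rintro e ⟨f, hf, h1, h2, he⟩ w hw
    exact h.WX d hd f hf (by rw [R.symm]; exact h1) w hw e he
  · -- F2
    rintro e ⟨f, hf, h1, h2, he⟩ n hn
    exact (comm_N (fun c hc w hw => (h.WX c (cm c hc) f hf (by rw [R.symm]; exact h2 c hc) w hw e he).symm) hn).symm
  · -- F3
    rintro e ⟨f, hf, h1, h2, he⟩ x hx w hw
    have hwe : w * e = e * w := h.WX d hd f hf (by rw [R.symm]; exact h1) w hw e he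
    rcases lt_or_ge (B f b) 0 with hfb | hfb
    · obtain ⟨k1, k2, k3⟩ := key R hb hd hf hbd hne h2 hfb
      -- `x⁻¹ e x = g e` with `g ∈ N X f b`
      have hg := h.cX hb hf (by rw [R.symm]; exact hfb) (by rintro rfl; exact k1 (neg_neg f).symm) (inv_mem hx) he
      rw [N_symm] at hg
      obtain ⟨g, hge⟩ : ∃ g, g = x⁻¹ * e * x⁻¹⁻¹ * e⁻¹ := ⟨_, rfl⟩
      rw [← hge] at hg
      have hwg : w * g = g * w := comm_N (fun c hc y hy => h.WX d hd c (hc.mem R hf hb hfb k1)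
        (by rw [R.symm]; exact k3 c hc) w hw y hy) hg
      have e1 : x⁻¹ * e * x = g * e := by rw [hge]; group
      have c1 : Commute w (g * e) := Commute.mul_right hwg hwe
      calc x * w * x⁻¹ * e = x * (w * (x⁻¹ * e * x)) * x⁻¹ := by group
        _ = x * ((x⁻¹ * e * x) * w) * x⁻¹ := by rw [e1, c1.eq]
        _ = e * (x * w * x⁻¹) := by group
    · have c1 : Commute x e := h.WX b hb f hf (by rw [R.symm]; exact hfb) x ((h.isW b hb).XW hx) e he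
      have c2 : Commute w e := hwe
      exact ((c1.mul_left c2).mul_left c1.inv_left).eq
  · -- KF
    intro k hkt hk
    have hk' : ∀ f ∈ Φ, 0 ≤ B f d → (∀ c, Cn B b d c → 0 ≤ B f c) → ∀ x ∈ X f, k * x = x * k :=
      fun f hf h1 h2 x hx => hk x ⟨f, hf, h1, h2, hx⟩
    have same : B b b = B d d → B b d + B d d > 0 → ∃ y ∈ X d, ∃ n ∈ N B X b d, k = y * n ∨ k = t * (y * n) := by
      intro h1 h2
      have hm := R.add b hb d hd hbd hne
      have hpos : 0 < B d (b + d) := by rw [R.add_right, R.symm d b]; omega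
      have hne3 : d ≠ b + d := by
        intro e
        have : b = 0 := by
          have e2 : 0 + d = b + d := by rw [zero_add]; exact e
          exact (add_right_cancel e2).symm
        exact R.ne_zero hb this
      obtain ⟨p, hp, q, hq, hpq⟩ := h.KA d hd (b + d) hm hne3 (Or.inl hpos) k hkt (fun f hf k1 k2 x hx =>
        hk' f hf k1 (fun c hc => by
          rcases hc with rfl | ⟨h3, h4, -⟩ | ⟨h3, h4, -⟩
          · exact k2
          · omega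
          · omega) x hx)
      exact ⟨p, hp, q, le_N (Or.inl rfl) hq, hpq⟩
    rcases neg_vals R hb hd hbd hne with ⟨h1, h2, h3⟩ | ⟨h1, h2, h3⟩ | ⟨h1, h2, h3⟩ | ⟨h1, h2, h3⟩
    · exact same (by omega) (by omega)
    · exact same (by omega) (by omega)
    · obtain ⟨x', hx', p, hp, q, hq, e⟩ := h.KMs b hb d hd h1 h2 h3 k hkt (fun f hf k1 k2 x hx =>
        hk' f hf k1 (fun c hc => by
          have k3 := k2
          rw [R.add_right] at k3
          rcases hc with rfl | ⟨-, -, rfl⟩ | ⟨h4, -, -⟩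
          · exact k2
          · rw [R.add_right, R.add_right]; omega
          · omega) x hx)
      exact ⟨x', hx', p * q, mul_mem (le_N (Or.inl rfl) hp) (le_N (Or.inr (Or.inl ⟨h1, h2, rfl⟩)) hq), e⟩
    · have h3' : B d b = -2 := by rw [R.symm]; exact h3
      obtain ⟨x', hx', p, hp, q, hq, e⟩ := h.KMl d hd b hb h2 h1 h3' k hkt (fun f hf k1 k2 x hx =>
        hk' f hf k1 (fun c hc => by
          have k3 := k2
          rw [R.add_right, R.add_right] at k3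
          rcases hc with rfl | ⟨h4, -, -⟩ | ⟨-, -, rfl⟩
          · rw [R.add_right]; omega
          · omega
          · exact k2) x hx)
      rw [N_symm]
      exact ⟨x', hx', p * q, mul_mem (le_N (Or.inl rfl) hp) (le_N (Or.inr (Or.inl ⟨h2, h1, rfl⟩)) hq), e⟩
  · -- δN
    intro n hn
    exact conj_N (fun c hc w hw => d3 c (cm c hc) w hw) hn

/-- (i'): `[W a, W b] = 1` for orthogonal roots of the same length -/
theorem orth [Finite G] (h : Hyp t B Φ X W) {a b : L} (ha : a ∈ Φ) (hb : b ∈ Φ) (hn : B a a = B b b)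
    (hab : B a b = 0) {w u : G} (hw : w ∈ W a) (hu : u ∈ W b) : w * u = u * w := by
  obtain ⟨β, hβ, d, hd, b', hb', h1, h2, h3, h4, h5, h6, h7, h8, h9, h10⟩ := h.mid a ha b hb hn hab
  have hq : D t u ∈ X b := (h.isW b hb).brk u hu
  obtain ⟨x, hx, y, hy, p, hp, e⟩ := h10 _ hq
  obtain ⟨v, hv, hvy⟩ := (h.isW d hd).surj y hy
  obtain ⟨w', hw', hwp⟩ := (h.isW b' hb').surj p hp
  have hvy' : D t v = y := hvy
  have hwp' : D t w' = p := hwp
  have hN := h.isN hβ hd h1 h2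
  have hc := h.cXW hβ hd h1 h2 hx hv
  have htx := (h.isW β hβ).tX x hx
  have vy : Commute v y := (h.isW d hd).ab hv ((h.isW d hd).XW hy)
  -- `D c = y⁻¹ x y x⁻¹`
  have hDc : D t (v⁻¹ * (x * v * x⁻¹)) = y⁻¹ * (x * y * x⁻¹) := by
    rw [D_mul h.tt, D_inv h.tt, D_conj' htx, hvy']
    have e1 : v * y⁻¹ * v⁻¹ = y⁻¹ := by rw [vy.inv_right.eq]; group
    rw [e1]
    have e2 : Commute v (x⁻¹ * y⁻¹ * x) := by
      have hdβ : B d β < 0 := by rw [h.roots.symm]; exact h1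
      have hne : d ≠ -β := by
        rintro rfl
        exact h2 (neg_neg β).symm
      have h11 := h.cX hd hβ hdβ hne hy (inv_mem hx)
      rw [N_symm] at h11
      have h12 : Commute v (y * x⁻¹ * y⁻¹ * x⁻¹⁻¹) := comm_N (fun c hc z hz => h.WX d hd c
        (hc.mem h.roots hβ hd h1 h2) (by rw [h.roots.symm]; exact hc.right h.roots hβ hd h1 h2) v hv z hz) h11
      have h13 : x⁻¹ * y⁻¹ * x = y⁻¹ * (y * x⁻¹ * y⁻¹ * x⁻¹⁻¹) := by group
      rw [h13]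
      exact vy.inv_right.mul_right h12
    calc (x * v * x⁻¹)⁻¹ * y⁻¹ * (x * v * x⁻¹) * (x * y * x⁻¹)
        = x * v⁻¹ * ((x⁻¹ * y⁻¹ * x) * v) * y * x⁻¹ := by group
      _ = x * v⁻¹ * (v * (x⁻¹ * y⁻¹ * x)) * y * x⁻¹ := by rw [e2.eq]
      _ = y⁻¹ * (x * y * x⁻¹) := by group
  obtain ⟨c, hcc⟩ : ∃ c, c = v⁻¹ * (x * v * x⁻¹) := ⟨_, rfl⟩
  rw [← hcc] at hc hDc
  have hw'N : w' ∈ N B W β d := le_N h9 hw'
  have huN : u ∈ N B W β d := le_N h8 hu
  -- `D (w'⁻¹ c) = D u`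
  have hD : D t (w'⁻¹ * c) = D t u := by
    rw [D_mul h.tt, D_inv h.tt, hwp', hDc, e]
    have k1 : Commute w' p := (h.isW b' hb').ab hw' ((h.isW b' hb').XW hp)
    have k2 : Commute c p := hN.ab hc (hN.XW (le_N h9 hp))
    have e1 : w' * p⁻¹ * w'⁻¹ = p⁻¹ := by rw [k1.inv_right.eq]; group
    rw [e1]
    calc c⁻¹ * p⁻¹ * c * (p * D t u) = c⁻¹ * (p⁻¹ * c) * p * D t u := by group
      _ = c⁻¹ * (c * p⁻¹) * p * D t u := by rw [k2.inv_right.eq]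
      _ = D t u := by group
  have hkt := t_comm_of_D_eq h.tt hD
  have hk := hN.cent _ (mul_mem (mul_mem (inv_mem hw'N) hc) (inv_mem huN)) hkt.symm
  -- everything commutes with `w`
  have c1 : Commute w w' := h.acute ha hb' (Or.inr ⟨h5, h7⟩) hw hw'
  have c2 : Commute w v := h.acute ha hd (Or.inr ⟨h4, h6⟩) hw hv
  have c3 : Commute w x := h.WX a ha β hβ (by omega) w hw x hx
  have c4 : Commute w c := by
    rw [hcc]
    exact c2.inv_right.mul_right ((c3.mul_right c2).mul_right c3.inv_right)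
  have c5 : Commute w (w'⁻¹ * c * u⁻¹) := by
    refine comm_N (fun c hc y hy => h.WX a ha c (hc.mem h.roots hβ hd h1 h2) ?_ w hw y hy) hk
    rcases hc with rfl | ⟨-, -, rfl⟩ | ⟨-, -, rfl⟩
    · rw [h.roots.add_right]; omega
    · rw [h.roots.add_right, h.roots.add_right]; omega
    · rw [h.roots.add_right, h.roots.add_right]; omega
  have c6 : Commute w ((w'⁻¹ * c * u⁻¹)⁻¹ * (w'⁻¹ * c)) := c5.inv_right.mul_right (c1.inv_right.mul_right c4)
  have e2 : (w'⁻¹ * c * u⁻¹)⁻¹ * (w'⁻¹ * c) = u := by group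
  rw [e2] at c6
  exact c6.eq

/-- `[W a, W b] = 1` for `(a, b) ≥ 0` -/
theorem WW [Finite G] (h : Hyp t B Φ X W) {a b : L} (ha : a ∈ Φ) (hb : b ∈ Φ) (hab : 0 ≤ B a b) {w u : G}
    (hw : w ∈ W a) (hu : u ∈ W b) : w * u = u * w := by
  rcases hab.lt_or_eq with h1 | h1
  · exact h.acute ha hb (Or.inl h1) hw hu
  · by_cases h2 : B a a = B b b
    · exact h.orth ha hb h2 h1.symm hw hu
    · exact h.acute ha hb (Or.inr ⟨h1.symm, h2⟩) hw hu

/-- (iv), (v): `[W a, W b]` for an obtuse angle; `b` long and `d` short in the mixed case -/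
theorem cWW_aux [Finite G] (h : Hyp t B Φ X W) {b d : L} (hb : b ∈ Φ) (hd : d ∈ Φ) (hbd : B b d < 0) (hne : b ≠ -d)
    (hls : ¬ (B b b = 2 ∧ B d d = 4)) {v u : G} (hv : v ∈ W b) (hu : u ∈ W d) :
    v⁻¹ * (u * v * u⁻¹) ∈ N B W b d := by
  have R := h.roots
  have hdb : B d b < 0 := by rw [R.symm]; exact hbd
  have hne' : d ≠ -b := by
    rintro rfl
    exact hne (neg_neg b).symm
  have cm : ∀ c, Cn B b d c → c ∈ Φ := fun c hc => hc.mem R hb hd hbd hne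
  have cl : ∀ c, Cn B b d c → 0 ≤ B c b := fun c hc => hc.left R hb hd hbd hne
  have cr : ∀ c, Cn B b d c → 0 ≤ B c d := fun c hc => hc.right R hb hd hbd hne
  have hN := h.isN hb hd hbd hne
  let F : Set G := {e | ∃ f ∈ Φ, (∀ c, Cn B b d c → 0 ≤ B f c) ∧ e ∈ X f}
  refine lemB h.tt (h.isW b hb) (h.isW d hd) hN ?_ ?_ ?_ ?_ F ?_ ?_ ?_ ?_ hv hu
  · intro w hw n hn
    exact comm_N (fun c hc z hz => (h.WW (cm c hc) hb (cl c hc) hz hw).symm) hn
  · intro w hw n hn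
    exact comm_N (fun c hc z hz => (h.WW (cm c hc) hd (cr c hc) hz hw).symm) hn
  · intro x hx v hv
    rw [N_symm]
    exact h.cXW hd hb hdb hne' hx hv
  · intro x hx v hv
    exact h.cXW hb hd hbd hne hx hv
  · rintro e ⟨f, hf, h2, he⟩ n hn
    exact (comm_N (fun c hc w hw => (h.WX c (cm c hc) f hf (by rw [R.symm]; exact h2 c hc) w hw e he).symm) hn).symm
  · rintro e ⟨f, hf, h2, he⟩ v hv u hu
    rcases lt_or_ge (B f b) 0 with hfb | hfb
    · obtain ⟨k1, k2, k3⟩ := key R hb hd hf hbd hne h2 hfb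
      -- `e v e⁻¹ = v g`
      obtain ⟨g, hg⟩ : ∃ g, g = v⁻¹ * (e * v * e⁻¹) := ⟨_, rfl⟩
      have hgN : g ∈ N B W f b := by rw [hg]; exact h.cXW hf hb hfb k1 he hv
      have gu : Commute u g := comm_N (fun c hc z hz => (h.WW (hc.mem R hf hb hfb k1) hd (k3 c hc) hz hu).symm) hgN
      have gv : Commute v g := comm_N (fun c hc z hz => (h.WW (hc.mem R hf hb hfb k1) hb
        (hc.right R hf hb hfb k1) hz hv).symm) hgN
      have eu : Commute u e := h.WX d hd f hf (by rw [R.symm]; omega) u hu e he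
      have ev : e * v = v * g * e := by rw [hg]; group
      have ev' : e * v⁻¹ = v⁻¹ * (g⁻¹ * e) := by
        have e1 : e * v⁻¹ = (v * g)⁻¹ * e := by
          have : e = v * g * e * v⁻¹ := by rw [← ev]; group
          calc e * v⁻¹ = (v * g)⁻¹ * (v * g * e * v⁻¹) := by group
            _ = (v * g)⁻¹ * e := by rw [← this]
        rw [e1, gv.eq]; group
      symm
      calc e * (v⁻¹ * (u * v * u⁻¹)) = (e * v⁻¹) * (u * v * u⁻¹) := by group
        _ = v⁻¹ * g⁻¹ * (e * u) * v * u⁻¹ := by rw [ev']; group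
        _ = v⁻¹ * g⁻¹ * (u * e) * v * u⁻¹ := by rw [eu.eq]
        _ = v⁻¹ * g⁻¹ * u * (e * v) * u⁻¹ := by group
        _ = v⁻¹ * (g⁻¹ * (u * v)) * g * (e * u⁻¹) := by rw [ev]; group
        _ = v⁻¹ * ((u * v) * g⁻¹) * g * (u⁻¹ * e) := by
            rw [((gu.mul_left gv).inv_right).eq, (eu.symm.inv_right).eq]
        _ = v⁻¹ * (u * v * u⁻¹) * e := by group
    · rcases lt_or_ge (B f d) 0 with hfd | hfd
      · obtain ⟨k1, k2, k3⟩ := key R hd hb hf hdb hne' (fun c hc => h2 c hc.symm) hfd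
        obtain ⟨g, hg⟩ : ∃ g, g = u⁻¹ * (e * u * e⁻¹) := ⟨_, rfl⟩
        have hgN : g ∈ N B W f d := by rw [hg]; exact h.cXW hf hd hfd k1 he hu
        have gv : Commute v g := comm_N (fun c hc z hz => (h.WW (hc.mem R hf hd hfd k1) hb (k3 c hc) hz hv).symm) hgN
        have ev : Commute v e := h.WX b hb f hf (by rw [R.symm]; omega) v hv e he
        have eu : e * u = u * g * e := by rw [hg]; group
        have eu' : e * u⁻¹ = (u * g)⁻¹ * e := by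
          have : e = u * g * e * u⁻¹ := by rw [← eu]; group
          calc e * u⁻¹ = (u * g)⁻¹ * (u * g * e * u⁻¹) := by group
            _ = (u * g)⁻¹ * e := by rw [← this]
        symm
        calc e * (v⁻¹ * (u * v * u⁻¹)) = (e * v⁻¹) * (u * v * u⁻¹) := by group
          _ = v⁻¹ * (e * u) * v * u⁻¹ := by rw [(ev.symm.inv_right).eq]; group
          _ = v⁻¹ * u * g * (e * v) * u⁻¹ := by rw [eu]; group
          _ = v⁻¹ * u * g * v * (e * u⁻¹) := by rw [ev.symm.eq]; group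
          _ = v⁻¹ * u * (g * v) * (u * g)⁻¹ * e := by rw [eu']; group
          _ = v⁻¹ * u * (v * g) * (u * g)⁻¹ * e := by rw [gv.eq]
          _ = v⁻¹ * (u * v * u⁻¹) * e := by group
      · have c1 : Commute v e := h.WX b hb f hf (by rw [R.symm]; exact hfb) v hv e he
        have c2 : Commute u e := h.WX d hd f hf (by rw [R.symm]; exact hfd) u hu e he
        exact (c1.inv_left.mul_left ((c2.mul_left c1).mul_left c2.inv_left)).eq
  · intro k hkt hk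
    have hk' : ∀ f ∈ Φ, (∀ c, Cn B b d c → 0 ≤ B f c) → ∀ x ∈ X f, k * x = x * k :=
      fun f hf h2 x hx => hk x ⟨f, hf, h2, hx⟩
    have same : B b b = B d d → ∃ n ∈ N B X b d, k = n ∨ k = t * n := by
      intro h1
      obtain ⟨p, hp, e⟩ := h.KP _ (R.add b hb d hd hbd hne) k hkt (fun f hf k1 x hx => hk' f hf (fun c hc => by
        rcases hc with rfl | ⟨h3, h4, -⟩ | ⟨h3, h4, -⟩
        · exact k1
        · omega
        · omega) x hx)
      exact ⟨p, le_N (Or.inl rfl) hp, e⟩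
    rcases neg_vals R hb hd hbd hne with ⟨h1, h2, h3⟩ | ⟨h1, h2, h3⟩ | ⟨h1, h2, h3⟩ | ⟨h1, h2, h3⟩
    · exact same (by omega)
    · exact same (by omega)
    · obtain ⟨m1, m2, m3, m4, m5⟩ := R.add_ls hb hd h1 h2 h3
      have e1 : B (b + d) (b + d + d) = 2 := by
        rw [R.add_right, m2, m3]; norm_num
      obtain ⟨p, hp, q, hq, e⟩ := h.KA _ m1 _ m4 (by intro he; rw [← he] at m5; omega) (Or.inl (by omega)) k hkt
        (fun f hf k1 k2 x hx => hk' f hf (fun c hc => by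
          rcases hc with rfl | ⟨-, -, rfl⟩ | ⟨h4, -, -⟩
          · exact k1
          · exact k2
          · omega) x hx)
      exact ⟨p * q, mul_mem (le_N (Or.inl rfl) hp) (le_N (Or.inr (Or.inl ⟨h1, h2, rfl⟩)) hq), e⟩
    · exact absurd ⟨h1, h2⟩ hls
  · -- independence
    intro x hx hxN
    have same : B b b = B d d → x = 1 := by
      intro h1
      rw [N_same X h1] at hxN
      refine h.dis b hb _ (R.add b hb d hd hbd hne) ?_ x hx hxN
      intro e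
      have : d = 0 := by
        have e2 : b + 0 = b + d := by rw [add_zero]; exact e
        exact (add_left_cancel e2).symm
      exact R.ne_zero hd this
    rcases neg_vals R hb hd hbd hne with ⟨h1, h2, h3⟩ | ⟨h1, h2, h3⟩ | ⟨h1, h2, h3⟩ | ⟨h1, h2, h3⟩
    · exact same (by omega)
    · exact same (by omega)
    · rw [N_ls X h1 h2] at hxN
      obtain ⟨m1, m2, m3, m4, m5⟩ := R.add_ls hb hd h1 h2 h3
      have e1 : B (b + d) (b + d + d) = 2 := by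
        rw [R.add_right, m2, m3]; norm_num
      obtain ⟨p, hp, q, hq, e⟩ := (mem_sup_of_comm (fun w hw v hv => h.WX _ m1 _ m4 (by omega) w
        ((h.isW _ m1).XW hw) v hv)).1 hxN
      exact h.ind b hb d hd h1 h2 h3 x hx p hp q hq e
    · exact absurd ⟨h1, h2⟩ hls

theorem cWW [Finite G] (h : Hyp t B Φ X W) {b d : L} (hb : b ∈ Φ) (hd : d ∈ Φ) (hbd : B b d < 0) (hne : b ≠ -d)
    {v u : G} (hv : v ∈ W b) (hu : u ∈ W d) : v * u * v⁻¹ * u⁻¹ ∈ N B W b d := by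
  by_cases hls : B b b = 2 ∧ B d d = 4
  · have hne' : d ≠ -b := by
      rintro rfl
      exact hne (neg_neg b).symm
    have h1 := h.cWW_aux hd hb (by rw [h.roots.symm]; exact hbd) hne' (by omega) (inv_mem hu) hv
    rw [N_symm] at h1
    have e : v * u * v⁻¹ * u⁻¹ = (u⁻¹⁻¹ * (v * u⁻¹ * v⁻¹))⁻¹ := by group
    rw [e]; exact inv_mem h1
  · have h1 := h.cWW_aux hb hd hbd hne hls (inv_mem hv) hu
    have e : v * u * v⁻¹ * u⁻¹ = v⁻¹⁻¹ * (u * v⁻¹ * u⁻¹) := by group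
    rw [e]; exact h1

end Hyp

/-! ### The end -/

open Cfsg.Agent.Doubling Cfsg.Agent.OddHalf.SL.Bridge in
/-- **Doubled root groups kill `t`**, general form: `[W a, W b] ≤ ⟨W c : ht c ≥ ht a + ht b⟩` for positive `a`, `b`. -/
theorem exists_hom_of [Finite G] {t : G} {X W : L → Subgroup G} (ht : L →+ ℤ) (hfin : Φ.Finite) (tt : t * t = 1)
    (isW : ∀ a ∈ Φ, IsW t (X a) (W a))
    (hcomm : ∀ a ∈ Φ, ∀ b ∈ Φ, 0 < ht a → 0 < ht b → a ≠ b → ∀ w ∈ W a, ∀ v ∈ W b,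
      w * v * w⁻¹ * v⁻¹ ∈ ⨆ c : L, ⨆ _ : c ∈ Φ ∧ ht a + ht b ≤ ht c, W c)
    (dir : ∀ a ∈ Φ, 0 < ht a → X a ⊓ (⨆ b : L, ⨆ _ : b ∈ Φ ∧ ht a ≤ ht b ∧ b ≠ a, X b) = ⊥)
    (htU : t ∉ pos ht Φ X) (hodd : Odd ((pos ht Φ X ⊔ Subgroup.zpowers t).relIndex (Subgroup.centralizer {t}))) :
    ∃ m : G →* ℤˣ, m t = -1 := by
  classical
  set P : Finset L := hfin.toFinset.filter (fun a => 0 < ht a) with hP
  have hmemP : ∀ a, a ∈ P ↔ a ∈ Φ ∧ 0 < ht a := fun a => by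
    rw [hP, Finset.mem_filter, Set.Finite.mem_toFinset]
  obtain ⟨l, hl1, hl2, hl3, hl4⟩ := exists_enum (fun a => ht a) P
  have hΦ : ∀ i < P.card, l i ∈ Φ := fun i hi => ((hmemP _).1 (hl1 i hi)).1
  have hht : ∀ i < P.card, 0 < ht (l i) := fun i hi => ((hmemP _).1 (hl1 i hi)).2
  have D : Growth.Dbl t (fun i => W (l i)) (fun i => X (l i)) P.card :=
    { tt := tt
      conj := fun i hi v hv => (isW _ (hΦ i hi)).conj_mem hv
      sq := fun i hi v hv => (isW _ (hΦ i hi)).sq v hv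
      fix := fun i hi v hv h => by
        refine (isW _ (hΦ i hi)).cent v hv ?_
        calc t * v = t * v * (t * t) := by rw [tt, mul_one]
          _ = (t * v * t) * t := by group
          _ = v * t := by rw [h]
      X_le := fun i hi => (isW _ (hΦ i hi)).XW
      X_fix := fun i hi v hv => by
        have h := (isW _ (hΦ i hi)).tX v hv
        rw [h, mul_assoc, tt, mul_one]
      free := fun i hi v hv => by
        have hI := isW _ (hΦ i hi)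
        obtain ⟨w, hw, h⟩ := hI.surj v hv
        have htw := hI.conj_mem hw
        refine ⟨w, hw, ?_⟩
        calc v = v⁻¹ := (hI.inv (hI.XW hv)).symm
          _ = (w⁻¹ * (t * w * t))⁻¹ := by rw [h]
          _ = (t * w * t)⁻¹ * w := by group
          _ = (t * w * t) * w := by rw [hI.inv htw]
          _ = t * w * t * w⁻¹ := by rw [hI.inv hw]
      comm := fun i j hij hj v hv w hw => by
        have hi := hij.trans hj
        have hne : l i ≠ l j := fun h => absurd (hl3 i j hi hj h) hij.ne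
        refine (iSup₂_le fun c hc => ?_ : _ ≤ Growth.W (fun i => W (l i)) i)
          (hcomm _ (hΦ i hi) _ (hΦ j hj) (hht i hi) (hht j hj) hne v hv w hw)
        have h0 := hht i hi
        have h1 := hht j hj
        obtain ⟨k, hk, rfl⟩ := hl2 c ((hmemP c).2 ⟨hc.1, by omega⟩)
        have hki : k < i := by
          by_contra hcon
          have h2 : ht (l k) ≤ ht (l i) := hl4 i k (not_lt.1 hcon) hk
          omega
        exact Growth.le_W (fun i => W (l i)) hki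
      indep := fun k hk => by
        rw [eq_bot_iff]
        refine le_trans (inf_le_inf_left _ ?_) (dir _ (hΦ k hk) (hht k hk)).le
        refine iSup₂_le fun i hi => ?_
        refine le_iSup₂_of_le (f := fun b (_ : b ∈ Φ ∧ ht (l k) ≤ ht b ∧ b ≠ l k) => X b) (l i) ⟨hΦ i (hi.trans hk), ?_, ?_⟩
          le_rfl
        · exact hl4 i k hi.le hk
        · intro h
          exact absurd (hl3 i k (hi.trans hk) hk h) hi.ne }
  have hU : Growth.W (fun i => X (l i)) P.card = pos ht Φ X := by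
    apply le_antisymm
    · exact iSup₂_le fun i hi => le_pos (hΦ i hi) (hht i hi)
    · refine iSup₂_le fun a ha => ?_
      obtain ⟨i, hi, rfl⟩ := hl2 a ((hmemP a).2 ha)
      exact Growth.le_W (fun i => X (l i)) hi
  exact D.exists_hom (by rw [hU]; exact htU) (by rw [hU]; exact hodd)

/-- **The pattern (C, C)**: a homomorphism `G → {±1}` with `t ↦ -1`. -/
theorem exists_hom [Finite G] {t : G} {X W : L → Subgroup G} (h : Hyp t B Φ X W) (ht : L →+ ℤ)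
    (dir : ∀ a ∈ Φ, 0 < ht a → X a ⊓ (⨆ b : L, ⨆ _ : b ∈ Φ ∧ ht a ≤ ht b ∧ b ≠ a, X b) = ⊥)
    (htU : t ∉ SL.Bridge.pos ht Φ X)
    (hodd : Odd ((SL.Bridge.pos ht Φ X ⊔ Subgroup.zpowers t).relIndex (Subgroup.centralizer {t}))) :
    ∃ m : G →* ℤˣ, m t = -1 := by
  refine exists_hom_of ht h.roots.fin h.tt h.isW ?_ dir htU hodd
  intro a ha b hb h0 h1 hne w hw v hv
  rcases lt_or_ge (B a b) 0 with hB | hB
  · have hne' : a ≠ -b := by
      rintro rfl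
      rw [map_neg] at h0
      omega
    refine (iSup₂_le fun c hc => ?_ : N B W a b ≤ _) (h.cWW ha hb hB hne' hw hv)
    refine le_iSup₂_of_le (f := fun c (_ : c ∈ Φ ∧ ht a + ht b ≤ ht c) => W c) c
      ⟨hc.mem h.roots ha hb hB hne', ?_⟩ le_rfl
    rcases hc with rfl | ⟨-, -, rfl⟩ | ⟨-, -, rfl⟩
    · rw [map_add]
    · rw [map_add, map_add]; omega
    · rw [map_add, map_add]; omega
  · have h2 := h.WW ha hb hB hw hv
    have h3 : w * v * w⁻¹ * v⁻¹ = 1 := by rw [h2]; group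
    rw [h3]; exact one_mem _

end Cfsg.Agent.OddHalf.D7F4.CC

end
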