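import Cfsg.Agent.OddHalf.D7F4.CC
import Cfsg.Agent.OddHalf.Out.Grow
import Cfsg.Agent.OddHalf.D7F4.CCModel
import Cfsg.Agent.OddHalf.D7F4.Lead
import Cfsg.Agent.OddHalf.Out.Exclude
import Cfsg.Agent.OddHalf.F4.EndOut
import Cfsg.Agent.OddHalf.Out.ZeroDiv

-- merged: Cfsg.Agent.OddHalf.D7F4.OutEnm
section

/-!
# Enumerations of the positive roots of `F₄` and the doubled root groups (helper84)

* `Cm`: sequences of subgroups with `[V i, V j] ≤ ⟨V k : k < i⟩` for `i < j`; `Cm.indep_of_card`;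
* `Enm`: enumerations of the positive roots compatible with the cones, `Enm.growth`;
* `canon`: an element of `C_G(t)` permuting the root groups permutes the doubled root groups;
* `free_of_free`: an involution acting freely on `X` acts freely on `W`.
-/

set_option autoImplicit false

namespace Cfsg.Agent.OddHalf.D7F4.OutEnm

open Cfsg.Agent.Doubling Cfsg.Agent.Doubling.Growth Cfsg.Agent.OddHalf.D7F4.TypeC Cfsg.Agent.OddHalf.D7F4.CC Subgroup

variable {G : Type*} [Group G]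

/-! ### Sequences -/

/-- `[V i, V j] ≤ ⟨V k : k < i⟩` for `i < j` -/
def Cm (V : ℕ → Subgroup G) (n : ℕ) : Prop :=
  ∀ i j, i < j → j < n → ∀ v ∈ V i, ∀ w ∈ V j, v * w * v⁻¹ * w⁻¹ ∈ Growth.W V i

namespace Cm

variable {V : ℕ → Subgroup G} {n : ℕ}

theorem normal (h : Cm V n) {k j : ℕ} (hkj : k ≤ j) (hj : j < n) {v w : G} (hv : v ∈ V j)
    (hw : w ∈ Growth.W V k) : v * w * v⁻¹ ∈ Growth.W V k := by
  have hle : Growth.W V k ≤ (Growth.W V k).comap (MulAut.conj v).toMonoidHom := by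
    refine iSup₂_le fun i hi u hu => ?_
    show v * u * v⁻¹ ∈ Growth.W V k
    have h1 := h i j (lt_of_lt_of_le hi hkj) hj u hu v hv
    have h2 := (Growth.W V k).mul_mem ((Growth.W V k).inv_mem (W_mono V hi.le h1)) (le_W V hi hu)
    have h3 : (u * v * u⁻¹ * v⁻¹)⁻¹ * u = v * u * v⁻¹ := by group
    rwa [h3] at h2
  exact hle hw

theorem normal_W (h : Cm V n) {k : ℕ} {v w : G} (hv : v ∈ Growth.W V n)
    (hw : w ∈ Growth.W V k) : v * w * v⁻¹ ∈ Growth.W V k := by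
  let S : Subgroup G :=
    { carrier := {v | ∀ w, w ∈ Growth.W V k ↔ v * w * v⁻¹ ∈ Growth.W V k}
      one_mem' := fun w => by rw [one_mul, inv_one, mul_one]
      mul_mem' := by
        intro a b ha hb w
        rw [hb w, ha]
        have : a * (b * w * b⁻¹) * a⁻¹ = a * b * w * (a * b)⁻¹ := by group
        rw [this]
      inv_mem' := by
        intro a ha w
        rw [ha (a⁻¹ * w * a⁻¹⁻¹)]
        have : a * (a⁻¹ * w * a⁻¹⁻¹) * a⁻¹ = w := by group
        rw [this] }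
  have hS : Growth.W V n ≤ S := by
    refine iSup₂_le fun j hj u hu => ?_
    intro w
    rcases lt_or_ge j k with h1 | h1
    · have hu' : u ∈ Growth.W V k := le_W V h1 hu
      refine ⟨fun hw => mul_mem (mul_mem hu' hw) (inv_mem hu'), fun hw => ?_⟩
      have h2 := mul_mem (mul_mem (inv_mem hu') hw) hu'
      have h3 : u⁻¹ * (u * w * u⁻¹) * u = w := by group
      rwa [h3] at h2
    · refine ⟨fun hw => h.normal h1 hj hu hw, fun hw => ?_⟩
      have h2 := h.normal h1 hj (inv_mem hu) hw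
      have h3 : u⁻¹ * (u * w * u⁻¹) * u⁻¹⁻¹ = w := by group
      rwa [h3] at h2
  exact (hS hv w).1 hw

theorem mem_succ (h : Cm V n) {k : ℕ} (hk : k < n) {w : G} (hw : w ∈ Growth.W V (k + 1)) :
    ∃ u ∈ Growth.W V k, ∃ v ∈ V k, w = u * v := by
  let S : Subgroup G :=
    { carrier := {w | ∃ u ∈ Growth.W V k, ∃ v ∈ V k, w = u * v}
      one_mem' := ⟨1, one_mem _, 1, one_mem _, (mul_one 1).symm⟩
      mul_mem' := by
        rintro _ _ ⟨u, hu, v, hv, rfl⟩ ⟨u', hu', v', hv', rfl⟩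
        exact ⟨u * (v * u' * v⁻¹), mul_mem hu (h.normal le_rfl hk hv hu'), v * v', mul_mem hv hv', by group⟩
      inv_mem' := by
        rintro _ ⟨u, hu, v, hv, rfl⟩
        exact ⟨v⁻¹ * u⁻¹ * v⁻¹⁻¹, h.normal le_rfl hk (inv_mem hv) (inv_mem hu), v⁻¹, inv_mem hv, by group⟩ }
  have hS : Growth.W V (k + 1) ≤ S := by
    rw [W_succ, sup_le_iff]
    exact ⟨fun u hu => ⟨u, hu, 1, one_mem _, (mul_one u).symm⟩, fun v hv => ⟨1, one_mem _, v, hv, (one_mul v).symm⟩⟩
  exact hS hw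

theorem card_le_mul [Finite G] (h : Cm V n) {Q : ℕ} (hQ : ∀ i < n, Nat.card (V i) ≤ Q) {k m : ℕ}
    (hkm : k + m ≤ n) : Nat.card (Growth.W V (k + m)) ≤ Nat.card (Growth.W V k) * Q ^ m := by
  induction m with
  | zero => rw [add_zero, pow_zero, mul_one]
  | succ m ih =>
    have hk : k + m < n := by omega
    have h1 : Nat.card (Growth.W V (k + m + 1)) ≤ Nat.card (Growth.W V (k + m) × V (k + m)) := by
      refine Nat.card_le_card_of_surjective
        (fun z : Growth.W V (k + m) × V (k + m) => (⟨z.1 * z.2, mul_mem (W_mono V (Nat.le_succ _) z.1.2)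
          (le_W V (Nat.lt_succ_self _) z.2.2)⟩ : Growth.W V (k + m + 1))) ?_
      rintro ⟨w, hw⟩
      obtain ⟨u, hu, v, hv, rfl⟩ := h.mem_succ hk hw
      exact ⟨⟨⟨u, hu⟩, ⟨v, hv⟩⟩, rfl⟩
    rw [Nat.card_prod] at h1
    calc Nat.card (Growth.W V (k + (m + 1))) ≤ Nat.card (Growth.W V (k + m)) * Nat.card (V (k + m)) := h1
      _ ≤ (Nat.card (Growth.W V k) * Q ^ m) * Q := Nat.mul_le_mul (ih hk.le) (hQ _ hk)
      _ = _ := by rw [pow_succ]; ring

/-- Independence from the order. -/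
theorem indep_of_card [Finite G] (h : Cm V n) {Q : ℕ} (hQ : ∀ i < n, Nat.card (V i) ≤ Q)
    (hcard : Q ^ n ≤ Nat.card (Growth.W V n)) {k : ℕ} (hk : k < n) : V k ⊓ Growth.W V k = ⊥ := by
  by_contra hne
  obtain ⟨z, hz1⟩ := Subgroup.ne_bot_iff_exists_ne_one.1 hne
  have hQ0 : 0 < Q := lt_of_lt_of_le Nat.card_pos (hQ k hk)
  have h1 : Nat.card (Growth.W V (k + 1)) < Nat.card (Growth.W V k × V k) := by
    set f : Growth.W V k × V k → Growth.W V (k + 1) := fun z => ⟨z.1 * z.2,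
      mul_mem (W_mono V (Nat.le_succ _) z.1.2) (le_W V (Nat.lt_succ_self _) z.2.2)⟩ with hf
    have hs : Function.Surjective f := by
      rintro ⟨w, hw⟩
      obtain ⟨u, hu, v, hv, rfl⟩ := h.mem_succ hk hw
      exact ⟨⟨⟨u, hu⟩, ⟨v, hv⟩⟩, rfl⟩
    have h2 := Nat.card_le_card_of_surjective f hs
    rcases h2.lt_or_eq with h3 | h3
    · exact h3
    · exfalso
      have h4 := (Function.Surjective.bijective_of_nat_card_le hs h3.ge).1
      have h5 : f ⟨1, 1⟩ = f ⟨⟨(z : G)⁻¹, inv_mem z.2.2⟩, ⟨z, z.2.1⟩⟩ := by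
        apply Subtype.ext
        change (1 : G) * 1 = (z : G)⁻¹ * z
        group
      have h6 := h4 h5
      have h7 : (1 : G) = z := congrArg (fun p : Growth.W V k × V k => (p.2 : G)) h6
      exact hz1 (Subtype.ext h7.symm)
  rw [Nat.card_prod] at h1
  obtain ⟨m, rfl⟩ : ∃ m, n = (k + 1) + m := ⟨n - (k + 1), by omega⟩
  have h2 := h.card_le_mul hQ (k := 0) (m := k) (by omega)
  rw [zero_add, W_zero, card_bot, one_mul] at h2
  have h3 := h.card_le_mul hQ (k := k + 1) (m := m) le_rfl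
  have h4 : Nat.card (Growth.W V k) * Nat.card (V k) ≤ Q ^ (k + 1) := by
    rw [pow_succ]
    exact Nat.mul_le_mul h2 (hQ k hk)
  have h5 : Nat.card (Growth.W V (k + 1 + m)) < Q ^ (k + 1) * Q ^ m :=
    lt_of_le_of_lt h3 (Nat.mul_lt_mul_of_pos_right (lt_of_lt_of_le h1 h4) (Nat.pow_pos hQ0))
  rw [← pow_add] at h5
  omega

end Cm

/-- `|W k|` for independent sequences. -/
theorem card_W [Finite G] {V : ℕ → Subgroup G} {n : ℕ} (h : Cm V n) (indep : ∀ k < n, V k ⊓ Growth.W V k = ⊥)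
    {Q : ℕ} (hQ : ∀ i < n, Nat.card (V i) = Q) {k : ℕ} (hk : k ≤ n) : Nat.card (Growth.W V k) = Q ^ k := by
  induction k with
  | zero => rw [W_zero, card_bot, pow_zero]
  | succ k ih =>
    have hk' : k < n := hk
    rw [pow_succ, ← ih hk'.le, ← hQ k hk', ← Nat.card_prod]
    symm
    refine Nat.card_eq_of_bijective (fun z : Growth.W V k × V k => (⟨z.1 * z.2,
      mul_mem (W_mono V (Nat.le_succ _) z.1.2) (le_W V (Nat.lt_succ_self _) z.2.2)⟩ : Growth.W V (k + 1))) ⟨?_, ?_⟩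
    · rintro ⟨⟨u, hu⟩, ⟨v, hv⟩⟩ ⟨⟨u', hu'⟩, ⟨v', hv'⟩⟩ he
      have h1 : u * v = u' * v' := congrArg Subtype.val he
      have h2 : u'⁻¹ * u = v' * v⁻¹ := by
        rw [inv_mul_eq_iff_eq_mul, ← mul_assoc, eq_mul_inv_iff_mul_eq]; exact h1
      have h3 : v' * v⁻¹ ∈ V k ⊓ Growth.W V k := Subgroup.mem_inf.2 ⟨mul_mem hv' (inv_mem hv), by
        rw [← h2]; exact mul_mem (inv_mem hu') hu⟩
      rw [indep k hk', mem_bot] at h3
      have h4 : v' = v := mul_inv_eq_one.1 h3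
      subst h4
      have h5 : u = u' := mul_right_cancel h1
      subst h5
      rfl
    · rintro ⟨w, hw⟩
      obtain ⟨u, hu, v, hv, rfl⟩ := h.mem_succ hk' hw
      exact ⟨⟨⟨u, hu⟩, ⟨v, hv⟩⟩, rfl⟩

/-! ### Enumerations -/

section enm

variable {L : Type*} [AddCommGroup L] {B : L → L → ℤ} {Φ : Set L}

/-- An enumeration of the positive roots: the cone of `l i`, `l j` (`i < j`) lies in `{l k : k < i}`. -/
structure Enm (B : L → L → ℤ) (Φ : Set L) (l : ℕ → L) (n : ℕ) : Prop where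
  mem : ∀ i < n, l i ∈ Φ
  pos : ∀ i < n, ∀ j < n, l i ≠ -(l j)
  up : ∀ i j, i < j → j < n → B (l i) (l j) < 0 → ∀ c, Cn B (l i) (l j) c → ∃ k < i, l k = c

variable {t : G} {X W : L → Subgroup G} {l : ℕ → L} {n : ℕ}

theorem N_le (E : Enm B Φ l n) (V : L → Subgroup G) {i j : ℕ} (hij : i < j) (hj : j < n)
    (hB : B (l i) (l j) < 0) : CC.N B V (l i) (l j) ≤ Growth.W (fun i => V (l i)) i := by
  refine iSup₂_le fun c hc => ?_
  obtain ⟨k, hk, rfl⟩ := E.up i j hij hj hB c hc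
  exact le_W (fun i => V (l i)) hk

theorem Enm.cmX (E : Enm B Φ l n) (h : Hyp t B Φ X W) : Cm (fun i => X (l i)) n := by
  intro i j hij hj v hv w hw
  have hi := hij.trans hj
  rcases lt_or_ge (B (l i) (l j)) 0 with hB | hB
  · exact N_le E X hij hj hB (h.cX (E.mem i hi) (E.mem j hj) hB (E.pos i hi j hj) hv hw)
  · have h1 := h.WX _ (E.mem i hi) _ (E.mem j hj) hB v ((h.isW _ (E.mem i hi)).XW hv) w hw
    have h2 : v * w * v⁻¹ * w⁻¹ = 1 := by rw [h1]; group
    rw [h2]; exact one_mem _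

theorem Enm.cmW [Finite G] (E : Enm B Φ l n) (h : Hyp t B Φ X W) : Cm (fun i => W (l i)) n := by
  intro i j hij hj v hv w hw
  have hi := hij.trans hj
  rcases lt_or_ge (B (l i) (l j)) 0 with hB | hB
  · exact N_le E W hij hj hB (h.cWW (E.mem i hi) (E.mem j hj) hB (E.pos i hi j hj) hv hw)
  · have h1 := h.WW (E.mem i hi) (E.mem j hj) hB hv hw
    have h2 : v * w * v⁻¹ * w⁻¹ = 1 := by rw [h1]; group
    rw [h2]; exact one_mem _

theorem Enm.growth [Finite G] (E : Enm B Φ l n) (h : Hyp t B Φ X W)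
    (indep : ∀ k < n, X (l k) ⊓ Growth.W (fun i => X (l i)) k = ⊥) :
    Growth.Dbl t (fun i => W (l i)) (fun i => X (l i)) n where
  tt := h.tt
  conj := fun i hi v hv => (h.isW _ (E.mem i hi)).conj_mem hv
  sq := fun i hi v hv => (h.isW _ (E.mem i hi)).sq v hv
  fix := fun i hi v hv h1 => by
    refine (h.isW _ (E.mem i hi)).cent v hv ?_
    calc t * v = t * v * (t * t) := by rw [h.tt, mul_one]
      _ = (t * v * t) * t := by group
      _ = v * t := by rw [h1]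
  X_le := fun i hi => (h.isW _ (E.mem i hi)).XW
  X_fix := fun i hi v hv => by
    have h1 := (h.isW _ (E.mem i hi)).tX v hv
    rw [h1, mul_assoc, h.tt, mul_one]
  free := fun i hi v hv => by
    have hI := h.isW _ (E.mem i hi)
    obtain ⟨w, hw, h1⟩ := hI.surj v hv
    have htw := hI.conj_mem hw
    refine ⟨w, hw, ?_⟩
    calc v = v⁻¹ := (hI.inv (hI.XW hv)).symm
      _ = (w⁻¹ * (t * w * t))⁻¹ := by rw [h1]
      _ = (t * w * t)⁻¹ * w := by group
      _ = (t * w * t) * w := by rw [hI.inv htw]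
      _ = t * w * t * w⁻¹ := by rw [hI.inv hw]
  comm := E.cmW h
  indep := indep

/-- **Canonicity**: an element of `C_G(t)` permuting the root groups permutes the doubled root groups. -/
theorem canon (h : Hyp t B Φ X W) {y : G} (yt : t * y = y * t) {π : L → L} (hπ : ∀ a ∈ Φ, π a ∈ Φ)
    (sur : ∀ c ∈ Φ, ∃ f ∈ Φ, π f = c) (sg : ∀ a ∈ Φ, ∀ b ∈ Φ, 0 ≤ B (π a) (π b) → 0 ≤ B a b)
    (act : ∀ a ∈ Φ, ∀ x ∈ X a, y * x * y⁻¹ ∈ X (π a)) (act' : ∀ a ∈ Φ, ∀ x ∈ X (π a), y⁻¹ * x * y ∈ X a)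
    {a : L} (ha : a ∈ Φ) {w : G} (hw : w ∈ W a) : y * w * y⁻¹ ∈ W (π a) := by
  have hI := h.isW a ha
  have hJ := h.isW (π a) (hπ a ha)
  set u := y * w * y⁻¹ with hu
  have hDu : D t u = y * D t w * y⁻¹ := D_conj' yt w
  obtain ⟨w', hw', hDw'⟩ := hJ.surj _ (act a ha _ (hI.brk w hw))
  have hDw : D t w' = y * D t w * y⁻¹ := hDw'
  have hkt := t_comm_of_D_eq h.tt (hDu.trans hDw.symm)
  have hk : ∀ f ∈ Φ, 0 ≤ B f (π a) → ∀ x ∈ X f, (u * w'⁻¹) * x = x * (u * w'⁻¹) := by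
    intro c hc hB x hx
    obtain ⟨f, hf, rfl⟩ := sur c hc
    have c1 : Commute w (y⁻¹ * x * y) := h.WX a ha f hf (by
      rw [h.roots.symm]; exact sg f hf a ha hB) w hw _ (act' f hf x hx)
    have c2 : Commute u x := by
      have h1 : u * x = y * (w * (y⁻¹ * x * y)) * y⁻¹ := by rw [hu]; group
      have h2 : x * u = y * ((y⁻¹ * x * y) * w) * y⁻¹ := by rw [hu]; group
      change u * x = x * u
      rw [h1, h2, c1.eq]
    have c3 : Commute w' x := h.WX (π a) (hπ a ha) (π f) hc (by rw [h.roots.symm]; exact hB) w' hw' x hx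
    exact (c2.mul_left c3.inv_left).eq
  obtain ⟨p, hp, h1⟩ := h.KP (π a) (hπ a ha) _ hkt hk
  have hpW := hJ.XW hp
  rcases h1 with h1 | h1
  · have h2 : u = p * w' := by rw [← h1]; group
    rw [h2]; exact mul_mem hpW hw'
  · -- `u = t p w'`
    have h2 : u = t * (p * w') := by
      calc u = (u * w'⁻¹) * w' := by group
        _ = t * (p * w') := by rw [h1]; group
    have hm : p * w' ∈ W (π a) := mul_mem hpW hw'
    have h3 : u * u = 1 := by
      rw [hu]
      calc y * w * y⁻¹ * (y * w * y⁻¹) = y * (w * w) * y⁻¹ := by group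
        _ = 1 := by rw [hI.sq w hw]; group
    have h4 : t * (p * w') * t * (p * w') = 1 := by
      rw [h2] at h3
      rw [← h3]; group
    have h5 : t * (p * w') * t = p * w' := by
      rw [eq_inv_of_mul_eq_one_left h4, hJ.inv hm]
    have h6 : t * (p * w') = (p * w') * t := by
      calc t * (p * w') = t * (p * w') * (t * t) := by rw [h.tt, mul_one]
        _ = (t * (p * w') * t) * t := by group
        _ = p * w' * t := by rw [h5]
    have h7 : D t u = 1 := by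
      rw [D_eq_one h.tt, h2, ← mul_assoc t, h.tt, one_mul, mul_assoc, ← h6, ← mul_assoc, h.tt, one_mul]
    have h8 : D t w = 1 := by
      rw [hDu] at h7
      have : D t w = y⁻¹ * (y * D t w * y⁻¹) * y := by group
      rw [this, h7]; group
    exact hJ.XW (act a ha w (hI.cent w hw ((D_eq_one h.tt).1 h8)))

end enm

/-- **Freeness.** -/
theorem free_of_free {t : G} (tt : t * t = 1) {X W : Subgroup G} (h : IsW t X W) {v : G} (vt : t * v = v * t)
    (vv : v * v = 1) (vW : ∀ w ∈ W, v * w * v ∈ W)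
    (fX : ∀ x ∈ X, v * x * v = x → ∃ y ∈ X, x = v * y * v * y⁻¹) {w : G} (hw : w ∈ W) (hvw : v * w * v = w) :
    ∃ c ∈ W, w = v * c * v * c⁻¹ := by
  have vi : v⁻¹ = v := inv_eq_of_mul_eq_one_left vv
  have hDv : ∀ z : G, D t (v * z * v) = v * D t z * v := by
    intro z
    have := D_conj' (t := t) (x := v) vt z
    rwa [vi] at this
  have cm : ∀ a b : G, v * (a * b) * v = (v * a * v) * (v * b * v) := by
    intro a b
    calc v * (a * b) * v = v * a * 1 * b * v := by group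
      _ = v * a * (v * v) * b * v := by rw [vv]
      _ = _ := by group
  have cc : ∀ a : G, v * (v * a * v) * v = a := by
    intro a
    calc v * (v * a * v) * v = (v * v) * a * (v * v) := by group
      _ = a := by rw [vv, one_mul, mul_one]
  have ci : ∀ a : G, v * a⁻¹ * v = (v * a * v)⁻¹ := by
    intro a
    rw [mul_inv_rev, mul_inv_rev, vi, mul_assoc]
  have hd : D t w ∈ X := h.brk w hw
  obtain ⟨y, hy, hdy⟩ := fX _ hd (by rw [← hDv, hvw])
  obtain ⟨c, hc, hcy'⟩ := h.surj y hy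
  have hcy : D t c = y := hcy'
  have hcv := vW c hc
  set e := v * c * v * c⁻¹ with he
  have heW : e ∈ W := mul_mem hcv (inv_mem hc)
  have hDe : D t e = D t w := by
    rw [he, D_mul tt, D_inv tt, hDv, hcy, hdy]
    have hyv : v * y * v ∈ X := by
      rw [← hcy, ← hDv]
      exact h.brk _ hcv
    have c1 : c⁻¹⁻¹ * (v * y * v) * c⁻¹ = v * y * v := by
      rw [inv_inv, h.ab hc (h.XW hyv), mul_inv_cancel_right]
    have c2 : c * y⁻¹ * c⁻¹ = y⁻¹ := by
      rw [h.ab hc (inv_mem (h.XW hy)), mul_inv_cancel_right]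
    rw [c1, c2]
  have hev : v * e * v = e := by
    rw [he, cm, cc, ci, h.ab hc (inv_mem hcv)]
    have h1 : v * c * v * c⁻¹ = (v * c * v)⁻¹ * c := by
      rw [h.inv hcv, h.inv hc]
    rw [h1]
  have h1 : e⁻¹ * w ∈ X := by
    refine h.cent _ (mul_mem (inv_mem heW) hw) ?_
    rw [← D_eq_one tt, D_mul tt, D_inv tt, hDe]
    have c1 : w⁻¹ * (e * (D t w)⁻¹ * e⁻¹) * w = (D t w)⁻¹ := by
      have hdi : (D t w)⁻¹ ∈ W := inv_mem (h.XW hd)
      rw [h.ab heW hdi, mul_inv_cancel_right, h.ab (inv_mem hw) hdi, inv_mul_cancel_right]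
    rw [c1, inv_mul_cancel]
  obtain ⟨y', hy', h2⟩ := fX _ h1 (by rw [cm, ci, hev, hvw])
  have hy'W := h.XW hy'
  have hy'v := vW y' hy'W
  refine ⟨c * y', mul_mem hc hy'W, ?_⟩
  have h3 : w = e * (v * y' * v * y'⁻¹) := by rw [← h2]; group
  rw [h3, he, cm, mul_inv_rev]
  calc v * c * v * c⁻¹ * (v * y' * v * y'⁻¹) = v * c * v * (c⁻¹ * (v * y' * v * y'⁻¹)) := by group
    _ = v * c * v * ((v * y' * v * y'⁻¹) * c⁻¹) := by
      rw [h.ab (inv_mem hc) (mul_mem hy'v (inv_mem hy'W))]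
    _ = v * c * v * (v * y' * v) * (y'⁻¹ * c⁻¹) := by group

end Cfsg.Agent.OddHalf.D7F4.OutEnm

end

-- merged: Cfsg.Agent.OddHalf.D7F4.OutModel
section

/-!
# Enumerations of the positive roots of `F₄` (helper84)

`e0`: by decreasing `lv`; `e1`: pairs `{a, dual a}`, the last ones are `(α₂ + 2α₁, α₁ + α₂)`, `(α₂, α₁)`; `e3`: starts with
`ρ`, `σ`, ends with `α₃`.
-/

set_option autoImplicit false

namespace Cfsg.Agent.OddHalf.D7F4.OutModel

open Model TypeC CC OutEnm Cfsg.Agent.Doubling Subgroup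
open Lead (Ab Dir Ab_le Ab_mono ρ σ ρ' σ' α3 α0)

/-! ### The lists -/

def L0 : List (Fin 4 → ℤ) := [![2, 4, 3, 2], ![2, 4, 3, 1], ![2, 4, 2, 1], ![2, 3, 2, 1], ![1, 3, 2, 1], ![2, 2, 2, 1],
  ![2, 2, 1, 1], ![2, 2, 1, 0], ![1, 2, 2, 1], ![1, 2, 1, 1], ![1, 2, 1, 0], ![0, 2, 2, 1], ![0, 2, 1, 1], ![1, 1, 1, 1],
  ![0, 2, 1, 0], ![1, 1, 1, 0], ![1, 1, 0, 0], ![0, 1, 1, 1], ![0, 1, 1, 0], ![0, 1, 0, 0], ![1, 0, 0, 0], ![0, 0, 1, 1],
  ![0, 0, 0, 1], ![0, 0, 1, 0]]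

def L1 : List (Fin 4 → ℤ) := [![2, 4, 3, 2], ![2, 3, 2, 1], ![2, 4, 3, 1], ![1, 3, 2, 1], ![2, 4, 2, 1], ![1, 2, 2, 1],
  ![2, 2, 2, 1], ![1, 2, 1, 1], ![2, 2, 1, 1], ![1, 1, 1, 1], ![2, 2, 1, 0], ![0, 1, 1, 1], ![0, 2, 2, 1], ![1, 2, 1, 0],
  ![0, 2, 1, 1], ![1, 1, 1, 0], ![0, 0, 1, 1], ![1, 1, 0, 0], ![0, 0, 0, 1], ![1, 0, 0, 0], ![0, 2, 1, 0], ![0, 1, 1, 0],
  ![0, 0, 1, 0], ![0, 1, 0, 0]]

def L3 : List (Fin 4 → ℤ) := [![2, 4, 3, 2], ![2, 3, 2, 1], ![1, 3, 2, 1], ![2, 4, 3, 1], ![1, 2, 2, 1], ![2, 4, 2, 1],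
  ![1, 2, 1, 1], ![2, 2, 2, 1], ![1, 2, 1, 0], ![0, 2, 2, 1], ![1, 1, 1, 1], ![2, 2, 1, 1], ![0, 1, 1, 1], ![2, 2, 1, 0],
  ![1, 1, 1, 0], ![0, 2, 1, 1], ![0, 1, 1, 0], ![0, 2, 1, 0], ![1, 1, 0, 0], ![0, 0, 1, 1], ![0, 1, 0, 0], ![0, 0, 1, 0],
  ![1, 0, 0, 0], ![0, 0, 0, 1]]

/-- the `i`-th element -/
def en (l : List (Fin 4 → ℤ)) (i : ℕ) : Fin 4 → ℤ := l.getD i 0

/-- the combinatorial condition -/
def Ok (l : List (Fin 4 → ℤ)) : Prop :=
  (∀ i ∈ List.range 24, en l i ∈ rts ∧ 0 < lv (en l i)) ∧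
  (∀ a ∈ rts, 0 < lv a → ∃ i ∈ List.range 24, en l i = a) ∧
  ∀ j ∈ List.range 24, ∀ i ∈ List.range j, B (en l i) (en l j) < 0 →
    (∃ k ∈ List.range i, en l k = en l i + en l j) ∧
    (B (en l i) (en l i) = 4 → B (en l j) (en l j) = 2 → ∃ k ∈ List.range i, en l k = en l i + en l j + en l j) ∧
    (B (en l i) (en l i) = 2 → B (en l j) (en l j) = 4 → ∃ k ∈ List.range i, en l k = en l j + en l i + en l i)

instance (l : List (Fin 4 → ℤ)) : Decidable (Ok l) := by unfold Ok; infer_instance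

theorem ok0 : Ok L0 := by decide +kernel
theorem ok1 : Ok L1 := by decide +kernel
theorem ok3 : Ok L3 := by decide +kernel

theorem dec0 : ∀ j ∈ List.range 24, ∀ i ∈ List.range j, lv (en L0 j) < lv (en L0 i) := by decide +kernel

theorem enm {l : List (Fin 4 → ℤ)} (h : Ok l) : Enm B Phi (en l) 24 where
  mem i hi := (h.1 i (List.mem_range.2 hi)).1
  pos i hi j hj := Lead.pos_ne_neg (h.1 i (List.mem_range.2 hi)).2 (h.1 j (List.mem_range.2 hj)).2
  up i j hij hj hB c hc := by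
    obtain ⟨⟨k, hk, h1⟩, h2, h3⟩ := h.2.2 j (List.mem_range.2 hj) i (List.mem_range.2 hij) hB
    rcases hc with rfl | ⟨k1, k2, rfl⟩ | ⟨k1, k2, rfl⟩
    · exact ⟨k, List.mem_range.1 hk, h1⟩
    · obtain ⟨k, hk, h4⟩ := h2 k1 k2
      exact ⟨k, List.mem_range.1 hk, h4⟩
    · obtain ⟨k, hk, h4⟩ := h3 k1 k2
      exact ⟨k, List.mem_range.1 hk, h4⟩

variable {G : Type*} [Group G] {t : G} {X W : (Fin 4 → ℤ) → Subgroup G}

theorem W_eq {l : List (Fin 4 → ℤ)} (h : Ok l) (V : (Fin 4 → ℤ) → Subgroup G) :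
    Growth.W (fun i => V (en l i)) 24 = Ab V 0 := by
  apply le_antisymm
  · exact iSup₂_le fun i hi => Lead.le_Ab (h.1 i (List.mem_range.2 hi)).1 (h.1 i (List.mem_range.2 hi)).2
  · refine Ab_le fun a ha ha0 => ?_
    obtain ⟨i, hi, rfl⟩ := h.2.1 a ha ha0
    exact Growth.le_W (fun i => V (en l i)) (List.mem_range.1 hi)

/-- the cardinality of `U` -/
theorem card_U [Finite G] (h : CC.Hyp t B Phi X W) (hD : Dir X) {q : ℕ} (hq : ∀ a ∈ rts, Nat.card (X a) = q) :
    Nat.card (Ab X 0) = q ^ 24 := by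
  have E := enm ok0
  rw [← W_eq ok0 X]
  refine card_W (E.cmX h) (fun k hk => ?_) (fun i hi => hq _ (E.mem i hi)) le_rfl
  rw [eq_bot_iff]
  rintro x ⟨hx, hx'⟩
  rw [mem_bot]
  have hk' := ok0.1 k (List.mem_range.2 hk)
  refine hD _ hk'.1 hk'.2 x hx ?_
  have hle : Growth.W (fun i => X (en L0 i)) k ≤ Ab X (lv (en L0 k)) := by
    refine iSup₂_le fun i hi => ?_
    exact Lead.le_Ab (ok0.1 i (List.mem_range.2 (hi.trans hk))).1
      (dec0 k (List.mem_range.2 hk) i (List.mem_range.2 hi))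
  exact hle hx'

/-- independence for every enumeration -/
theorem indep [Finite G] (h : CC.Hyp t B Phi X W) (hD : Dir X) {q : ℕ} (hq : ∀ a ∈ rts, Nat.card (X a) = q)
    {l : List (Fin 4 → ℤ)} (hl : Ok l) : ∀ k < 24, X (en l k) ⊓ Growth.W (fun i => X (en l i)) k = ⊥ := by
  intro k hk
  have E := enm hl
  refine (E.cmX h).indep_of_card (Q := q) (fun i hi => (hq _ (E.mem i hi)).le) ?_ hk
  rw [W_eq hl, card_U h hD hq]

/-- **Growth** -/
theorem dbl [Finite G] (h : CC.Hyp t B Phi X W) (hD : Dir X) {q : ℕ} (hq : ∀ a ∈ rts, Nat.card (X a) = q)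
    {l : List (Fin 4 → ℤ)} (hl : Ok l) :
    Growth.Dbl t (fun i => W (en l i)) (fun i => X (en l i)) 24 :=
  (enm hl).growth h (indep h hD hq hl)

/-- `|W a| = |X a|²` -/
theorem card_W_eq [Finite G] {t : G} (tt : t * t = 1) {X W : Subgroup G} (h : IsW t X W) :
    Nat.card W = Nat.card X ^ 2 := by
  have key : ∀ w : G, t * w * t = w ↔ t * w = w * t := by
    intro w
    constructor
    · intro h1
      calc t * w = t * w * (t * t) := by rw [tt, mul_one]
        _ = (t * w * t) * t := by group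
        _ = w * t := by rw [h1]
    · intro h1
      rw [h1, mul_assoc, tt, mul_one]
  have h1 := Out.Grow.card_eq_sq (v := t) (A := W) (fun a ha b hb => h.ab ha hb) tt (fun w hw => h.conj_mem hw)
    (fun w hw hwt => by
      obtain ⟨c, hc, he⟩ := h.surj w (h.cent w hw ((key w).1 hwt))
      refine ⟨c, hc, ?_⟩
      have hwi := h.inv hw
      calc w = w⁻¹ := hwi.symm
        _ = (c⁻¹ * (t * c * t))⁻¹ := by rw [he]
        _ = (t * c * t)⁻¹ * c := by group
        _ = (t * c * t) * c := by rw [h.inv (h.conj_mem hc)]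
        _ = t * c * t * c⁻¹ := by rw [h.inv hc]) h.sq
  have h2 : W ⊓ centralizer ({t} : Set G) = X := by
    ext w
    constructor
    · rintro ⟨hw, hw'⟩
      exact h.cent w hw (mem_centralizer_singleton_iff.1 hw').symm
    · intro hw
      exact ⟨h.XW hw, mem_centralizer_singleton_iff.2 (h.tX w hw).symm⟩
  rw [h1, h2]

/-- `|U*| = q⁴⁸` -/
theorem card_Us [Finite G] (h : CC.Hyp t B Phi X W) (hD : Dir X) {q : ℕ} (hq : ∀ a ∈ rts, Nat.card (X a) = q) :
    Nat.card (Ab W 0) = (q ^ 2) ^ 24 := by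
  have D := dbl h hD hq ok0
  rw [← W_eq ok0 W]
  refine card_W ((enm ok0).cmW h) (fun k hk => Out.Grow.disj D hk) (fun i hi => ?_) le_rfl
  rw [card_W_eq h.tt (h.isW _ ((enm ok0).mem i hi)), hq _ ((enm ok0).mem i hi)]

theorem Us2 [Finite G] (h : CC.Hyp t B Phi X W) (hD : Dir X) {q : ℕ} (hq : ∀ a ∈ rts, Nat.card (X a) = q) :
    IsPGroup 2 (Ab W 0) := by
  rw [← W_eq ok0 W]
  exact Out.Grow.isPGroup (dbl h hD hq ok0) le_rfl

theorem mem_U_iff [Finite G] (h : CC.Hyp t B Phi X W) (hD : Dir X) {q : ℕ} (hq : ∀ a ∈ rts, Nat.card (X a) = q)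
    {w : G} : w ∈ Ab X 0 ↔ w ∈ Ab W 0 ∧ w * t = t * w := by
  have D := dbl h hD hq ok0
  rw [← W_eq ok0 W, ← W_eq ok0 X, D.mem_U_iff le_rfl]
  refine and_congr_right fun _ => ?_
  constructor
  · intro h1
    calc w * t = t * w * t * t := by rw [h1]
      _ = t * w * (t * t) := by group
      _ = t * w := by rw [h.tt, mul_one]
  · intro h1
    rw [mul_assoc, h1, ← mul_assoc, h.tt, one_mul]

/-- involutions of `t U*` are conjugate to `t` -/
theorem conj_t [Finite G] (h : CC.Hyp t B Phi X W) (hD : Dir X) {q : ℕ} (hq : ∀ a ∈ rts, Nat.card (X a) = q)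
    {w : G} (hw : w ∈ Ab W 0) (hww : t * w * (t * w) = 1) : ∃ a ∈ Ab W 0, t * w = a * t * a⁻¹ := by
  have D := dbl h hD hq ok0
  rw [← W_eq ok0 W] at hw ⊢
  exact D.exists_conj hw hww

/-- `W ρ`, `W σ` are central in `U*` -/
theorem central [Finite G] (h : CC.Hyp t B Phi X W) {z w : G} (hz : z ∈ W ρ ⊔ W σ) (hw : w ∈ Ab W 0) :
    z * w = w * z := by
  have hle : W ρ ⊔ W σ ≤ centralizer ((Ab W 0 : Subgroup G) : Set G) := by
    have key : ∀ r ∈ rts, (∀ a ∈ rts, 0 < lv a → 0 ≤ B r a) → W r ≤ centralizer ((Ab W 0 : Subgroup G) : Set G) := by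
      intro r hr hB z hz
      rw [mem_centralizer_iff]
      intro w hw
      have h1 : Ab W 0 ≤ centralizer ({z} : Set G) := Ab_le fun a ha ha0 u hu =>
        mem_centralizer_singleton_iff.2 (h.WW hr ha (hB a ha ha0) hz hu).symm
      exact mem_centralizer_singleton_iff.1 (h1 hw)
    exact sup_le (key ρ Lead.ρ_mem fun a ha ha0 => (Lead.dom a ha ha0).1)
      (key σ Lead.σ_mem fun a ha ha0 => (Lead.dom a ha ha0).2)
  exact (mem_centralizer_iff.1 (hle hz) w hw).symm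

end Cfsg.Agent.OddHalf.D7F4.OutModel

end

-- merged: Cfsg.Agent.OddHalf.Out.Graph
section

/-!
# Involutions of graph type (ODD D7, `K = F₄(q)`, `q = 2^k`, `k` odd; helper84, bb ODD 11098 §4)

`s ∈ T` is an involution acting on `K` as a graph automorphism, `W₁` a doubled long simple root group, `W₂ = W₁ ^ s` the
doubled short simple root group at `135°`, `N` the third (long) doubled root group of the `B₂`, `W₃` the short one.

* `GP.main`: for `v = s` or for `v = t s` no `1 ≠ w ∈ W₁` has `[w, w^v] ∈ N`;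
* `transport`, `excludedG`: `v` is not conjugate to `t` (in the sense of `Exclude.excluded`) if `U` is generated by
  involutions and `C_{U*}(v)` is not.
-/

set_option autoImplicit false

namespace Cfsg.Agent.OddHalf.Out.Graph

open Subgroup Exclude

variable {G : Type*} [Group G]

/-- the commutator `a b a⁻¹ b⁻¹` -/
def br (a b : G) : G := a * b * a⁻¹ * b⁻¹

/-- A `B₂` with a graph involution. -/
structure GP {F : Type*} [Field F] (t s : G) (θ : F →+* F) (x1 x2 x3 : F → G) (W1 W2 W3 N : Subgroup G) : Prop where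
  tt : t * t = 1
  ss : s * s = 1
  st : s * t = t * s
  /-- the long simple root -/
  add1 : ∀ a b, x1 (a + b) = x1 a * x1 b
  mem1 : ∀ a, x1 a ∈ W1
  ab1 : ∀ a ∈ W1, ∀ b ∈ W1, a * b = b * a
  ht1 : ∀ w ∈ W1, ∃ a, t * w * t = w * x1 a
  fix1 : ∀ w ∈ W1, t * w * t = w → ∃ a, w = x1 a
  tx1 : ∀ a, t * x1 a * t = x1 a
  /-- the short simple root -/
  add2 : ∀ a b, x2 (a + b) = x2 a * x2 b
  sW : ∀ w ∈ W1, s * w * s ∈ W2
  sx : ∀ a, s * x1 a * s = x2 (θ a)
  /-- the third root -/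
  add3 : ∀ a b, x3 (a + b) = x3 a * x3 b
  inj3 : ∀ a, x3 a ∈ N → a = 0
  mem3 : ∀ a, x3 a ∈ W3
  rel : ∀ a b, (x3 (a * b))⁻¹ * br (x1 a) (x2 b) ∈ N
  brm : ∀ w ∈ W1, ∀ v ∈ W2, br w v ∈ W3 ⊔ N
  c13 : ∀ w ∈ W1, ∀ y ∈ W3 ⊔ N, w * y = y * w
  c23 : ∀ w ∈ W2, ∀ y ∈ W3 ⊔ N, w * y = y * w
  c33 : ∀ w ∈ W3 ⊔ N, ∀ y ∈ W3 ⊔ N, w * y = y * w
  tN : ∀ y ∈ N, t * y * t ∈ N
  /-- `2 θ² = 1` -/
  two : ∀ a, θ (θ a) * θ (θ a) = a
  /-- the torus -/
  tor : ∀ c : F, c ≠ 0 → ∃ h : G, h * t = t * h ∧ h * s = s * h ∧ (∀ w ∈ W1, h * w * h⁻¹ ∈ W1) ∧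
    (∀ y ∈ N, h * y * h⁻¹ ∈ N) ∧ ∀ a, h * x1 a * h⁻¹ = x1 (c * a)

namespace GP

variable {F : Type*} [Field F] {t s : G} {θ : F →+* F} {x1 x2 x3 : F → G} {W1 W2 W3 N : Subgroup G}

theorem conj_br (z a b : G) : z * br a b * z⁻¹ = br (z * a * z⁻¹) (z * b * z⁻¹) := by
  unfold br; group

theorem t_inv (P : GP t s θ x1 x2 x3 W1 W2 W3 N) : t⁻¹ = t := inv_eq_of_mul_eq_one_left P.tt

theorem s_inv (P : GP t s θ x1 x2 x3 W1 W2 W3 N) : s⁻¹ = s := inv_eq_of_mul_eq_one_left P.ss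

theorem mul_left (P : GP t s θ x1 x2 x3 W1 W2 W3 N) {a a' v : G} (ha : a ∈ W1) (ha' : a' ∈ W1) (hv : v ∈ W2) :
    br (a * a') v = br a v * br a' v := by
  have h1 : br (a * a') v = a * br a' v * a⁻¹ * br a v := by unfold br; group
  have h2 := P.c13 a ha _ (P.brm a' ha' v hv)
  have h3 := P.c33 _ (P.brm a ha v hv) _ (P.brm a' ha' v hv)
  rw [h1, h2, mul_inv_cancel_right, h3]

theorem mul_right (P : GP t s θ x1 x2 x3 W1 W2 W3 N) {a v v' : G} (ha : a ∈ W1) (hv : v ∈ W2) (hv' : v' ∈ W2) :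
    br a (v * v') = br a v * br a v' := by
  have h1 : br a (v * v') = br a v * (v * br a v' * v⁻¹) := by unfold br; group
  have h2 := P.c23 v hv _ (P.brm a ha v' hv')
  rw [h1, h2, mul_inv_cancel_right]

theorem mem2 (P : GP t s θ x1 x2 x3 W1 W2 W3 N) (h2 : ∀ b, ∃ a, θ a = b) (b : F) : x2 b ∈ W2 := by
  obtain ⟨a, rfl⟩ := h2 b
  rw [← P.sx]
  exact P.sW _ (P.mem1 a)

theorem surj (P : GP t s θ x1 x2 x3 W1 W2 W3 N) (b : F) : ∃ a, θ a = b := by
  refine ⟨θ (b * b), ?_⟩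
  have h1 := P.two b
  rw [map_mul, map_mul]
  exact h1

theorem mem2' (P : GP t s θ x1 x2 x3 W1 W2 W3 N) (b : F) : x2 b ∈ W2 := P.mem2 P.surj b

theorem x_zero1 (P : GP t s θ x1 x2 x3 W1 W2 W3 N) : x1 0 = 1 := by
  have h := P.add1 0 0
  rw [add_zero] at h
  exact (left_eq_mul.1 h)

/-- `[w, w^v] ∉ N` for `1 ≠ w ∈ X₁`. -/
theorem of_fix (P : GP t s θ x1 x2 x3 W1 W2 W3 N) {a : F} (h : br (x1 a) (x2 (θ a)) ∈ N) : a = 0 := by
  have h1 := P.rel a (θ a)
  have h2 : x3 (a * θ a) ∈ N := by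
    have h3 : x3 (a * θ a) = br (x1 a) (x2 (θ a)) * ((x3 (a * θ a))⁻¹ * br (x1 a) (x2 (θ a)))⁻¹ := by group
    rw [h3]
    exact N.mul_mem h (N.inv_mem h1)
  have h3 := P.inj3 _ h2
  rcases mul_eq_zero.1 h3 with h4 | h4
  · exact h4
  · exact (map_eq_zero θ).1 h4

/-- **For `v = s` or for `v = t s` no `1 ≠ w ∈ W₁` has `[w, w^v] ∈ N`.** -/
theorem main (P : GP t s θ x1 x2 x3 W1 W2 W3 N) :
    (∀ w ∈ W1, br w (s * w * s) ∈ N → w = 1) ∨ ∀ w ∈ W1, br w (t * s * w * (t * s)⁻¹) ∈ N → w = 1 := by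
  by_contra hcon
  push Not at hcon
  obtain ⟨⟨w, hw, hwN, hw1⟩, w', hw', hwN', hw1'⟩ := hcon
  have hti := P.t_inv
  have hsi := P.s_inv
  -- heights
  obtain ⟨c, hc⟩ := P.ht1 w hw
  obtain ⟨c', hc'⟩ := P.ht1 w' hw'
  have hc0 : c ≠ 0 := by
    rintro rfl
    rw [P.x_zero1, mul_one] at hc
    obtain ⟨a, rfl⟩ := P.fix1 w hw hc
    rw [P.sx] at hwN
    rw [P.of_fix hwN, P.x_zero1] at hw1
    exact hw1 rfl
  have hts : ∀ w : G, t * s * w * (t * s)⁻¹ = s * (t * w * t) * s := by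
    intro w
    rw [mul_inv_rev, hti, hsi, ← P.st]
    calc s * t * w * (s * t) = s * t * w * (t * s) := by rw [P.st]
      _ = s * (t * w * t) * s := by group
  have hc0' : c' ≠ 0 := by
    rintro rfl
    rw [P.x_zero1, mul_one] at hc'
    obtain ⟨a, rfl⟩ := P.fix1 w' hw' hc'
    rw [hts, hc', P.sx] at hwN'
    rw [P.of_fix hwN', P.x_zero1] at hw1'
    exact hw1' rfl
  -- normalise `c = 1`
  obtain ⟨h, hht, hhs, hhW, hhN, hhx⟩ := P.tor c⁻¹ (inv_ne_zero hc0)
  obtain ⟨k, hkt, hks, hkW, hkN, hkx⟩ := P.tor c'⁻¹ (inv_ne_zero hc0')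
  set u : G := h * w * h⁻¹ with hu
  set u' : G := k * w' * k⁻¹ with hu'
  have conj_t : ∀ {h x : G}, h * t = t * h → t * (h * x * h⁻¹) * t = h * (t * x * t) * h⁻¹ := by
    intro h x hh
    have h2 : h⁻¹ * t = t * h⁻¹ := by rw [inv_mul_eq_iff_eq_mul, ← mul_assoc, hh, mul_inv_cancel_right]
    calc t * (h * x * h⁻¹) * t = (t * h) * x * (h⁻¹ * t) := by group
      _ = h * (t * x * t) * h⁻¹ := by rw [← hh, h2]; group
  have conj_s : ∀ {h x : G}, h * s = s * h → s * (h * x * h⁻¹) * s = h * (s * x * s) * h⁻¹ := by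
    intro h x hh
    have h2 : h⁻¹ * s = s * h⁻¹ := by rw [inv_mul_eq_iff_eq_mul, ← mul_assoc, hh, mul_inv_cancel_right]
    calc s * (h * x * h⁻¹) * s = (s * h) * x * (h⁻¹ * s) := by group
      _ = h * (s * x * s) * h⁻¹ := by rw [← hh, h2]; group
  have huW : u ∈ W1 := hhW w hw
  have hu'W : u' ∈ W1 := hkW w' hw'
  have htu : t * u * t = u * x1 1 := by
    rw [hu, conj_t hht, hc]
    calc h * (w * x1 c) * h⁻¹ = (h * w * h⁻¹) * (h * x1 c * h⁻¹) := by group
      _ = h * w * h⁻¹ * x1 1 := by rw [hhx, inv_mul_cancel₀ hc0]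
  have htu' : t * u' * t = u' * x1 1 := by
    rw [hu', conj_t hkt, hc']
    calc k * (w' * x1 c') * k⁻¹ = (k * w' * k⁻¹) * (k * x1 c' * k⁻¹) := by group
      _ = k * w' * k⁻¹ * x1 1 := by rw [hkx, inv_mul_cancel₀ hc0']
  have huN : br u (s * u * s) ∈ N := by
    have h1 := hhN _ hwN
    rw [conj_br] at h1
    rwa [hu, conj_s hhs]
  have hu'N : br u' (s * (u' * x1 1) * s) ∈ N := by
    rw [← htu']
    have h1 := hkN _ hwN'
    rw [conj_br, hts] at h1
    have h2 : k * (s * (t * w' * t) * s) * k⁻¹ = s * (t * u' * t) * s := by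
      rw [hu', conj_t hkt, ← conj_s hks]
    rwa [h2] at h1
  -- `u' = u x₁(d)`
  obtain ⟨d, hd⟩ : ∃ d, u⁻¹ * u' = x1 d := by
    apply P.fix1 _ (W1.mul_mem (W1.inv_mem huW) hu'W)
    have e0 : t * u⁻¹ * t = (t * u * t)⁻¹ := by
      calc t * u⁻¹ * t = t⁻¹ * u⁻¹ * t⁻¹ := by rw [hti]
        _ = (t * u * t)⁻¹ := by group
    calc t * (u⁻¹ * u') * t = (t * u⁻¹ * t) * (t * t)⁻¹ * (t * u' * t) := by group
      _ = (t * u⁻¹ * t) * (t * u' * t) := by rw [P.tt]; group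
      _ = (t * u * t)⁻¹ * (t * u' * t) := by rw [e0]
      _ = (u * x1 1)⁻¹ * (u' * x1 1) := by rw [htu, htu']
      _ = (x1 1)⁻¹ * (u⁻¹ * u') * x1 1 := by group
      _ = u⁻¹ * u' := by
        rw [P.ab1 _ (W1.inv_mem (P.mem1 1)) _ (W1.mul_mem (W1.inv_mem huW) hu'W), inv_mul_cancel_right]
  have hd' : u' = u * x1 d := by rw [← hd]; group
  set y : G := s * u * s with hy
  have hyW : y ∈ W2 := P.sW u huW
  set e : F := θ d + 1 with he
  have hs1 : s * (u' * x1 1) * s = y * x2 e := by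
    rw [hd', hy, he, P.add2, ← P.sx]
    have h1 : x2 1 = s * x1 1 * s := by rw [P.sx, map_one]
    rw [h1]
    calc s * (u * x1 d * x1 1) * s = s * u * (x1 d * x1 1) * s := by group
      _ = s * u * (s * s) * x1 d * (s * s) * x1 1 * s := by rw [P.ss]; group
      _ = s * u * s * (s * x1 d * s * (s * x1 1 * s)) := by group
  have hxeW : x2 e ∈ W2 := P.mem2' e
  -- the four terms
  have h4 : br u (x2 e) * br (x1 d) y * br (x1 d) (x2 e) ∈ N := by
    rw [hs1, hd', P.mul_left huW (P.mem1 d) (W2.mul_mem hyW hxeW), P.mul_right huW hyW hxeW,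
      P.mul_right (P.mem1 d) hyW hxeW] at hu'N
    have h5 := N.mul_mem (N.inv_mem huN) hu'N
    have h6 : (br u y)⁻¹ * (br u y * br u (x2 e) * (br (x1 d) y * br (x1 d) (x2 e))) =
        br u (x2 e) * br (x1 d) y * br (x1 d) (x2 e) := by group
    rwa [h6] at h5
  -- apply `t`
  have hconj : ∀ a b : G, t * br a b * t = br (t * a * t) (t * b * t) := by
    intro a b
    have := conj_br t a b
    rwa [hti] at this
  have htx2 : ∀ b, t * x2 b * t = x2 b := by
    intro b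
    obtain ⟨a, rfl⟩ := P.surj b
    rw [← P.sx]
    calc t * (s * x1 a * s) * t = (t * s) * x1 a * (s * t) := by group
      _ = (s * t) * x1 a * (t * s) := by rw [P.st]
      _ = s * (t * x1 a * t) * s := by group
      _ = s * x1 a * s := by rw [P.tx1]
  have hty : t * y * t = y * x2 1 := by
    have h1 : x2 1 = s * x1 1 * s := by rw [P.sx, map_one]
    rw [h1, hy]
    calc t * (s * u * s) * t = (t * s) * u * (s * t) := by group
      _ = (s * t) * u * (t * s) := by rw [P.st]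
      _ = s * (t * u * t) * s := by group
      _ = s * (u * x1 1) * s := by rw [htu]
      _ = s * u * (s * s) * x1 1 * s := by rw [P.ss]; group
      _ = s * u * s * (s * x1 1 * s) := by group
  have h5 := P.tN _ h4
  have h6 : t * (br u (x2 e) * br (x1 d) y * br (x1 d) (x2 e)) * t =
      (t * br u (x2 e) * t) * (t * br (x1 d) y * t) * (t * br (x1 d) (x2 e) * t) := by
    calc t * (br u (x2 e) * br (x1 d) y * br (x1 d) (x2 e)) * t
        = t * br u (x2 e) * 1 * br (x1 d) y * 1 * br (x1 d) (x2 e) * t := by group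
      _ = t * br u (x2 e) * (t * t) * br (x1 d) y * (t * t) * br (x1 d) (x2 e) * t := by rw [P.tt]
      _ = _ := by group
  rw [h6, hconj, hconj, hconj, htu, htx2, P.tx1, hty, P.mul_left huW (P.mem1 1) hxeW,
    P.mul_right (P.mem1 d) hyW (P.mem2' 1)] at h5
  -- the quotient
  set A : G := br u (x2 e)
  set B : G := br (x1 d) y
  set C : G := br (x1 d) (x2 e)
  set D : G := br (x1 1) (x2 e) with hD
  set E : G := br (x1 d) (x2 1) with hE
  have hA : A ∈ W3 ⊔ N := P.brm _ huW _ hxeW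
  have hB : B ∈ W3 ⊔ N := P.brm _ (P.mem1 d) _ hyW
  have hDm : D ∈ W3 ⊔ N := P.brm _ (P.mem1 1) _ hxeW
  have hEm : E ∈ W3 ⊔ N := P.brm _ (P.mem1 d) _ (P.mem2' 1)
  have h7 : D * E ∈ N := by
    have h8 : A * D * (B * E) * C = (D * E) * (A * B * C) := by
      have c1 := P.c33 A hA D hDm
      have c2 := P.c33 B hB E hEm
      have c3 := P.c33 A hA E hEm
      calc A * D * (B * E) * C = (A * D) * (B * E) * C := by group
        _ = (D * A) * (E * B) * C := by rw [c1, c2]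
        _ = D * (A * E) * (B * C) := by group
        _ = D * (E * A) * (B * C) := by rw [c3]
        _ = (D * E) * (A * B * C) := by group
    rw [h8] at h5
    have h9 := N.mul_mem h5 (N.inv_mem h4)
    rwa [mul_inv_cancel_right] at h9
  have h8 : x3 (e + d) ∈ N := by
    have k1 := P.rel 1 e
    have k2 := P.rel d 1
    rw [one_mul] at k1
    rw [mul_one] at k2
    have k3 : x3 (e + d) = D * E * ((x3 d)⁻¹ * E)⁻¹ * (E * ((x3 e)⁻¹ * D) * E⁻¹)⁻¹ *
        1 := by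
      have c1 : (x3 e)⁻¹ * D ∈ W3 ⊔ N := mem_sup_right k1
      have c2 := P.c33 E hEm _ c1
      rw [c2, mul_inv_cancel_right, P.add3, mul_one]
      have c3 := P.c33 _ (mem_sup_left (P.mem3 d)) _ (Subgroup.inv_mem _ c1)
      calc x3 e * x3 d = D * ((x3 e)⁻¹ * D)⁻¹ * x3 d := by group
        _ = D * (((x3 e)⁻¹ * D)⁻¹ * x3 d) := by group
        _ = D * (x3 d * ((x3 e)⁻¹ * D)⁻¹) := by rw [c3]
        _ = D * E * ((x3 d)⁻¹ * E)⁻¹ * ((x3 e)⁻¹ * D)⁻¹ := by group
    rw [k3, mul_one]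
    refine N.mul_mem (N.mul_mem h7 (N.inv_mem k2)) (N.inv_mem ?_)
    rw [P.c33 E hEm _ (mem_sup_right k1), mul_inv_cancel_right]
    exact k1
  have h9 := P.inj3 _ h8
  -- `θ d = d + 1`
  have h2 : (2 : F) = 0 := by
    have k1 := P.two 2
    have k2 : θ (θ (2 : F)) = 2 := by rw [map_ofNat, map_ofNat]
    rw [k2] at k1
    have k3 : (2 : F) * (2 - 1) = 0 := by
      rw [mul_sub, k1, mul_one, sub_self]
    rcases mul_eq_zero.1 k3 with k4 | k4
    · exact k4
    · exfalso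
      have k5 : (1 : F) = 0 := by
        have : (2 : F) - 1 = 1 := by norm_num
        rw [← this]; exact k4
      exact one_ne_zero k5
  have h10 : θ d = d + 1 := by
    rw [he] at h9
    have : θ d = θ d + 1 + d - (d + 1) := by ring
    rw [this, h9, zero_sub]
    have k1 : (d + 1) * 2 = 0 := by rw [h2, mul_zero]
    have : -(d + 1) = d + 1 - (d + 1) * 2 := by ring
    rw [this, k1, sub_zero]
  have h11 : θ (θ d) = d := by
    rw [h10, map_add, map_one, h10]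
    have : d + 1 + 1 = d + 2 := by ring
    rw [this, h2, add_zero]
  have h12 := P.two d
  rw [h11] at h12
  have h13 : d * (d - 1) = 0 := by rw [mul_sub, h12, mul_one, sub_self]
  rcases mul_eq_zero.1 h13 with h14 | h14
  · rw [h14, map_zero, zero_add] at h10
    exact zero_ne_one h10
  · have h15 : d = 1 := sub_eq_zero.1 h14
    rw [h15, map_one] at h10
    have : (1 : F) = 0 := by
      have h16 : (1 : F) + 1 = 2 := by norm_num
      rw [h10, h16, h2]
    exact one_ne_zero this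

end GP

/-- **The transport** `C_{U*}(v) → U` (first half of `Exclude.excluded`). -/
theorem transport [Finite G] {t : G} {T U Us : Subgroup G} (F : Fr t T U Us) {v : G} (hvU : v ∉ Us)
    (Z Zs : Subgroup G) (ZsU : Zs ≤ Us) (Zc : ∀ z ∈ Zs, ∀ w ∈ Us, z * w = w * z)
    (k0 : ∀ z ∈ Zs, ∀ g : G, g⁻¹ * t * g ≠ z) (k0' : ∀ z ∈ Z, ∃ g : G, g⁻¹ * t * g = t * z)
    (hcard : Nat.card Z ≤ Nat.card (Zs ⊓ centralizer ({v} : Set G) : Subgroup G))
    (k1 : ∀ c ∈ T, (∀ a ∈ T, ∀ b ∈ T, c * (a * b * a⁻¹ * b⁻¹) = a * b * a⁻¹ * b⁻¹ * c) → c ∈ Z ∨ t * c ∈ Z)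
    (k2 : ∀ c ∈ T, (∀ z ∈ Z, c * z = z * c) → c ∈ U ∨ t * c ∈ U) {g : G} (hv : g⁻¹ * t * g = v)
    (hg : ∀ d ∈ T, g⁻¹ * d * g ∈ F.S) :
    (∀ x ∈ Us, x * v = v * x → g * x * g⁻¹ ∈ T ∧ (g * x * g⁻¹ ∈ U ∨ t * (g * x * g⁻¹) ∈ U)) ∧
      ∀ u ∈ U, ∃ x ∈ Us, x * v = v * x ∧ (u = g * x * g⁻¹ ∨ u = t * (g * x * g⁻¹)) := by
  classical
  have ti : t⁻¹ = t := inv_eq_of_mul_eq_one_left F.tt
  -- transport
  have hT : ∀ c ∈ F.S, c * v = v * c → g * c * g⁻¹ ∈ T := by
    intro c hc hcv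
    apply F.conj_mem hg hc
    rw [hv]
    exact hcv
  -- commutators of `T` are carried into `U*`
  have hcomm : ∀ a ∈ T, ∀ b ∈ T, g⁻¹ * (a * b * a⁻¹ * b⁻¹) * g ∈ Us := by
    intro a ha b hb
    have h1 := F.comm_mem (hg a ha) (hg b hb)
    have h2 : g⁻¹ * a * g * (g⁻¹ * b * g) * (g⁻¹ * a * g)⁻¹ * (g⁻¹ * b * g)⁻¹ = g⁻¹ * (a * b * a⁻¹ * b⁻¹) * g := by
      group
    rwa [h2] at h1
  -- `Zs ∩ C(v)` is carried into `Z`
  have hZ : ∀ z ∈ Zs, z * v = v * z → g * z * g⁻¹ ∈ Z := by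
    intro z hz hzv
    have h1 : g * z * g⁻¹ ∈ T := hT z (F.Us_le (ZsU hz)) hzv
    rcases k1 _ h1 (fun a ha b hb => by
      have h2 := Zc z hz _ (hcomm a ha b hb)
      calc g * z * g⁻¹ * (a * b * a⁻¹ * b⁻¹) = g * (z * (g⁻¹ * (a * b * a⁻¹ * b⁻¹) * g)) * g⁻¹ := by group
        _ = g * (g⁻¹ * (a * b * a⁻¹ * b⁻¹) * g * z) * g⁻¹ := by rw [h2]
        _ = a * b * a⁻¹ * b⁻¹ * (g * z * g⁻¹) := by group) with h2 | h2
    · exact h2
    · exfalso
      obtain ⟨h, hh⟩ := k0' _ h2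
      apply k0 z hz (h * g)
      rw [← mul_assoc t, F.tt, one_mul] at hh
      calc (h * g)⁻¹ * t * (h * g) = g⁻¹ * (h⁻¹ * t * h) * g := by group
        _ = g⁻¹ * (g * z * g⁻¹) * g := by rw [hh]
        _ = z := by group
  -- ... onto `Z`
  have hZ' : ∀ z ∈ Z, ∃ z' ∈ Zs, z' * v = v * z' ∧ z = g * z' * g⁻¹ := by
    have hmem : ∀ x : (Zs ⊓ centralizer ({v} : Set G) : Subgroup G), (x : G) * v = v * x := fun x =>
      mem_centralizer_singleton_iff.1 x.2.2
    let f : (Zs ⊓ centralizer ({v} : Set G) : Subgroup G) → Z := fun x => ⟨g * x * g⁻¹, hZ x x.2.1 (hmem x)⟩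
    have hf : Function.Injective f := by
      intro a b hab
      have h2 : g * (a : G) * g⁻¹ = g * b * g⁻¹ := congrArg Subtype.val hab
      exact Subtype.ext (mul_left_cancel (mul_right_cancel h2))
    have hs : Function.Bijective f := hf.bijective_of_nat_card_le hcard
    intro z hz
    obtain ⟨x, hx⟩ := hs.2 ⟨z, hz⟩
    exact ⟨x, x.2.1, hmem x, (congrArg Subtype.val hx).symm⟩
  -- `X = g C_{U*}(v) g⁻¹ ≤ ⟨t⟩ U`
  have hX : ∀ x ∈ Us, x * v = v * x → g * x * g⁻¹ ∈ U ∨ t * (g * x * g⁻¹) ∈ U := by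
    intro x hx hxv
    apply k2 _ (hT x (F.Us_le hx) hxv)
    intro z hz
    obtain ⟨z', hz', -, rfl⟩ := hZ' z hz
    have h2 := Zc z' hz' x hx
    calc g * x * g⁻¹ * (g * z' * g⁻¹) = g * (x * z') * g⁻¹ := by group
      _ = g * (z' * x) * g⁻¹ := by rw [h2]
      _ = g * z' * g⁻¹ * (g * x * g⁻¹) := by group
  -- the projection to `U` is onto
  have hmemX : ∀ x : (Us ⊓ centralizer ({v} : Set G) : Subgroup G), (x : G) * v = v * x := fun x =>
    mem_centralizer_singleton_iff.1 x.2.2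
  let p : (Us ⊓ centralizer ({v} : Set G) : Subgroup G) → U := fun x =>
    if h : g * (x : G) * g⁻¹ ∈ U then ⟨_, h⟩ else ⟨t * (g * x * g⁻¹), (hX x x.2.1 (hmemX x)).resolve_left h⟩
  have hpval : ∀ x, (p x : G) = g * (x : G) * g⁻¹ ∨ (p x : G) = t * (g * x * g⁻¹) := by
    intro x
    by_cases h : g * (x : G) * g⁻¹ ∈ U
    · left
      simp only [p, dif_pos h]
    · right
      simp only [p, dif_neg h]
  have hnt : ∀ a b : (Us ⊓ centralizer ({v} : Set G) : Subgroup G),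
      g * (a : G) * g⁻¹ ≠ t * (g * b * g⁻¹) := by
    intro a b hab
    apply hvU
    have h1 : v = (a : G) * (b : G)⁻¹ := by
      have h2 : (a : G) = g⁻¹ * (t * (g * b * g⁻¹)) * g := by rw [← hab]; group
      have h3 : (a : G) = v * b := by
        calc (a : G) = g⁻¹ * (t * (g * b * g⁻¹)) * g := h2
          _ = (g⁻¹ * t * g) * b := by group
          _ = v * b := congrArg (fun x => x * (b : G)) hv
      calc v = v * b * (b : G)⁻¹ := by group
        _ = (a : G) * (b : G)⁻¹ := congrArg (fun x => x * (b : G)⁻¹) h3.symm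
    rw [h1]
    exact mul_mem a.2.1 (inv_mem b.2.1)
  have hpinj : Function.Injective p := by
    intro a b hab
    have h1 : (p a : G) = p b := congrArg Subtype.val hab
    apply Subtype.ext
    rcases hpval a with h2 | h2 <;> rcases hpval b with h3 | h3 <;> rw [h2, h3] at h1
    · exact mul_left_cancel (mul_right_cancel h1)
    · exact absurd h1 (hnt a b)
    · exact absurd h1.symm (hnt b a)
    · exact mul_left_cancel (mul_right_cancel (mul_left_cancel h1))
  have hpsurj : Function.Surjective p := (hpinj.bijective_of_nat_card_le (card_le F hv hg)).2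
  refine ⟨fun x hx hxv => ⟨hT x (F.Us_le hx) hxv, hX x hx hxv⟩, fun u hu => ?_⟩
  obtain ⟨c, hc⟩ := hpsurj ⟨u, hu⟩
  have h1 : (p c : G) = u := congrArg Subtype.val hc
  refine ⟨c, c.2.1, hmemX c, ?_⟩
  rw [← h1]
  exact hpval c

/-- **The type of `v` is excluded**: `U` is generated by involutions, `C_{U*}(v)` is not. -/
theorem excludedG [Finite G] {t : G} {T U Us : Subgroup G} (F : Fr t T U Us) {v : G} (hvU : v ∉ Us)
    (Z Zs : Subgroup G) (ZsU : Zs ≤ Us) (Zc : ∀ z ∈ Zs, ∀ w ∈ Us, z * w = w * z)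
    (k0 : ∀ z ∈ Zs, ∀ g : G, g⁻¹ * t * g ≠ z) (k0' : ∀ z ∈ Z, ∃ g : G, g⁻¹ * t * g = t * z)
    (hcard : Nat.card Z ≤ Nat.card (Zs ⊓ centralizer ({v} : Set G) : Subgroup G))
    (k1 : ∀ c ∈ T, (∀ a ∈ T, ∀ b ∈ T, c * (a * b * a⁻¹ * b⁻¹) = a * b * a⁻¹ * b⁻¹ * c) → c ∈ Z ∨ t * c ∈ Z)
    (k2 : ∀ c ∈ T, (∀ z ∈ Z, c * z = z * c) → c ∈ U ∨ t * c ∈ U)
    (gen : ∀ P : Subgroup G, (∀ u ∈ U, u * u = 1 → u ∈ P) → U ≤ P)
    (M : Subgroup G) (hM : ∀ x ∈ Us, x * v = v * x → x * x = 1 → x ∈ M)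
    (hne : Nat.card (Us ⊓ M ⊓ centralizer ({v} : Set G) : Subgroup G) < Nat.card U) {g : G}
    (hv : g⁻¹ * t * g = v) (hg : ∀ d ∈ T, g⁻¹ * d * g ∈ F.S) : False := by
  classical
  obtain ⟨h1, h2⟩ := transport F hvU Z Zs ZsU Zc k0 k0' hcard k1 k2 hv hg
  have hle := card_le F hv hg
  have vv : v * v = 1 := by
    rw [← hv]
    calc g⁻¹ * t * g * (g⁻¹ * t * g) = g⁻¹ * (t * t) * g := by group
      _ = 1 := by rw [F.tt]; group
  -- the group `P`
  set M' : Subgroup G := Us ⊓ M ⊓ centralizer ({v} : Set G) with hM'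
  have hM'v : ∀ x ∈ M', x * v = v * x := fun x hx => mem_centralizer_singleton_iff.1 hx.2
  let P0 : Subgroup G :=
    { carrier := {x | x ∈ M' ∨ v * x ∈ M'}
      one_mem' := Or.inl (one_mem _)
      mul_mem' := by
        rintro a b (ha | ha) (hb | hb)
        · exact Or.inl (mul_mem ha hb)
        · right
          have : v * (a * b) = a * (v * b) := by rw [← mul_assoc, ← hM'v a ha, mul_assoc]
          rw [this]; exact mul_mem ha hb
        · right
          rw [← mul_assoc]; exact mul_mem ha hb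
        · left
          have h3 : a * b = v * a * (v * b) := by
            have h4 := hM'v _ ha
            calc a * b = (v * v) * a * b := by rw [vv, one_mul]
              _ = v * (v * a) * b := by group
              _ = (v * a * v) * b := by rw [h4]
              _ = v * a * (v * b) := by group
          rw [h3]; exact mul_mem ha hb
      inv_mem' := by
        rintro a (ha | ha)
        · exact Or.inl (inv_mem ha)
        · right
          have h4 := hM'v _ (inv_mem ha)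
          have h5 : v⁻¹ = v := inv_eq_of_mul_eq_one_left vv
          have h3 : v * a⁻¹ = (v * a)⁻¹ := by
            calc v * a⁻¹ = v * (a⁻¹ * v⁻¹ * v) := by group
              _ = v * ((v * a)⁻¹ * v) := by rw [mul_inv_rev]
              _ = v * (v * (v * a)⁻¹) := by rw [h4]
              _ = (v * a)⁻¹ := by rw [← mul_assoc, vv, one_mul]
          rw [h3]; exact inv_mem ha }
  have hP0 : ∀ x, x ∈ P0 ↔ x ∈ M' ∨ v * x ∈ M' := fun x => Iff.rfl
  have hUP : U ≤ P0.map (MulAut.conj g).toMonoidHom := by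
    apply gen
    intro u hu huu
    obtain ⟨x, hx, hxv, hxu⟩ := h2 u hu
    have hxT := (h1 x hx hxv).1
    have hxx : x * x = 1 := by
      have h3 : u * u = g * (x * x) * g⁻¹ := by
        rcases hxu with h | h
        · rw [h]; group
        · rw [h]
          have h4 := F.Tc _ hxT
          calc t * (g * x * g⁻¹) * (t * (g * x * g⁻¹)) = t * ((g * x * g⁻¹) * t) * (g * x * g⁻¹) := by group
            _ = t * (t * (g * x * g⁻¹)) * (g * x * g⁻¹) := by rw [h4]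
            _ = (t * t) * (g * (x * x) * g⁻¹) := by group
            _ = g * (x * x) * g⁻¹ := by rw [F.tt, one_mul]
      rw [h3] at huu
      calc x * x = g⁻¹ * (g * (x * x) * g⁻¹) * g := by group
        _ = 1 := by rw [huu]; group
    have hxM : x ∈ M' := ⟨⟨hx, hM x hx hxv hxx⟩, mem_centralizer_singleton_iff.2 hxv⟩
    refine ⟨g⁻¹ * u * g, ?_, by show g * (g⁻¹ * u * g) * g⁻¹ = u; group⟩
    rcases hxu with h | h
    · left
      rw [h]
      have : g⁻¹ * (g * x * g⁻¹) * g = x := by group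
      rw [this]; exact hxM
    · right
      have : v * (g⁻¹ * u * g) = x := by
        rw [h, ← hv]
        calc g⁻¹ * t * g * (g⁻¹ * (t * (g * x * g⁻¹)) * g) = g⁻¹ * (t * t) * g * x := by group
          _ = x := by rw [F.tt]; group
      rw [this]; exact hxM
  have hvM : ∀ x ∈ M', v * x ∉ Us := by
    intro x hx h
    apply hvU
    have : v = v * x * x⁻¹ := by group
    rw [this]
    exact mul_mem h (inv_mem hx.1.1)
  have hsub : (Us ⊓ centralizer ({v} : Set G) : Subgroup G) ≤ M' := by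
    rintro x ⟨hx, hxv⟩
    replace hxv := mem_centralizer_singleton_iff.1 hxv
    have h3 : x ∈ P0 := by
      rcases (h1 x hx hxv).2 with h | h
      · obtain ⟨y, hy, hyx⟩ := hUP h
        have h4 : g * y * g⁻¹ = g * x * g⁻¹ := hyx
        rw [← mul_left_cancel (mul_right_cancel h4)]
        exact hy
      · obtain ⟨y, hy, hyx⟩ := hUP h
        have h4 : g * y * g⁻¹ = t * (g * x * g⁻¹) := hyx
        have h5 : y = v * x := by
          calc y = g⁻¹ * (g * y * g⁻¹) * g := by group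
            _ = (g⁻¹ * t * g) * x := by rw [h4]; group
            _ = v * x := by rw [hv]
        have hvP : v ∈ P0 := Or.inr (by rw [vv]; exact one_mem _)
        have h6 := mul_mem hvP hy
        rw [h5, ← mul_assoc, vv, one_mul] at h6
        exact h6
    rcases h3 with h3 | h3
    · exact h3
    · exfalso
      apply hvU
      have : v = v * x * x⁻¹ := by group
      rw [this]
      exact mul_mem h3.1.1 (inv_mem hx)
  exact absurd (lt_of_lt_of_le hne hle) (not_lt.2 (Nat.card_le_card_of_injective _ (inclusion_injective hsub)))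

end Cfsg.Agent.OddHalf.Out.Graph

end

-- merged: Cfsg.Agent.OddHalf.Out.Excl
section

/-!
# The end for a group with an outer 2-part, from one excluded coset (helper84)

* `NoConj F v`: no conjugate `g⁻¹ t g` with `g⁻¹ T g ≤ S` lies in `v U*`;
* `end_of`: `t ∉ [G, G]` if all involutions of `t U*` are conjugate to `t` and (`T / U` has only one involution or one of the
  two other cosets is excluded);
* `conj_pair`, `card_pair`: involutions interchanging the terms of pairs of a growth sequence;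
* `excl_graph`: the exclusion for graph type.
-/

set_option autoImplicit false

namespace Cfsg.Agent.OddHalf.Out.Excl

open Subgroup Exclude Cfsg.Agent.Doubling

variable {G : Type*} [Group G] {t : G} {T U Us : Subgroup G}

/-- No conjugate `g⁻¹ t g` of `t` with `g⁻¹ T g ≤ S` lies in `v U*`. -/
def NoConj (F : Fr t T U Us) (v : G) : Prop := ∀ g : G, (∀ d ∈ T, g⁻¹ * d * g ∈ F.S) → v⁻¹ * (g⁻¹ * t * g) ∉ Us

theorem conj_inv_sq (tt : t * t = 1) (g : G) : g⁻¹ * t * g * (g⁻¹ * t * g) = 1 := by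
  calc g⁻¹ * t * g * (g⁻¹ * t * g) = g⁻¹ * (t * t) * g := by group
    _ = 1 := by rw [tt]; group

theorem excl_of (F : Fr t T U Us) {v : G}
    (conj : ∀ w ∈ Us, v * w * (v * w) = 1 → ∃ a ∈ Us, v * w = a * v * a⁻¹)
    (h : ∀ g : G, (∀ d ∈ T, g⁻¹ * d * g ∈ F.S) → g⁻¹ * t * g = v → False) : NoConj F v := by
  intro g hg hw
  have e1 : v * (v⁻¹ * (g⁻¹ * t * g)) = g⁻¹ * t * g := by group
  obtain ⟨a, ha, he⟩ := conj _ hw (by rw [e1]; exact conj_inv_sq F.tt g)
  rw [e1] at he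
  refine h (g * a) (fun d hd => ?_) ?_
  · have h1 := mul_mem (mul_mem (inv_mem (F.Us_le ha)) (hg d hd)) (F.Us_le ha)
    have h2 : a⁻¹ * (g⁻¹ * d * g) * a = (g * a)⁻¹ * d * (g * a) := by group
    rwa [h2] at h1
  · calc (g * a)⁻¹ * t * (g * a) = a⁻¹ * (g⁻¹ * t * g) * a := by group
      _ = v := by rw [he]; group

theorem mem_U (F : Fr t T U Us) {d : G} (hd : d ∈ T) (hd' : d ∈ Us) : d ∈ U := (F.hU d).2 ⟨hd', F.Tc d hd⟩

/-- **The end.** -/
theorem end_of [Finite G] (F : Fr t T U Us) (htU : t ∉ Us)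
    (conj : ∀ w ∈ Us, t * w * (t * w) = 1 → ∃ a ∈ Us, t * w = a * t * a⁻¹)
    (alt : (∀ d ∈ T, d * d ∈ U → d ∈ U ∨ t * d ∈ U) ∨ ∃ s ∈ T, s ∉ U ∧ t * s ∉ U ∧
      (∀ d ∈ T, d * d ∈ U → d ∈ U ∨ t * d ∈ U ∨ s⁻¹ * d ∈ U ∨ (t * s)⁻¹ * d ∈ U) ∧
      ∃ v, (v = s ∨ v = t * s) ∧ NoConj F v) : t ∉ _root_.commutator G := by
  have ti : t⁻¹ = t := inv_eq_of_mul_eq_one_left F.tt
  have hcl : ∀ g : G, (∀ d ∈ T, g⁻¹ * d * g ∈ F.S) → t * (g⁻¹ * t * g) ∈ Us →
      ∃ k ∈ F.S, g⁻¹ * t * g = k * t * k⁻¹ := by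
    intro g _ hu
    have e1 : t * (t * (g⁻¹ * t * g)) = g⁻¹ * t * g := by rw [← mul_assoc, F.tt, one_mul]
    obtain ⟨a, ha, he⟩ := conj _ hu (by rw [e1]; exact conj_inv_sq F.tt g)
    rw [e1] at he
    exact ⟨a, F.Us_le ha, he⟩
  have hsq : ∀ g : G, (∀ d ∈ T, g⁻¹ * d * g ∈ F.S) → ∃ d ∈ T, ∃ w ∈ Us, g⁻¹ * t * g = d * w ∧ d * d ∈ U := by
    intro g hg
    obtain ⟨d, hd, w, hw, he⟩ := F.mem_S.1 (hg t F.tT)
    refine ⟨d, hd, w, hw, he, mem_U F (mul_mem hd hd) ?_⟩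
    have h1 := conj_inv_sq F.tt g
    rw [he] at h1
    have h2 : d * d = (d * w * d⁻¹)⁻¹ * (d * w * (d * w)) * w⁻¹ := by group
    rw [h2, h1, mul_one]
    exact mul_mem (inv_mem (F.norm d hd w hw)) (inv_mem hw)
  rcases alt with alt | ⟨s, hs, hs1, hs2, alt, v, hv, hex⟩
  · refine F4.EndOut.not_mem_commutator F htU hcl 1 (one_mem _) (by rwa [mul_one]) ?_
    intro g hg
    obtain ⟨d, hd, w, hw, he, hdd⟩ := hsq g hg
    rw [he]
    rcases alt d hd hdd with h1 | h1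
    · exact Or.inr (Or.inl (mul_mem (F.le h1) hw))
    · left
      rw [← mul_assoc]
      exact mul_mem (F.le h1) hw
  · have hs1' : s ∉ Us := fun h => hs1 (mem_U F hs h)
    have hs2' : t * s ∉ Us := fun h => hs2 (mem_U F (mul_mem F.tT hs) h)
    have main : ∀ c, (c = s ∨ c = t * s) → (∀ x, (x = s ∨ x = t * s) → x = v ∨ x = c) →
        t ∉ _root_.commutator G := by
      intro c hc hvc
      refine F4.EndOut.not_mem_commutator F htU hcl c ?_ ?_ ?_
      · rcases hc with rfl | rfl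
        · exact F.T_le hs
        · exact F.T_le (mul_mem F.tT hs)
      · rcases hc with rfl | rfl
        · exact hs2'
        · rw [← mul_assoc, F.tt, one_mul]; exact hs1'
      · intro g hg
        obtain ⟨d, hd, w, hw, he, hdd⟩ := hsq g hg
        have key : ∀ x, (x = s ∨ x = t * s) → x⁻¹ * d ∈ U →
            t * (g⁻¹ * t * g) ∈ Us ∨ g⁻¹ * t * g ∈ Us ∨ c⁻¹ * (g⁻¹ * t * g) ∈ Us := by
          intro x hx hxd
          have h1 : x⁻¹ * (g⁻¹ * t * g) ∈ Us := by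
            rw [he, ← mul_assoc]
            exact mul_mem (F.le hxd) hw
          rcases hvc x hx with rfl | rfl
          · exact absurd h1 (hex g hg)
          · exact Or.inr (Or.inr h1)
        rcases alt d hd hdd with h1 | h1 | h1 | h1
        · right; left
          rw [he]
          exact mul_mem (F.le h1) hw
        · left
          rw [he, ← mul_assoc]
          exact mul_mem (F.le h1) hw
        · exact key s (Or.inl rfl) h1
        · exact key (t * s) (Or.inr rfl) h1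
    rcases hv with rfl | rfl
    · exact main (t * v) (Or.inr rfl) (fun x hx => hx)
    · exact main s (Or.inl rfl) (fun x hx => hx.symm)

/-- The alternative for a subgroup `D` of `T` with `T = D U`, `D ∩ U = 1`. -/
theorem alt_of (F : Fr t T U Us) (D : Subgroup G) (hDT : D ≤ T)
    (hTD : ∀ d ∈ T, ∃ e ∈ D, ∃ u ∈ U, d = e * u) (hDU : ∀ e ∈ D, e ∈ U → e = 1) (htD : t ∈ D)
    (hone : ∀ e ∈ D, ∀ f ∈ D, e * e = 1 → f * f = 1 → e ≠ 1 → e ≠ t → f ≠ 1 → f ≠ t → f = e ∨ f = t * e)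
    (hex : ∀ s ∈ D, s * s = 1 → s ≠ 1 → s ≠ t → ∃ v, (v = s ∨ v = t * s) ∧ NoConj F v) :
    (∀ d ∈ T, d * d ∈ U → d ∈ U ∨ t * d ∈ U) ∨ ∃ s ∈ T, s ∉ U ∧ t * s ∉ U ∧
      (∀ d ∈ T, d * d ∈ U → d ∈ U ∨ t * d ∈ U ∨ s⁻¹ * d ∈ U ∨ (t * s)⁻¹ * d ∈ U) ∧
      ∃ v, (v = s ∨ v = t * s) ∧ NoConj F v := by
  have hU : ∀ d ∈ T, ∀ u ∈ U, d * u * d⁻¹ ∈ U := by
    intro d hd u hu
    exact mem_U F (mul_mem (mul_mem hd (F.UT hu)) (inv_mem hd)) (F.norm d hd u (F.le hu))
  have hsq : ∀ e ∈ D, ∀ u ∈ U, e * u * (e * u) ∈ U → e * e = 1 := by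
    intro e he u hu h1
    apply hDU _ (mul_mem he he)
    have h2 : e * e = (e * u * e⁻¹)⁻¹ * (e * u * (e * u)) * u⁻¹ := by group
    rw [h2]
    exact mul_mem (mul_mem (inv_mem (hU e (hDT he) u hu)) h1) (inv_mem hu)
  by_cases hs : ∃ s ∈ D, s * s = 1 ∧ s ≠ 1 ∧ s ≠ t
  · obtain ⟨s, hs, hss, hs1, hst⟩ := hs
    right
    refine ⟨s, hDT hs, fun h => hs1 (hDU s hs h), fun h => hst ?_, ?_, hex s hs hss hs1 hst⟩
    · have h1 := hDU _ (mul_mem htD hs) h
      have h2 : s = t * (t * s) := by rw [← mul_assoc, F.tt, one_mul]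
      rw [h2, h1, mul_one]
    · intro d hd hdd
      obtain ⟨e, he, u, hu, rfl⟩ := hTD d hd
      have hee := hsq e he u hu hdd
      by_cases he1 : e = 1
      · left; rw [he1, one_mul]; exact hu
      by_cases het : e = t
      · right; left; rw [het, ← mul_assoc, F.tt, one_mul]; exact hu
      rcases hone s hs e he hss hee hs1 hst he1 het with h | h
      · right; right; left
        rw [h, inv_mul_cancel_left]; exact hu
      · right; right; right
        rw [h, inv_mul_cancel_left]; exact hu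
  · left
    push Not at hs
    intro d hd hdd
    obtain ⟨e, he, u, hu, rfl⟩ := hTD d hd
    have hee := hsq e he u hu hdd
    by_cases he1 : e = 1
    · left; rw [he1, one_mul]; exact hu
    · right
      rw [hs e he hee he1, ← mul_assoc, F.tt, one_mul]; exact hu

/-! ### Pairs -/

section pair

variable {V X : ℕ → Subgroup G} {n : ℕ}

/-- `v` interchanges `V (2m)` and `V (2m+1)`. -/
structure Swap (v : G) (V : ℕ → Subgroup G) (n : ℕ) : Prop where
  vv : v * v = 1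
  even : ∀ m < n, ∀ w ∈ V (2 * m), v * w * v ∈ V (2 * m + 1)
  odd : ∀ m < n, ∀ w ∈ V (2 * m + 1), v * w * v ∈ V (2 * m)

namespace Swap

variable {v : G}

theorem conj_mul (S : Swap v V n) (a b : G) : v * (a * b) * v = (v * a * v) * (v * b * v) := by
  calc v * (a * b) * v = v * a * 1 * b * v := by group
    _ = v * a * (v * v) * b * v := by rw [S.vv]
    _ = (v * a * v) * (v * b * v) := by group

theorem conj_conj (S : Swap v V n) (a : G) : v * (v * a * v) * v = a := by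
  calc v * (v * a * v) * v = (v * v) * a * (v * v) := by group
    _ = a := by rw [S.vv, one_mul, mul_one]

theorem vi (S : Swap v V n) : v⁻¹ = v := inv_eq_of_mul_eq_one_left S.vv

theorem conj_inv (S : Swap v V n) (a : G) : v * a⁻¹ * v = (v * a * v)⁻¹ := by
  rw [mul_inv_rev, mul_inv_rev, S.vi, mul_assoc]

theorem conj_W (S : Swap v V n) {m : ℕ} (hm : m ≤ n) {w : G} (hw : w ∈ Growth.W V (2 * m)) :
    v * w * v ∈ Growth.W V (2 * m) := by
  have hle : Growth.W V (2 * m) ≤ (Growth.W V (2 * m)).comap (MulAut.conj v).toMonoidHom := by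
    refine iSup₂_le fun i hi u hu => ?_
    show v * u * v⁻¹ ∈ Growth.W V (2 * m)
    rw [S.vi]
    rcases Nat.even_or_odd' i with ⟨k, rfl | rfl⟩
    · exact Growth.le_W V (by omega : 2 * k + 1 < 2 * m) (S.even k (by omega) u hu)
    · exact Growth.le_W V (by omega : 2 * k < 2 * m) (S.odd k (by omega) u hu)
  have h1 : v * w * v⁻¹ ∈ Growth.W V (2 * m) := hle hw
  rwa [S.vi] at h1

end Swap

/-- decomposition of an element of `W (2m+2)` -/
theorem decomp (D : Growth.Dbl t V X (2 * n)) {m : ℕ} (hm : m < n) {w : G}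
    (hw : w ∈ Growth.W V (2 * (m + 1))) :
    ∃ u ∈ Growth.W V (2 * m), ∃ a ∈ V (2 * m), ∃ b ∈ V (2 * m + 1), w = u * a * b := by
  obtain ⟨u, hu, b, hb, rfl⟩ := D.mem_succ (k := 2 * m + 1) (by omega) hw
  obtain ⟨u', hu', a, ha, rfl⟩ := D.mem_succ (k := 2 * m) (by omega) hu
  exact ⟨u', hu', a, ha, b, hb, rfl⟩

/-- independence of a pair -/
theorem pair_one (D : Growth.Dbl t V X (2 * n)) {m : ℕ} (hm : m < n) {a b : G} (ha : a ∈ V (2 * m))
    (hb : b ∈ V (2 * m + 1)) (hab : a * b ∈ Growth.W V (2 * m)) : a = 1 ∧ b = 1 := by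
  have h1 : b ∈ V (2 * m + 1) ⊓ Growth.W V (2 * m + 1) := by
    refine Subgroup.mem_inf.2 ⟨hb, ?_⟩
    have h2 : b = a⁻¹ * (a * b) := by group
    rw [h2]
    exact mul_mem (inv_mem (Growth.le_W V (Nat.lt_succ_self _) ha)) (Growth.W_mono V (Nat.le_succ _) hab)
  rw [Grow.disj D (by omega), mem_bot] at h1
  subst h1
  rw [mul_one] at hab
  have h2 : a ∈ V (2 * m) ⊓ Growth.W V (2 * m) := Subgroup.mem_inf.2 ⟨ha, hab⟩
  rw [Grow.disj D (by omega), mem_bot] at h2
  exact ⟨h2, rfl⟩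

theorem norm_V (D : Growth.Dbl t V X (2 * n)) {m : ℕ} (hm : m < n) {g w : G}
    (hg : g ∈ V (2 * m) ∨ g ∈ V (2 * m + 1)) (hw : w ∈ Growth.W V (2 * m)) :
    g * w * g⁻¹ ∈ Growth.W V (2 * m) := by
  rcases hg with hg | hg
  · exact D.normal le_rfl (by omega) hg hw
  · exact D.normal (by omega) (by omega) hg hw

/-- the leading components of a fixed element -/
theorem fixed_comp (D : Growth.Dbl t V X (2 * n)) {v : G} (S : Swap v V n) {m : ℕ} (hm : m < n) {u a b : G}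
    (hu : u ∈ Growth.W V (2 * m)) (ha : a ∈ V (2 * m)) (hb : b ∈ V (2 * m + 1))
    (h : v * (u * a * b) * v = u * a * b) : b = v * a * v := by
  have ha' := S.even m hm a ha
  have hb' := S.odd m hm b hb
  have hu' := S.conj_W hm.le hu
  have hbi : b⁻¹ = b := inv_eq_of_mul_eq_one_left (D.sq _ (by omega) b hb)
  rw [S.conj_mul, S.conj_mul] at h
  set a' := v * a * v
  set b' := v * b * v
  set u' := v * u * v
  -- `a⁻¹ b' (a' b⁻¹) ∈ W (2m)`
  have c1 : b' * a' * b'⁻¹ * a'⁻¹ ∈ Growth.W V (2 * m) := D.comm (2 * m) (2 * m + 1) (by omega) (by omega) b' hb' a' ha'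
  have h1 : b' * a' = (b' * a' * b'⁻¹ * a'⁻¹) * (u'⁻¹ * u) * a * b := by
    calc b' * a' = (b' * a' * b'⁻¹ * a'⁻¹) * (u'⁻¹ * (u' * a' * b')) := by group
      _ = _ := by rw [h]; group
  set z := (b' * a' * b'⁻¹ * a'⁻¹) * (u'⁻¹ * u)
  have hz : z ∈ Growth.W V (2 * m) := mul_mem c1 (mul_mem (inv_mem hu') hu)
  have h2 : a⁻¹ * b' * (a' * b⁻¹) = a⁻¹ * z * a⁻¹⁻¹ := by
    calc a⁻¹ * b' * (a' * b⁻¹) = a⁻¹ * (b' * a') * b⁻¹ := by group
      _ = a⁻¹ * z * a⁻¹⁻¹ := by rw [h1]; group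
  obtain ⟨-, h4⟩ := pair_one D hm (mul_mem (inv_mem ha) hb') (mul_mem ha' (inv_mem hb)) (by
    rw [h2]
    exact norm_V D hm (Or.inl (inv_mem ha)) hz)
  exact (mul_inv_eq_one.1 h4).symm

/-- **Every involution of `v W` is conjugate to `v`.** -/
theorem conj_pair (D : Growth.Dbl t V X (2 * n)) {v : G} (S : Swap v V n) (m : ℕ) : m ≤ n →
    ∀ w ∈ Growth.W V (2 * m), v * w * (v * w) = 1 → ∃ c ∈ Growth.W V (2 * m), v * w = c * v * c⁻¹ := by
  induction m with
  | zero =>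
    intro _ w hw _
    rw [mul_zero, Growth.W_zero] at hw ⊢
    refine ⟨1, one_mem _, ?_⟩
    rw [mem_bot.1 hw]; group
  | succ m ih =>
    intro hm w hw hvw
    have hm' : m < n := hm
    obtain ⟨u, hu, a, ha, b, hb, rfl⟩ := decomp D hm' hw
    have ha' := S.even m hm' a ha
    have hb' := S.odd m hm' b hb
    have hu' := S.conj_W hm'.le hu
    have hai : a⁻¹ = a := inv_eq_of_mul_eq_one_left (D.sq _ (by omega) a ha)
    have hbi : b⁻¹ = b := inv_eq_of_mul_eq_one_left (D.sq _ (by omega) b hb)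
    have h0 : (v * u * v) * (v * a * v) * (v * b * v) * (u * a * b) = 1 := by
      rw [← S.conj_mul, ← S.conj_mul, ← hvw]; group
    have hab : a = v * b * v := by
      set a' := v * a * v
      set b' := v * b * v
      set u' := v * u * v
      -- `(b' a) (a' b) ∈ W (2m)`
      have c1 : b' * a' * b'⁻¹ * a'⁻¹ ∈ Growth.W V (2 * m) :=
        D.comm (2 * m) (2 * m + 1) (by omega) (by omega) b' hb' a' ha'
      have c2 : a * a' * a⁻¹ * a'⁻¹ ∈ Growth.W V (2 * m) :=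
        D.comm (2 * m) (2 * m + 1) (by omega) (by omega) a ha a' ha'
      -- `a' b' u a b = u'⁻¹`
      have h1 : a' * b' * (u * a * b) = u'⁻¹ := by
        rw [← mul_one u'⁻¹, ← h0]; group
      have h2 : b' * a * (a' * b) =
          (b' * (a * a' * a⁻¹ * a'⁻¹) * b'⁻¹) * ((b' * a' * b'⁻¹ * a'⁻¹) * (a' * (b' * u⁻¹ * b'⁻¹) * a'⁻¹) * u'⁻¹) := by
        rw [← h1]; group
      obtain ⟨h3, -⟩ := pair_one D hm' (mul_mem hb' ha) (mul_mem ha' hb) (by
        rw [h2]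
        exact mul_mem (norm_V D hm' (Or.inl hb') c2)
          (mul_mem (mul_mem c1 (norm_V D hm' (Or.inr ha') (norm_V D hm' (Or.inl hb') (inv_mem hu)))) (inv_mem hu')))
      have h4 : b' = a⁻¹ := eq_inv_of_mul_eq_one_left h3
      rw [h4, hai]
    -- conjugate by `b`
    have e1 : v * (u * a * b) = b * (v * (v * (b⁻¹ * (v * u * v) * b) * v)) * b⁻¹ := by
      rw [hab]
      calc v * (u * (v * b * v) * b) = (v * u * v) * b * v * b := by group
        _ = (v * u * v) * b * v * b⁻¹ := by rw [hbi]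
        _ = b * (1 * (b⁻¹ * (v * u * v) * b) * v) * b⁻¹ := by group
        _ = b * (v * (v * (b⁻¹ * (v * u * v) * b) * v)) * b⁻¹ := by rw [← S.vv]; group
    set x := v * (b⁻¹ * (v * u * v) * b) * v with hx
    have hxm : x ∈ Growth.W V (2 * m) := by
      apply S.conj_W hm'.le
      have := norm_V D hm' (Or.inr (inv_mem hb)) hu'
      rwa [inv_inv] at this
    obtain ⟨c, hc, hce⟩ := ih hm'.le x hxm (by
      have h1 : v * x * (v * x) = b⁻¹ * (b * (v * x) * b⁻¹ * (b * (v * x) * b⁻¹)) * b := by group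
      rw [h1, ← e1, hvw]; group)
    refine ⟨b * c, mul_mem (Growth.le_W V (by omega : 2 * m + 1 < 2 * (m + 1)) hb)
      (Growth.W_mono V (by omega) hc), ?_⟩
    rw [e1, hce]; group

/-- **The number of fixed points.** -/
theorem card_pair [Finite G] (D : Growth.Dbl t V X (2 * n)) {v : G} (S : Swap v V n) {Q : ℕ}
    (hQ : ∀ i < 2 * n, Nat.card (V i) ≤ Q) (m : ℕ) : m ≤ n →
    Nat.card (Growth.W V (2 * m) ⊓ centralizer ({v} : Set G) : Subgroup G) ≤ Q ^ m := by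
  have key : ∀ w : G, w * v = v * w → v * w * v = w := by
    intro w h1
    rw [mul_assoc, h1, ← mul_assoc, S.vv, one_mul]
  induction m with
  | zero =>
    intro _
    rw [mul_zero, Growth.W_zero, bot_inf_eq, card_bot, pow_zero]
  | succ m ih =>
    intro hm
    have hm' : m < n := hm
    set A : Subgroup G := Growth.W V (2 * (m + 1)) ⊓ centralizer ({v} : Set G) with hA
    set M : Subgroup G := Growth.W V (2 * m) ⊓ centralizer ({v} : Set G) with hM
    have hMA : M ≤ A := inf_le_inf_right _ (Growth.W_mono V (by omega))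
    have hlead : ∀ g : A, ∃ a : V (2 * m), (a * (v * a * v))⁻¹ * (g : G) ∈ Growth.W V (2 * m) := by
      intro g
      obtain ⟨u, hu, a, ha, b, hb, he⟩ := decomp D hm' g.2.1
      have h1 := key _ (mem_centralizer_singleton_iff.1 g.2.2)
      rw [he] at h1
      have h2 := fixed_comp D S hm' hu ha hb h1
      refine ⟨⟨a, ha⟩, ?_⟩
      rw [he]
      change (a * (v * a * v))⁻¹ * (u * a * b) ∈ _
      rw [← h2]
      have h3 := norm_V D hm' (Or.inr (inv_mem hb)) (norm_V D hm' (Or.inl (inv_mem ha)) hu)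
      have h4 : (a * b)⁻¹ * (u * a * b) = b⁻¹ * (a⁻¹ * u * a⁻¹⁻¹) * b⁻¹⁻¹ := by group
      rw [h4]; exact h3
    choose f hf using hlead
    have h1 : (M.subgroupOf A).index ≤ Nat.card (V (2 * m)) := by
      rw [index]
      refine Nat.card_le_card_of_injective (fun q : A ⧸ M.subgroupOf A => f q.out) ?_
      intro q q' hqq
      have e1 := hf q.out
      have e2 := hf q'.out
      have hqq' : f q.out = f q'.out := hqq
      rw [hqq'] at e1
      rw [← QuotientGroup.out_eq' q, ← QuotientGroup.out_eq' q', QuotientGroup.eq, mem_subgroupOf]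
      refine ⟨?_, (mul_mem (inv_mem q.out.2) q'.out.2).2⟩
      have h2 := mul_mem (inv_mem e1) e2
      have h3 : (((f q'.out : G) * (v * (f q'.out : G) * v))⁻¹ * (q.out : G))⁻¹ *
          (((f q'.out : G) * (v * (f q'.out : G) * v))⁻¹ * (q'.out : G)) = ((q.out : G))⁻¹ * (q'.out : G) := by group
      rw [h3] at h2
      exact h2
    have h2 : Nat.card (M.subgroupOf A) * (M.subgroupOf A).index = Nat.card A := card_mul_index _
    have h3 : Nat.card (M.subgroupOf A) = Nat.card M := Nat.card_congr (subgroupOfEquivOfLe hMA).toEquiv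
    calc Nat.card A = Nat.card M * (M.subgroupOf A).index := by rw [← h2, h3]
      _ ≤ Q ^ m * Q := Nat.mul_le_mul (ih hm'.le) (h1.trans (hQ _ (by omega)))
      _ = Q ^ (m + 1) := (pow_succ Q m).symm

end pair

end Cfsg.Agent.OddHalf.Out.Excl

end

-- merged: Cfsg.Agent.OddHalf.D7F4.OutGraph
section

/-!
# Pattern (C, C): an involution of graph type (helper84, bb ODD 11098 §4)

The last two pairs of the enumeration are `(W_{α₂+2α₁}, W_{α₁+α₂})` and `(W_{α₂}, W_{α₁})`.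
-/

set_option autoImplicit false

namespace Cfsg.Agent.OddHalf.D7F4.OutGraph

open Subgroup Out.Exclude Out.Excl Cfsg.Agent.Doubling

variable {G : Type*} [Group G] {t : G} {T U Us : Subgroup G} {V X : ℕ → Subgroup G} {m : ℕ}

/-- the involutions of `C_{U*}(v)` -/
theorem inv_mem_M (D : Growth.Dbl t V X (2 * (m + 2))) {v : G} (S : Swap v V (m + 2))
    (brm : ∀ a ∈ V (2 * (m + 1)), ∀ b ∈ V (2 * (m + 1) + 1), Out.Graph.br a b ∈ V (2 * m + 1) ⊔ V (2 * m))
    (c33 : ∀ w ∈ V (2 * m + 1) ⊔ V (2 * m), ∀ y ∈ V (2 * m + 1) ⊔ V (2 * m), w * y = y * w)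
    (hB : ∀ w ∈ V (2 * (m + 1)), Out.Graph.br w (v * w * v) ∈ V (2 * m) → w = 1) {x : G}
    (hx : x ∈ Growth.W V (2 * (m + 2))) (hxv : x * v = v * x) (hxx : x * x = 1) :
    x ∈ Growth.W V (2 * (m + 1)) := by
  obtain ⟨u, hu, a, ha, b, hb, rfl⟩ := decomp D (by omega : m + 1 < m + 2) hx
  have hfix : v * (u * a * b) * v = u * a * b := by
    rw [mul_assoc, hxv, ← mul_assoc, S.vv, one_mul]
  have hba := fixed_comp D S (by omega) hu ha hb hfix
  obtain ⟨u1, hu1, z, hz, rfl⟩ := D.mem_succ (k := 2 * m + 1) (by omega) hu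
  have norm : ∀ g, (g ∈ V (2 * (m + 1)) ∨ g ∈ V (2 * (m + 1) + 1) ∨ g ∈ V (2 * m + 1)) →
      ∀ w ∈ Growth.W V (2 * m + 1), g * w * g⁻¹ ∈ Growth.W V (2 * m + 1) := by
    rintro g (hg | hg | hg) w hw
    · exact D.normal (by omega) (by omega) hg hw
    · exact D.normal (by omega) (by omega) hg hw
    · exact D.normal le_rfl (by omega) hg hw
  have na := norm a (Or.inl ha)
  have nb := norm b (Or.inr (Or.inl hb))
  have nz := norm z (Or.inr (Or.inr hz))
  have nzi := norm z⁻¹ (Or.inr (Or.inr (inv_mem hz)))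
  have haa := D.sq _ (by omega) a ha
  have hbb := D.sq _ (by omega) b hb
  have hzz := D.sq _ (by omega) z hz
  have hai : a⁻¹ = a := inv_eq_of_mul_eq_one_left haa
  have hbi : b⁻¹ = b := inv_eq_of_mul_eq_one_left hbb
  have c1 : z * a * z⁻¹ * a⁻¹ ∈ Growth.W V (2 * m + 1) := D.comm _ _ (by omega) (by omega) z hz a ha
  have c2 : z * b * z⁻¹ * b⁻¹ ∈ Growth.W V (2 * m + 1) := D.comm _ _ (by omega) (by omega) z hz b hb
  -- `a b a b` modulo `W (2m+1)`
  have h1 : a * b * (a * b) ∈ Growth.W V (2 * m + 1) := by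
    -- `n = (a b) z (a b)⁻¹ z⁻¹`
    have hn : (a * b) * z * (a * b)⁻¹ * z⁻¹ ∈ Growth.W V (2 * m + 1) := by
      have e : (a * b) * z * (a * b)⁻¹ * z⁻¹ =
          (a * (z * b * z⁻¹ * b⁻¹)⁻¹ * a⁻¹) * (z * a * z⁻¹ * a⁻¹)⁻¹ := by group
      rw [e]
      exact mul_mem (na _ (inv_mem c2)) (inv_mem c1)
    have hp : z * (a * b) * (z * (a * b)) ∈ Growth.W V (2 * m + 1) := by
      have e : z * (a * b) * (z * (a * b)) =
          (u1 * (z * (a * (b * u1 * b⁻¹) * a⁻¹) * z⁻¹))⁻¹ * (u1 * z * a * b * (u1 * z * a * b)) := by group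
      rw [e, hxx, mul_one]
      exact inv_mem (mul_mem hu1 (nz _ (na _ (nb _ hu1))))
    have e : a * b * (a * b) =
        ((z * ((a * b) * z * (a * b)⁻¹ * z⁻¹) * z⁻¹) * (z * z))⁻¹ * (z * (a * b) * (z * (a * b))) := by group
    rw [e, hzz, mul_one]
    exact mul_mem (inv_mem (nz _ hn)) hp
  have h2 : Out.Graph.br a b = a * b * (a * b) := by
    unfold Out.Graph.br
    rw [hai, hbi]; group
  obtain ⟨y, hy, z', hz', hyz⟩ := (CC.mem_sup_of_comm (fun w hw v hv =>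
    c33 w (mem_sup_left hw) v (mem_sup_right hv))).1 (brm a ha b hb)
  have hy1 : y ∈ V (2 * m + 1) ⊓ Growth.W V (2 * m + 1) := by
    refine Subgroup.mem_inf.2 ⟨hy, ?_⟩
    have e : y = a * b * (a * b) * z'⁻¹ := by rw [← h2, hyz]; group
    rw [e]
    exact mul_mem h1 (inv_mem (Growth.le_W V (by omega : 2 * m < 2 * m + 1) hz'))
  rw [Out.Grow.disj D (by omega), mem_bot] at hy1
  have h3 : Out.Graph.br a (v * a * v) ∈ V (2 * m) := by
    rw [← hba, hyz, hy1, one_mul]; exact hz'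
  have ha1 := hB a ha h3
  have hb1 : b = 1 := by
    rw [hba, ha1, mul_one, S.vv]
  rw [ha1, hb1, mul_one, mul_one]
  exact hu

/-- **The exclusion for graph type.** -/
theorem excl_graph [Finite G] (F : Fr t T U Us) (D : Growth.Dbl t V X (2 * (m + 2)))
    (hUs : Us = Growth.W V (2 * (m + 2))) (hU : U = Growth.W X (2 * (m + 2))) {s : G} (S : Swap s V (m + 2))
    (sT : s ∈ T) (hs1 : s ∉ U) (hs2 : t * s ∉ U)
    {K : Type*} [Field K] {θ : K →+* K} {x1 x2 x3 : K → G}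
    (P : Out.Graph.GP t s θ x1 x2 x3 (V (2 * (m + 1))) (V (2 * (m + 1) + 1)) (V (2 * m + 1)) (V (2 * m)))
    (Z : Subgroup G) (Zc : ∀ z ∈ Growth.W V 2, ∀ w ∈ Us, z * w = w * z)
    (k0 : ∀ z ∈ Growth.W V 2, ∀ g : G, g⁻¹ * t * g ≠ z) (k0' : ∀ z ∈ Z, ∃ g : G, g⁻¹ * t * g = t * z)
    (hZ : Nat.card Z ≤ Nat.card (V 0))
    (k1 : ∀ c ∈ T, (∀ a ∈ T, ∀ b ∈ T, c * (a * b * a⁻¹ * b⁻¹) = a * b * a⁻¹ * b⁻¹ * c) → c ∈ Z ∨ t * c ∈ Z)
    (k2 : ∀ c ∈ T, (∀ z ∈ Z, c * z = z * c) → c ∈ U ∨ t * c ∈ U)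
    {Q : ℕ} (hQ : ∀ i < 2 * (m + 2), Nat.card (V i) ≤ Q) (hcU : Q ^ (m + 1) < Nat.card U) :
    ∃ v, (v = s ∨ v = t * s) ∧ NoConj F v := by
  have ti := P.t_inv
  have si := P.s_inv
  have st := P.st
  have S' : Swap (t * s) V (m + 2) := by
    have e : ∀ w, t * s * w * (t * s) = t * (s * w * s) * t := by
      intro w
      calc t * s * w * (t * s) = t * s * w * (s * t) := by rw [st]
        _ = t * (s * w * s) * t := by group
    refine ⟨?_, fun k hk w hw => ?_, fun k hk w hw => ?_⟩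
    · have := e 1
      rw [mul_one, mul_one, S.vv, mul_one, P.tt] at this
      exact this
    · rw [e]
      exact D.conj _ (by omega) _ (S.even k hk w hw)
    · rw [e]
      exact D.conj _ (by omega) _ (S.odd k hk w hw)
  have main : ∀ v, (v = s ∨ v = t * s) → Swap v V (m + 2) →
      (∀ w ∈ V (2 * (m + 1)), Out.Graph.br w (v * w * v) ∈ V (2 * m) → w = 1) → NoConj F v := by
    intro v hv Sv hB
    have hvU : v ∉ Us := by
      rcases hv with rfl | rfl
      · exact fun h => hs1 (mem_U F sT h)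
      · exact fun h => hs2 (mem_U F (mul_mem F.tT sT) h)
    have hW2 : Growth.W V 2 ≤ Us := by
      rw [hUs]; exact Growth.W_mono V (by omega)
    refine excl_of F ?_ fun g hg hgv => ?_
    · intro w hw h1
      rw [hUs] at hw
      obtain ⟨c, hc, h2⟩ := conj_pair D Sv (m + 2) le_rfl w hw h1
      exact ⟨c, hUs ▸ hc, h2⟩
    · refine Out.Graph.excludedG F hvU Z (Growth.W V 2) hW2 Zc k0 k0' ?_ k1 k2 ?_
        (Growth.W V (2 * (m + 1))) ?_ ?_ hgv hg
      · -- `|V 0| ≤ |C_{W 2}(v)|`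
        refine hZ.trans (Nat.card_le_card_of_injective (fun a : V 0 => (⟨a * (v * a * v), ?_⟩ :
          (Growth.W V 2 ⊓ centralizer ({v} : Set G) : Subgroup G))) ?_)
        · have ha' := Sv.even 0 (by omega) a a.2
          have ha : (a : G) ∈ Growth.W V 2 := Growth.le_W V (by omega) a.2
          have ha2 : v * (a : G) * v ∈ Growth.W V 2 := Growth.le_W V (by omega : 2 * 0 + 1 < 2) ha'
          refine ⟨mul_mem ha ha2, mem_centralizer_singleton_iff.2 ?_⟩
          have hc := Zc a ha _ (hW2 ha2)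
          calc (a : G) * (v * a * v) * v = a * v * a * (v * v) := by group
            _ = a * v * a := by rw [Sv.vv, mul_one]
            _ = (v * v) * (a * v * a) := by rw [Sv.vv, one_mul]
            _ = v * ((v * a * v) * a) := by group
            _ = v * (a * (v * a * v)) := by rw [hc]
        · intro a b hab
          have h1 : (a : G) * (v * a * v) = b * (v * b * v) := congrArg Subtype.val hab
          have ha' := Sv.even 0 (by omega) a a.2
          have hb' := Sv.even 0 (by omega) b b.2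
          have h2 : (b : G)⁻¹ * a * ((v * a * v) * (v * b * v)⁻¹) = 1 := by
            calc (b : G)⁻¹ * a * ((v * a * v) * (v * b * v)⁻¹) = (b : G)⁻¹ * (a * (v * a * v)) * (v * b * v)⁻¹ := by group
              _ = 1 := by rw [h1]; group
          obtain ⟨h3, -⟩ := pair_one D (by omega : 0 < m + 2) (mul_mem (inv_mem b.2) a.2)
            (mul_mem ha' (inv_mem hb')) (by rw [h2]; exact one_mem _)
          exact Subtype.ext (inv_mul_eq_one.1 h3).symm
      · intro P' hP'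
        rw [hU]
        refine iSup₂_le fun i hi x hx => hP' x ?_ (D.sq i hi x (D.X_le i hi hx))
        rw [hU]; exact Growth.le_W X hi hx
      · intro x hx hxv hxx
        rw [hUs] at hx
        exact inv_mem_M D Sv P.brm P.c33 hB hx hxv hxx
      · have h1 := card_pair D Sv hQ (m + 1) (by omega)
        refine lt_of_le_of_lt ?_ (lt_of_le_of_lt h1 hcU)
        refine Nat.card_le_card_of_injective _ (inclusion_injective ?_)
        exact inf_le_inf_right _ inf_le_right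
  rcases P.main with h | h
  · exact ⟨s, Or.inl rfl, main s (Or.inl rfl) S h⟩
  · refine ⟨t * s, Or.inr rfl, main (t * s) (Or.inr rfl) S' fun w hw hw' => h w hw ?_⟩
    have e : (t * s)⁻¹ = t * s := by rw [mul_inv_rev, ti, si, st]
    rwa [e]

end Cfsg.Agent.OddHalf.D7F4.OutGraph

end

-- merged: Cfsg.Agent.OddHalf.D7F4.OutField
section

/-!
# Pattern (C, C): an involution of field type (helper84, bb ODD 11098 §3)

`V 0 = W_ρ`, `V n = W_b` (`b` simple), `V j = W_{ρ-b}`.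
-/

set_option autoImplicit false

namespace Cfsg.Agent.OddHalf.D7F4.OutField

open Subgroup Out.Exclude Out.Excl Cfsg.Agent.Doubling TypeC

variable {G : Type*} [Group G] {t : G} {T U Us : Subgroup G} {V X : ℕ → Subgroup G} {n j : ℕ}

/-- **The exclusion for field type.** -/
theorem excl_field [Finite G] (F : Fr t T U Us) (D : Growth.Dbl t V X (n + 1))
    (isW : ∀ i < n + 1, IsW t (X i) (V i)) (hn : 1 ≤ n) (hj : j < n + 1)
    (hUs : Us = Growth.W V (n + 1)) {s : G} (sT : s ∈ T) (hs1 : s ∉ U) (hs2 : t * s ∉ U)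
    {K : Type*} [Field K] [Finite K] [CharP K 2] {σ : K →+* K} {w0 : K} (hw0 : w0 + σ w0 = 1) {x1 x2 x3 : K → G}
    (P : Out.ZeroDiv.Pair t s σ x1 x2 x3 (V j) (V n) (V 0))
    (sV : ∀ i < n + 1, ∀ w ∈ V i, s * w * s ∈ V i)
    (fX : ∀ i < n + 1, ∀ x ∈ X i, s * x * s = x → ∃ y ∈ X i, x = s * y * s * y⁻¹)
    (hcomm : ∀ i < n, ∀ w ∈ V i, ∀ z ∈ V j, w * z = z * w)
    (Z : Subgroup G) (Zc : ∀ z ∈ Growth.W V 2, ∀ w ∈ Us, z * w = w * z)
    (k0 : ∀ z ∈ Growth.W V 2, ∀ g : G, g⁻¹ * t * g ≠ z) (k0' : ∀ z ∈ Z, ∃ g : G, g⁻¹ * t * g = t * z)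
    (hZ : Nat.card Z ^ 2 ≤ Nat.card (Growth.W V 2))
    (k1 : ∀ c ∈ T, (∀ a ∈ T, ∀ b ∈ T, c * (a * b * a⁻¹ * b⁻¹) = a * b * a⁻¹ * b⁻¹ * c) → c ∈ Z ∨ t * c ∈ Z)
    (k2 : ∀ c ∈ T, (∀ z ∈ Z, c * z = z * c) → c ∈ U ∨ t * c ∈ U) {q : ℕ} (hq : Nat.card (V n) ≤ q ^ 2)
    (k3 : ∀ u ∈ U, (∃ c ∈ U, c * u ≠ u * c) → q ≤ Set.ncard {x | ∃ c ∈ U, x = c * u * c⁻¹}) :
    ∃ v, (v = s ∨ v = t * s) ∧ NoConj F v := by
  have ti : t⁻¹ = t := inv_eq_of_mul_eq_one_left P.tt
  have si : s⁻¹ = s := inv_eq_of_mul_eq_one_left P.ss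
  have st := P.st
  obtain ⟨θ1, θ2, β, C⟩ := P.exists_coord hw0
  obtain ⟨v, hv, y, hy, w, hw, hvy, hvw, hvx, hw1, hyw, hyx⟩ := C.zero_div hw0
  refine ⟨v, hv, ?_⟩
  have vv : v * v = 1 := by
    rcases hv with rfl | rfl
    · exact P.ss
    · calc t * s * (t * s) = t * s * (s * t) := by rw [st]
        _ = t * (s * s) * t := by group
        _ = 1 := by rw [P.ss, mul_one, P.tt]
  have vi : v⁻¹ = v := inv_eq_of_mul_eq_one_left vv
  have vt : t * v = v * t := by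
    rcases hv with rfl | rfl
    · exact st.symm
    · calc t * (t * s) = t * (s * t) := by rw [st]
        _ = t * s * t := by group
  have hvU : v ∉ Us := by
    rcases hv with rfl | rfl
    · exact fun h => hs1 (mem_U F sT h)
    · exact fun h => hs2 (mem_U F (mul_mem F.tT sT) h)
  have ets : ∀ w, t * s * w * (t * s) = t * (s * w * s) * t := by
    intro w
    calc t * s * w * (t * s) = t * s * w * (s * t) := by rw [st]
      _ = t * (s * w * s) * t := by group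
  have vV : ∀ i < n + 1, ∀ w ∈ V i, v * w * v ∈ V i := by
    intro i hi w hw
    rcases hv with rfl | rfl
    · exact sV i hi w hw
    · rw [ets]
      exact D.conj i hi _ (sV i hi w hw)
  have vX : ∀ i < n + 1, ∀ x ∈ X i, v * x * v = s * x * s := by
    intro i hi x hx
    rcases hv with rfl | rfl
    · rfl
    · calc t * s * x * (t * s) = s * t * x * (t * s) := by rw [st]
        _ = s * (t * x * t) * s := by group
        _ = s * x * s := by rw [D.X_fix i hi x hx]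
  have vfree : ∀ i < n + 1, ∀ w ∈ V i, v * w * v = w → ∃ c ∈ V i, w = v * c * v * c⁻¹ := by
    intro i hi w hw hvw
    refine OutEnm.free_of_free P.tt (isW i hi) vt vv (vV i hi) ?_ hw hvw
    intro x hx hxv
    rw [vX i hi x hx] at hxv
    obtain ⟨y, hy, he⟩ := fX i hi x hx hxv
    exact ⟨y, hy, by rw [vX i hi y hy]; exact he⟩
  have Dv := Out.Grow.change D vv vV vfree
  have hW2 : Growth.W V 2 ≤ Us := by
    rw [hUs]; exact Growth.W_mono V (by omega)
  have hyU : y ∈ Us := by rw [hUs]; exact Growth.le_W V hj hy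
  have hnU : V n ≤ Us := by rw [hUs]; exact Growth.le_W V (Nat.lt_succ_self n)
  have key : ∀ w : G, v * w * v = w ↔ w * v = v * w := by
    intro w
    constructor
    · intro h1
      calc w * v = v * w * v * v := by rw [h1]
        _ = v * w * (v * v) := by group
        _ = v * w := by rw [vv, mul_one]
    · intro h1
      rw [mul_assoc, h1, ← mul_assoc, vv, one_mul]
  have key' : ∀ w : G, v * w * v⁻¹ = w → w * v = v * w := fun w h => (key w).1 (by rwa [vi] at h)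
  refine excl_of F ?_ fun g hg hgv => ?_
  · intro w hw h1
    rw [hUs] at hw
    obtain ⟨c, hc, h2⟩ := Dv.exists_conj hw h1
    exact ⟨c, hUs ▸ hc, h2⟩
  · refine excluded F hvU Z (Growth.W V 2) hW2 Zc k0 k0' ?_ k1 k2 k3 hyU (key' y hvy)
      ⟨x2 1, hnU (P.l2.mem 1), key' _ hvx, fun h => hyx ?_⟩ ?_ hgv hg
    · -- `|Z| ≤ |C_{W 2}(v)|`
      have hab : ∀ a ∈ Growth.W V 2, ∀ b ∈ Growth.W V 2, a * b = b * a := fun a ha b hb => Zc a ha b (hW2 hb)
      have hsq : ∀ a ∈ Growth.W V 2, a * a = 1 := by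
        intro a ha
        obtain ⟨u, hu, b, hb, rfl⟩ := D.mem_succ (k := 1) (by omega) ha
        obtain ⟨u', hu', c, hc, rfl⟩ := D.mem_succ (k := 0) (by omega) hu
        rw [Growth.W_zero, mem_bot] at hu'
        rw [hu', one_mul]
        have e1 := D.sq 0 (by omega) c hc
        have e2 := D.sq 1 (by omega) b hb
        have e3 := hab c (Growth.le_W V (by omega) hc) b (Growth.le_W V (by omega) hb)
        calc c * b * (c * b) = c * (b * c) * b := by group
          _ = (c * c) * (b * b) := by rw [← e3]; group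
          _ = 1 := by rw [e1, e2, one_mul]
      have h1 := Out.Grow.card_eq_sq (v := v) hab vv (fun w hw => Dv.conj_W (by omega) hw) (fun w hw h => by
        have hwi : w⁻¹ = w := inv_eq_of_mul_eq_one_left (hsq w hw)
        exact (Dv.main 2 (by omega)).2 w hw (by rw [h, hwi])) hsq
      rw [h1] at hZ
      exact (Nat.pow_le_pow_iff_left (by norm_num)).1 hZ
    · unfold Out.ZeroDiv.br
      rw [← h]; group
    · -- few conjugates
      set B0 : Subgroup G := V n ⊓ centralizer ({v} : Set G) with hB0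
      have hB : Nat.card B0 ≤ q := by
        have h1 := Out.Grow.card_eq_sq (v := v) (A := V n)
          (fun a ha b hb => Out.Grow.comm_of_sq (D.sq n (by omega)) ha hb) vv (vV n (by omega))
          (vfree n (by omega)) (D.sq n (by omega))
        rw [h1] at hq
        exact (Nat.pow_le_pow_iff_left (by norm_num)).1 hq
      have hwB : w ∈ B0 := Subgroup.mem_inf.2 ⟨hw, mem_centralizer_singleton_iff.2 (key' w hvw)⟩
      have hwy : w * y * w⁻¹ = y := by
        unfold Out.ZeroDiv.br at hyw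
        have h1 : y * w = w * y := by
          calc y * w = (y * w * y⁻¹ * w⁻¹) * (w * y) := by group
            _ = w * y := by rw [hyw, one_mul]
        rw [← h1, mul_inv_cancel_right]
      have hsub : {x | ∃ c ∈ Us, c * v = v * c ∧ x = c * y * c⁻¹} ⊆
          (fun b => b * y * b⁻¹) '' ((B0 : Set G) \ {w}) := by
        rintro x ⟨c, hc, hcv, rfl⟩
        rw [hUs] at hc
        obtain ⟨u, hu, b, hb, rfl⟩ := D.mem_succ (k := n) (by omega) hc
        have hfix := (key _).2 hcv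
        have hvb : v * b * v = b := by
          have e0 : v * (u * b) * v = (v * u * v) * (v * b * v) := by
            calc v * (u * b) * v = v * u * 1 * b * v := by group
              _ = v * u * (v * v) * b * v := by rw [vv]
              _ = _ := by group
          rw [e0] at hfix
          have e1 : (v * b * v) * b⁻¹ = (v * u * v)⁻¹ * u := by
            rw [eq_inv_mul_iff_mul_eq, ← mul_assoc, hfix, mul_inv_cancel_right]
          have e2 : (v * b * v) * b⁻¹ ∈ V n ⊓ Growth.W V n := by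
            refine Subgroup.mem_inf.2 ⟨mul_mem (vV n (by omega) b hb) (inv_mem hb), ?_⟩
            rw [e1]
            exact mul_mem (inv_mem (Dv.conj_W (by omega) hu)) hu
          rw [Out.Grow.disj D (by omega), mem_bot] at e2
          exact mul_inv_eq_one.1 e2
        have hbB : b ∈ B0 := Subgroup.mem_inf.2 ⟨hb, mem_centralizer_singleton_iff.2 ((key b).1 hvb)⟩
        have hconj : u * b * y * (u * b)⁻¹ = b * y * b⁻¹ := by
          have huy : u * y = y * u := by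
            have hle : Growth.W V n ≤ centralizer ({y} : Set G) :=
              iSup₂_le fun i hi z hz => mem_centralizer_singleton_iff.2 (hcomm i hi z hz y hy)
            exact mem_centralizer_singleton_iff.1 (hle hu)
          have hz : b * y * b⁻¹ * y⁻¹ ∈ V 0 := by
            have h1 := P.comm y hy b hb
            have h2 : b * y * b⁻¹ * y⁻¹ = (y * b * y⁻¹ * b⁻¹)⁻¹ := by group
            rw [h2]; exact inv_mem h1
          have hzc := Zc _ (Growth.le_W V (by omega : 0 < 2) hz) u (by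
            rw [hUs]; exact Growth.W_mono V (Nat.le_succ n) hu)
          calc u * b * y * (u * b)⁻¹ = u * (b * y * b⁻¹ * y⁻¹) * y * u⁻¹ := by group
            _ = (b * y * b⁻¹ * y⁻¹) * (u * y) * u⁻¹ := by rw [← hzc]; group
            _ = (b * y * b⁻¹ * y⁻¹) * (y * u) * u⁻¹ := by rw [huy]
            _ = b * y * b⁻¹ := by group
        rw [hconj]
        by_cases hbw : b = w
        · refine ⟨1, ⟨one_mem B0, fun h => hw1 h.symm⟩, ?_⟩
          change 1 * y * 1⁻¹ = b * y * b⁻¹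
          rw [hbw, hwy]; group
        · exact ⟨b, ⟨hbB, hbw⟩, rfl⟩
      calc Set.ncard {x | ∃ c ∈ Us, c * v = v * c ∧ x = c * y * c⁻¹}
          ≤ Set.ncard ((fun b => b * y * b⁻¹) '' ((B0 : Set G) \ {w})) := Set.ncard_le_ncard hsub (Set.toFinite _)
        _ ≤ Set.ncard ((B0 : Set G) \ {w}) := Set.ncard_image_le (Set.toFinite _)
        _ < Set.ncard (B0 : Set G) := Set.ncard_lt_ncard ⟨Set.sdiff_subset, fun h => (h hwB).2 rfl⟩ (Set.toFinite _)
        _ = Nat.card B0 := (Nat.card_coe_set_eq _).symm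
        _ ≤ q := hB

end Cfsg.Agent.OddHalf.D7F4.OutField

end

-- merged: Cfsg.Agent.OddHalf.D7F4.CCOut
section

/-!
# K = F4(q): both lengths are moved, any outer 2-part (S1765, node D7; helper84)

* `Crd t F x X W H`: coordinates of the root groups and the torus;
* `Fld`, `Grf`: field and graph type;
* `TG`: the Sylow group `T` of `C_G(t)`, `T = D U`;
* `main`: `t` is not in the commutator subgroup of `G`.
-/

set_option autoImplicit false
set_option linter.unusedSectionVars false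

namespace Cfsg.Agent.OddHalf.D7F4.CCOut

open Model TypeC CC OutEnm OutModel Cfsg.Agent.Doubling Subgroup Out.Exclude Out.Excl
open Lead (Ab Dir Ab_le Ab_mono ρ σ ρ' σ' α3 α0)

def α2 : Fin 4 → ℤ := ![0, 0, 1, 0]
def α1 : Fin 4 → ℤ := ![0, 1, 0, 0]
def α12 : Fin 4 → ℤ := ![0, 1, 1, 0]
def α112 : Fin 4 → ℤ := ![0, 2, 1, 0]

/-- the value of a character -/
def ch {F : Type*} [Field F] (χ : Fin 4 → Fˣ) (a : Fin 4 → ℤ) : F := ((∏ i, χ i ^ a i : Fˣ) : F)

/-- Coordinates. -/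
structure Crd {G : Type*} [Group G] (t : G) {F : Type*} [Field F] (x : (Fin 4 → ℤ) → F → G)
    (X W : (Fin 4 → ℤ) → Subgroup G) (H : Subgroup G) : Prop where
  mem : ∀ a ∈ rts, ∀ u, x a u ∈ X a
  surj : ∀ a ∈ rts, ∀ g ∈ X a, ∃ u, g = x a u
  add : ∀ a ∈ rts, ∀ u v, x a (u + v) = x a u * x a v
  inj : ∀ a ∈ rts, ∀ u, x a u = 1 → u = 0
  r1 : ∀ u v, x ρ' u * x α3 v * (x ρ' u)⁻¹ * (x α3 v)⁻¹ = x ρ (u * v)
  r2 : ∀ u v, ∃ w ∈ X α112, x α2 u * x α1 v * (x α2 u)⁻¹ * (x α1 v)⁻¹ = x α12 (u * v) * w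
  tor : ∀ χ : Fin 4 → Fˣ, ∃ h ∈ H, ∀ a ∈ rts, ∀ u, h * x a u * h⁻¹ = x a (ch χ a * u)
  Ht : ∀ h ∈ H, t * h = h * t
  HX : ∀ h ∈ H, ∀ a ∈ rts, ∀ y ∈ X a, h * y * h⁻¹ ∈ X a
  HW : ∀ h ∈ H, ∀ a ∈ rts, (∀ y ∈ X a, h * y = y * h) → ∀ w ∈ W a, h * w = w * h
  Hs : ∀ h ∈ H, ∀ y, y * t = t * y → y * h * y⁻¹ * h⁻¹ ≠ t
  /-- `C(t) ∩ C(K) = {1, t}` -/
  cK : ∀ g, g * t = t * g → (∀ a ∈ rts, ∀ y ∈ X a, g * y = y * g) → g = 1 ∨ g = t

/-- field type -/
def Fld {G F : Type*} [Group G] [Field F] (x : (Fin 4 → ℤ) → F → G) (d : G) (φ : F →+* F) : Prop :=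
  ∀ a ∈ rts, ∀ u, d * x a u * d⁻¹ = x a (φ u)

/-- graph type -/
def Grf {G F : Type*} [Group G] [Field F] (x : (Fin 4 → ℤ) → F → G) (d : G) (θ : F →+* F) : Prop :=
  ∀ a ∈ rts, ∀ u, (B a a = 4 → d * x a u * d⁻¹ = x (dual a) (θ u)) ∧
    (B a a = 2 → d * x a u * d⁻¹ = x (dual a) (θ u * θ u))

/-- The Sylow group `T` of `C_G(t)`. -/
structure TG {G F : Type*} [Group G] [Field F] (t : G) (T D U : Subgroup G) (x : (Fin 4 → ℤ) → F → G) : Prop where
  T2 : IsPGroup 2 T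
  tD : t ∈ D
  Tc : ∀ d ∈ T, d * t = t * d
  Tmax : ∀ P : Subgroup G, IsPGroup 2 P → T ≤ P → (∀ x ∈ P, x * t = t * x) → P ≤ T
  UT : U ≤ T
  ab : ∀ a ∈ T, ∀ b ∈ T, a * b * a⁻¹ * b⁻¹ ∈ U
  DT : D ≤ T
  fac : ∀ v ∈ T, ∃ y ∈ D, ∃ x ∈ U, v = y * x
  DU : ∀ e ∈ D, e ∈ U → e = 1
  one : ∀ e ∈ D, ∀ f ∈ D, e * e = 1 → f * f = 1 → e ≠ 1 → e ≠ t → f ≠ 1 → f ≠ t → f = e ∨ f = t * e
  act : ∀ y ∈ D, (∃ φ : F →+* F, Fld x y φ) ∨ ∃ θ : F →+* F, Grf x y θ

variable {G : Type*} [Group G] {t : G} {F : Type*} [Field F] {x : (Fin 4 → ℤ) → F → G}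
  {X W : (Fin 4 → ℤ) → Subgroup G} {H : Subgroup G}

namespace Crd

variable (C : Crd t x X W H)

include C

theorem zero {a : Fin 4 → ℤ} (ha : a ∈ rts) : x a 0 = 1 := by
  have h1 := C.add a ha 0 0
  rw [add_zero] at h1
  exact (mul_eq_left.1 h1.symm)

theorem xinj {a : Fin 4 → ℤ} (ha : a ∈ rts) {u v : F} (h : x a u = x a v) : u = v := by
  have h1 : x a (u - v) = 1 := by
    have h2 := C.add a ha (u - v) v
    rw [sub_add_cancel, h] at h2
    exact (mul_eq_right.1 h2.symm)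
  exact sub_eq_zero.1 (C.inj a ha _ h1)

theorem card_X [Finite F] {a : Fin 4 → ℤ} (ha : a ∈ rts) : Nat.card (X a) = Nat.card F := by
  symm
  refine Nat.card_congr (Equiv.ofBijective (fun u => (⟨x a u, C.mem a ha u⟩ : X a)) ⟨?_, ?_⟩)
  · intro u v h
    exact C.xinj ha (congrArg Subtype.val h)
  · rintro ⟨g, hg⟩
    obtain ⟨u, rfl⟩ := C.surj a ha g hg
    exact ⟨u, rfl⟩

/-- an element acting on all root groups and fixing the coordinates is `1` or `t` -/
theorem eq_of_fix {g : G} (hg : g * t = t * g) (h : ∀ a ∈ rts, ∀ u, g * x a u * g⁻¹ = x a u) : g = 1 ∨ g = t := by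
  refine C.cK g hg fun a ha y hy => ?_
  obtain ⟨u, rfl⟩ := C.surj a ha y hy
  have h1 := h a ha u
  calc g * x a u = g * x a u * g⁻¹ * g := by group
    _ = x a u * g := by rw [h1]

end Crd

/-! ### Conjugation -/

theorem dual_nonneg : ∀ a ∈ rts, ∀ b ∈ rts, 0 ≤ B (dual a) (dual b) → 0 ≤ B a b := by decide +kernel

theorem dual_lv : ∀ a ∈ rts, 0 < lv a → 0 < lv (dual a) := by decide +kernel

/-- Field type elements normalise the doubled root groups. -/
theorem fld_W [Finite F] (h : CC.Hyp t B Phi X W) (C : Crd t x X W H) {d : G} (hd : d * t = t * d) {φ : F →+* F}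
    (hφ : Fld x d φ) {a : Fin 4 → ℤ} (ha : a ∈ rts) {w : G} (hw : w ∈ W a) : d * w * d⁻¹ ∈ W a := by
  refine canon h hd.symm (π := id) (fun a ha => ha) (fun c hc => ⟨c, hc, rfl⟩) (fun a _ b _ h => h) ?_ ?_ ha hw
  · intro a ha y hy
    obtain ⟨u, rfl⟩ := C.surj a ha y hy
    rw [hφ a ha]
    exact C.mem a ha _
  · intro a ha y hy
    obtain ⟨u, rfl⟩ := C.surj a ha y hy
    obtain ⟨v, rfl⟩ := (Finite.injective_iff_surjective.1 φ.injective) u
    rw [← hφ a ha]
    have : d⁻¹ * (d * x a v * d⁻¹) * d = x a v := by group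
    rw [this]
    exact C.mem a ha _

theorem grf_surj [Finite F] [CharP F 2] (θ : F →+* F) (u : F) : ∃ v, θ v * θ v = u := by
  obtain ⟨v, rfl⟩ := (Finite.injective_iff_surjective.1 θ.injective) u
  obtain ⟨w, rfl⟩ := (Finite.injective_iff_surjective.1 (frobenius F 2).injective) v
  exact ⟨w, by rw [frobenius_def, pow_two, map_mul]⟩

/-- Graph type elements interchange the doubled root groups. -/
theorem grf_W [Finite F] [CharP F 2] (h : CC.Hyp t B Phi X W) (C : Crd t x X W H) {d : G} (hd : d * t = t * d)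
    {θ : F →+* F} (hθ : Grf x d θ) {a : Fin 4 → ℤ} (ha : a ∈ rts) {w : G} (hw : w ∈ W a) :
    d * w * d⁻¹ ∈ W (dual a) := by
  refine canon h hd.symm (π := dual) dual_mem (fun c hc => ⟨dual c, dual_mem c hc, dual_dual c hc⟩)
    dual_nonneg ?_ ?_ ha hw
  · intro a ha y hy
    obtain ⟨u, rfl⟩ := C.surj a ha y hy
    rcases Model.norm a ha with h1 | h1
    · rw [(hθ a ha u).2 h1]; exact C.mem _ (dual_mem a ha) _
    · rw [(hθ a ha u).1 h1]; exact C.mem _ (dual_mem a ha) _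
  · intro a ha y hy
    obtain ⟨u, rfl⟩ := C.surj _ (dual_mem a ha) y hy
    rcases Model.norm a ha with h1 | h1
    · obtain ⟨v, rfl⟩ := grf_surj θ u
      rw [← (hθ a ha v).2 h1]
      have : d⁻¹ * (d * x a v * d⁻¹) * d = x a v := by group
      rw [this]
      exact C.mem a ha _
    · obtain ⟨v, rfl⟩ := (Finite.injective_iff_surjective.1 θ.injective) u
      rw [← (hθ a ha v).1 h1]
      have : d⁻¹ * (d * x a v * d⁻¹) * d = x a v := by group
      rw [this]
      exact C.mem a ha _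

/-- `D` normalises `U*`. -/
theorem D_norm [Finite F] [CharP F 2] (h : CC.Hyp t B Phi X W) (C : Crd t x X W H) {d : G} (hd : d * t = t * d)
    (hact : (∃ φ : F →+* F, Fld x d φ) ∨ ∃ θ : F →+* F, Grf x d θ) {w : G} (hw : w ∈ Ab W 0) :
    d * w * d⁻¹ ∈ Ab W 0 := by
  have hle : Ab W 0 ≤ (Ab W 0).comap (MulAut.conj d).toMonoidHom := by
    refine Ab_le fun a ha ha0 v hv => ?_
    show d * v * d⁻¹ ∈ Ab W 0
    rcases hact with ⟨φ, hφ⟩ | ⟨θ, hθ⟩
    · exact Lead.le_Ab ha ha0 (fld_W h C hd hφ ha hv)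
    · exact Lead.le_Ab (dual_mem a ha) (dual_lv a ha ha0) (grf_W h C hd hθ ha hv)
  exact hle hw

section main

variable [Finite G] [Finite F] [CharP F 2] {T D : Subgroup G}

/-- The frame. -/
theorem fr (h : CC.Hyp t B Phi X W) (hD : Dir X) (C : Crd t x X W H) (hT : TG t T D (Ab X 0) x) :
    Fr t T (Ab X 0) (Ab W 0) where
  tt := h.tt
  T2 := hT.T2
  tT := hT.DT hT.tD
  Tc := hT.Tc
  Tmax := hT.Tmax
  Us2 := Us2 h hD (fun a ha => C.card_X ha)
  norm := by
    intro d hd w hw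
    obtain ⟨y, hy, u, hu, rfl⟩ := hT.fac d hd
    have hu' : u ∈ Ab W 0 := ((mem_U_iff h hD (fun a ha => C.card_X ha)).1 hu).1
    have h1 := D_norm h C (hT.Tc y (hT.DT hy)) (hT.act y hy) (mul_mem (mul_mem hu' hw) (inv_mem hu'))
    have h2 : y * (u * w * u⁻¹) * y⁻¹ = y * u * w * (y * u)⁻¹ := by group
    rwa [h2] at h1
  UT := hT.UT
  hU := fun w => mem_U_iff h hD (fun a ha => C.card_X ha)
  ab := hT.ab

theorem fld_fix (C : Crd t x X W H) {d : G} (hd : d * t = t * d)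
    (hact : (∃ φ : F →+* F, Fld x d φ) ∨ ∃ θ : F →+* F, Grf x d θ)
    (hind : ∀ y ∈ X ρ, y ∈ X σ → y = 1)
    (hc : ∀ y ∈ X ρ, d * y = y * d) : d = 1 ∨ d = t := by
  have hx : ∀ u, d * x ρ u * d⁻¹ = x ρ u := by
    intro u
    rw [hc _ (C.mem ρ Lead.ρ_mem u), mul_inv_cancel_right]
  rcases hact with ⟨φ, hφ⟩ | ⟨θ, hθ⟩
  · apply C.eq_of_fix hd
    intro a ha u
    have h1 := hx u
    rw [hφ ρ Lead.ρ_mem] at h1
    rw [hφ a ha, C.xinj Lead.ρ_mem h1]
  · exfalso
    have h1 := hx 1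
    have e : B ρ ρ = 4 ∧ dual ρ = σ := by decide +kernel
    rw [(hθ ρ Lead.ρ_mem 1).1 e.1, e.2] at h1
    have h2 := hind (x ρ 1) (C.mem ρ Lead.ρ_mem 1) (by rw [← h1]; exact C.mem σ Lead.σ_mem _)
    exact one_ne_zero (C.inj ρ Lead.ρ_mem 1 h2)

/-- elements of `T` centralising `X ρ` -/
theorem hout (hK : KF t X) (C : Crd t x X W H) (hT : TG t T D (Ab X 0) x) {c : G} (hc : c ∈ T)
    (hcc : ∀ y ∈ X ρ, c * y = y * c) : c ∈ Ab X 0 ∨ t * c ∈ Ab X 0 := by
  obtain ⟨d, hd, u, hu, rfl⟩ := hT.fac c hc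
  have h1 : ∀ y ∈ X ρ, d * y = y * d := by
    intro y hy
    have h2 := hcc y hy
    have h3 := Lead.central hK (Or.inl rfl) hy hu
    have h4 : d * y * u = y * d * u := by
      calc d * y * u = d * (y * u) := by group
        _ = d * (u * y) := by rw [h3]
        _ = d * u * y := by group
        _ = y * (d * u) := h2
        _ = y * d * u := by group
    exact mul_right_cancel h4
  rcases fld_fix C (hT.Tc d (hT.DT hd)) (hT.act d hd)
    (fun y hy hy' => hK.ind ρ Lead.ρ_mem σ Lead.σ_mem (by decide +kernel) y hy hy') h1 with h2 | h2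
  · left; rw [h2, one_mul]; exact hu
  · right; rw [h2, ← mul_assoc, hK.tt, one_mul]; exact hu

/-- `|D| ≤ 4 q` -/
theorem card_D (hK : KF t X) (C : Crd t x X W H) (hT : TG t T D (Ab X 0) x) :
    Nat.card D ≤ 2 * (2 * Nat.card F) := by
  classical
  have := Fintype.ofFinite F
  obtain ⟨ω, hω⟩ := IsCyclic.exists_generator (α := Fˣ)
  have hid : ∀ φ : F →+* F, φ ω = ω → ∀ u, φ u = u := by
    intro φ hφ u
    by_cases hu : u = 0
    · rw [hu, map_zero]
    · obtain ⟨n, hn⟩ := Subgroup.mem_zpowers_iff.1 (hω (Units.mk0 u hu))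
      have h1 : u = (ω : F) ^ n := by
        have := congrArg Units.val hn
        rw [Units.val_zpow_eq_zpow_val, Units.val_mk0] at this
        exact this.symm
      rw [h1, map_zpow₀, hφ]
  have hind : ∀ y ∈ X ρ, y ∈ X σ → y = 1 := fun y hy hy' =>
    hK.ind ρ Lead.ρ_mem σ Lead.σ_mem (by decide +kernel) y hy hy'
  have e : B ρ ρ = 4 ∧ dual ρ = σ := by decide +kernel
  have hval : ∀ d : D, ∃ z : F ⊕ F, (d : G) * x ρ ω * (d : G)⁻¹ = Sum.elim (x ρ) (x σ) z := by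
    intro d
    rcases hT.act d d.2 with ⟨φ, hφ⟩ | ⟨θ, hθ⟩
    · exact ⟨Sum.inl (φ ω), hφ ρ Lead.ρ_mem ω⟩
    · exact ⟨Sum.inr (θ ω), by rw [(hθ ρ Lead.ρ_mem ω).1 e.1, e.2]; rfl⟩
  choose f hf using hval
  have key : ∀ d d' : D, f d = f d' → (d : G) = d' ∨ (d : G) = d' * t := by
    intro d d' hdd
    have hk : ((d' : G)⁻¹ * d) * x ρ ω * ((d' : G)⁻¹ * d)⁻¹ = x ρ ω := by
      have h1 := hf d
      rw [hdd, ← hf d'] at h1
      calc ((d' : G)⁻¹ * d) * x ρ ω * ((d' : G)⁻¹ * d)⁻¹ = (d' : G)⁻¹ * (d * x ρ ω * (d : G)⁻¹) * d' := by group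
        _ = x ρ ω := by rw [h1]; group
    have hkD : (d' : G)⁻¹ * d ∈ D := mul_mem (inv_mem d'.2) d.2
    have hkt := hT.Tc _ (hT.DT hkD)
    have h2 : (d' : G)⁻¹ * d = 1 ∨ (d' : G)⁻¹ * d = t := by
      rcases hT.act _ hkD with ⟨φ, hφ⟩ | ⟨θ, hθ⟩
      · apply C.eq_of_fix hkt
        rw [hφ ρ Lead.ρ_mem] at hk
        have h3 := hid φ (C.xinj Lead.ρ_mem hk)
        intro a ha u
        rw [hφ a ha, h3]
      · exfalso
        rw [(hθ ρ Lead.ρ_mem _).1 e.1, e.2] at hk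
        have h2 := hind (x ρ ω) (C.mem ρ Lead.ρ_mem ω) (by rw [← hk]; exact C.mem σ Lead.σ_mem _)
        exact ω.ne_zero (C.inj ρ Lead.ρ_mem ω h2)
    rcases h2 with h2 | h2
    · left; exact (inv_mul_eq_one.1 h2).symm
    · right; rw [← h2, mul_inv_cancel_left]
  have hr : ∀ z : F ⊕ F, ∃ r : D, ∀ d : D, f d = z → (d : G) = r ∨ (d : G) = r * t := by
    intro z
    by_cases hz : ∃ r, f r = z
    · obtain ⟨r, rfl⟩ := hz
      exact ⟨r, fun d hd => key d r hd⟩
    · exact ⟨1, fun d hd => absurd ⟨d, hd⟩ hz⟩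
  choose r hr using hr
  have h1 : Nat.card D ≤ Nat.card (Bool × (F ⊕ F)) := by
    refine Nat.card_le_card_of_injective (fun d : D => (decide ((d : G) = r (f d)), f d)) ?_
    intro d d' hdd
    have h1 : decide ((d : G) = r (f d)) = decide ((d' : G) = r (f d')) := congrArg Prod.fst hdd
    have h2 : f d = f d' := congrArg Prod.snd hdd
    apply Subtype.ext
    rw [decide_eq_decide] at h1
    by_cases h3 : (d : G) = r (f d)
    · rw [h3, h1.1 h3, h2]
    · have h4 := (hr (f d) d rfl).resolve_left h3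
      have h5 := (hr (f d') d' rfl).resolve_left (fun h => h3 (h1.2 h))
      rw [h4, h5, h2]
  rw [Nat.card_prod, Nat.card_sum] at h1
  have h2 : Nat.card Bool = 2 := by simp
  rw [h2] at h1
  omega

/-- `t` is not conjugate to an element centralising `U*` -/
theorem k0 (hK : KF t X) (h : CC.Hyp t B Phi X W) (hD : Dir X) (C : Crd t x X W H) (hT : TG t T D (Ab X 0) x)
    {z : G} (hz : ∀ w ∈ Ab W 0, z * w = w * z) (g : G) : g⁻¹ * t * g ≠ z := by
  intro hg
  have Fm := fr h hD C hT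
  set q := Nat.card F with hq
  have hq2 : 2 ≤ q := by
    have : Nontrivial F := inferInstance
    exact Finite.one_lt_card
  -- `g U* g⁻¹ ≤ C(t)`
  set P : Subgroup G := (Ab W 0).map (MulAut.conj g).toMonoidHom with hP
  have hP2 : IsPGroup 2 P := (Us2 h hD (fun a ha => C.card_X ha)).map _
  have hPc : P ≤ centralizer ({t} : Set G) := by
    rintro _ ⟨w, hw, rfl⟩
    rw [mem_centralizer_singleton_iff]
    change g * w * g⁻¹ * t = t * (g * w * g⁻¹)
    have h1 := hz w hw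
    calc g * w * g⁻¹ * t = g * (w * (g⁻¹ * t * g)) * g⁻¹ := by group
      _ = g * (g⁻¹ * t * g * w) * g⁻¹ := by rw [hg, h1]
      _ = t * (g * w * g⁻¹) := by group
  have hPcard : Nat.card P = (q ^ 2) ^ 24 := by
    rw [hP, ← card_Us h hD (fun a ha => C.card_X ha)]
    exact (Nat.card_congr ((Ab W 0).equivMapOfInjective _ (MulAut.conj g).injective).toEquiv).symm
  have hTc : T ≤ centralizer ({t} : Set G) := fun d hd => mem_centralizer_singleton_iff.2 (hT.Tc d hd)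
  have hodd := F4.EndOut.odd_relIndex Fm
  have hcardC : Nat.card T * T.relIndex (centralizer ({t} : Set G)) = Nat.card (centralizer ({t} : Set G)) := by
    have := relIndex_mul_relIndex (⊥ : Subgroup G) T (centralizer ({t} : Set G)) bot_le hTc
    rwa [relIndex_bot_left, relIndex_bot_left] at this
  have hdvd : Nat.card P ∣ Nat.card T := by
    have h1 : Nat.card P ∣ Nat.card T * T.relIndex (centralizer ({t} : Set G)) := by
      rw [hcardC]
      exact card_dvd_of_le hPc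
    obtain ⟨k, hk⟩ := hP2.exists_card_eq
    refine Nat.Coprime.dvd_of_dvd_mul_right ?_ h1
    rw [hk]
    exact Nat.Coprime.pow_left k (Nat.coprime_two_left.2 hodd)
  have hle := Nat.le_of_dvd Nat.card_pos hdvd
  -- `|T| ≤ |D| |U|`
  have hTle : Nat.card T ≤ Nat.card D * Nat.card (Ab X 0) := by
    rw [← Nat.card_prod]
    refine Nat.card_le_card_of_surjective (fun z : D × Ab X 0 =>
      (⟨z.1 * z.2, mul_mem (hT.DT z.1.2) (hT.UT z.2.2)⟩ : T)) ?_
    rintro ⟨v, hv⟩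
    obtain ⟨y, hy, u, hu, rfl⟩ := hT.fac v hv
    exact ⟨⟨⟨y, hy⟩, ⟨u, hu⟩⟩, rfl⟩
  have hDc := card_D hK C hT
  rw [card_U h hD (fun a ha => C.card_X ha)] at hTle
  rw [hPcard] at hle
  have h1 : (q ^ 2) ^ 24 ≤ 2 * (2 * q) * q ^ 24 := hle.trans (hTle.trans (Nat.mul_le_mul_right _ hDc))
  have h2 : q ^ 23 * (q * q ^ 24) ≤ 4 * (q * q ^ 24) := by
    calc q ^ 23 * (q * q ^ 24) = (q ^ 2) ^ 24 := by ring
      _ ≤ 2 * (2 * q) * q ^ 24 := h1
      _ = 4 * (q * q ^ 24) := by ring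
  have h3 : q ^ 23 ≤ 4 := Nat.le_of_mul_le_mul_right h2 (by positivity)
  have h4 : 2 ^ 23 ≤ q ^ 23 := Nat.pow_le_pow_left hq2 23
  norm_num at h4
  omega

/-- `t` is conjugate to `t z`, `z ∈ X ρ X σ` -/
theorem k0' (h : CC.Hyp t B Phi X W) {z : G} (hz : z ∈ X ρ ⊔ X σ) : ∃ g : G, g⁻¹ * t * g = t * z := by
  have e : (0 : ℤ) ≤ B ρ σ := by decide +kernel
  have hcX : ∀ w ∈ X ρ, ∀ v ∈ X σ, w * v = v * w := fun w hw v hv =>
    h.WX ρ Lead.ρ_mem σ Lead.σ_mem e w ((h.isW ρ Lead.ρ_mem).XW hw) v hv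
  obtain ⟨y1, hy1, y2, hy2, rfl⟩ := (mem_sup_of_comm hcX).1 hz
  obtain ⟨w1, hw1, e1⟩ := (h.isW ρ Lead.ρ_mem).surj y1 hy1
  obtain ⟨w2, hw2, e2⟩ := (h.isW σ Lead.σ_mem).surj y2 hy2
  have e1' : D t w1 = y1 := e1
  have e2' : D t w2 = y2 := e2
  have hc : w2 * y1 = y1 * w2 :=
    h.WX σ Lead.σ_mem ρ Lead.ρ_mem (by rw [h.roots.symm]; exact e) w2 hw2 y1 hy1
  have h1 : D t (w1 * w2) = y1 * y2 := by
    rw [D_mul h.tt, e1', e2', mul_assoc w2⁻¹, ← hc, inv_mul_cancel_left]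
  refine ⟨t * (w1 * w2) * t, ?_⟩
  rw [← h1]
  have ti := t_inv h.tt
  have h2 : (t * (w1 * w2) * t)⁻¹ = t * (w1 * w2)⁻¹ * t := by
    rw [mul_inv_rev, mul_inv_rev, ti]; group
  rw [h2]
  unfold TypeC.D
  calc t * (w1 * w2)⁻¹ * t * t * (t * (w1 * w2) * t)
      = t * (w1 * w2)⁻¹ * (t * t) * (t * (w1 * w2) * t) := by group
    _ = t * ((w1 * w2)⁻¹ * (t * (w1 * w2) * t)) := by rw [h.tt]; group

/-! ### Graph type -/

theorem ch_ρ (χ : Fin 4 → Fˣ) : ch χ ρ = (χ 0 : F) ^ 2 * (χ 1 : F) ^ 4 * (χ 2 : F) ^ 3 * (χ 3 : F) ^ 2 := by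
  unfold ch
  rw [Fin.prod_univ_four]
  simp [ρ]

theorem ch_ρ' (χ : Fin 4 → Fˣ) : ch χ ρ' = (χ 0 : F) ^ 2 * (χ 1 : F) ^ 4 * (χ 2 : F) ^ 3 * (χ 3 : F) := by
  unfold ch
  rw [Fin.prod_univ_four]
  simp [ρ']

theorem ch_α3 (χ : Fin 4 → Fˣ) : ch χ α3 = (χ 3 : F) := by
  unfold ch
  rw [Fin.prod_univ_four]
  simp [α3]

theorem ch_α2 (χ : Fin 4 → Fˣ) : ch χ α2 = (χ 2 : F) := by
  unfold ch
  rw [Fin.prod_univ_four]
  simp [α2]

theorem sq_eq (θ : F →+* F) (two : ∀ a, θ (θ a) * θ (θ a) = a) {s : G} (C : Crd t x X W H) (hθ : Grf x s θ)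
    (hst : s * t = t * s) (c : Fˣ) : ∃ h ∈ H, h * s = s * h ∧ ∀ u, h * x α2 u * h⁻¹ = x α2 (c * u) := by
  -- the character
  set χ : Fin 4 → Fˣ := ![1, Units.map (θ : F →* F) c, c, 1] with hχ
  have hch : ∀ a : Fin 4 → ℤ, ch χ a = θ c ^ a 1 * (c : F) ^ a 2 := by
    intro a
    unfold ch
    rw [Fin.prod_univ_four]
    simp [hχ, Units.val_zpow_eq_zpow_val]
  have hθθ : ∀ n : ℤ, θ (θ c) ^ (2 * n) = (c : F) ^ n := by
    intro n
    rw [zpow_mul, zpow_ofNat, pow_two, two]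
  obtain ⟨h, hh, hx⟩ := C.tor χ
  have hsi : ∀ a ∈ rts, ∀ u, s * x a u * s⁻¹ = x (dual a) (if B a a = 4 then θ u else θ u * θ u) := by
    intro a ha u
    rcases Model.norm a ha with h1 | h1
    · rw [(hθ a ha u).2 h1, if_neg (by omega)]
    · rw [(hθ a ha u).1 h1, if_pos h1]
  have e1 : ∀ a ∈ rts, B a a = 4 → ch χ (dual a) = θ (ch χ a) := by
    have hd : ∀ a ∈ rts, B a a = 4 → 2 * dual a 2 = a 1 ∧ dual a 1 = a 2 := by decide +kernel
    intro a ha h1
    obtain ⟨k1, k2⟩ := hd a ha h1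
    rw [hch, hch, map_mul, map_zpow₀, map_zpow₀, k2, ← k1, hθθ, mul_comm]
  have e2 : ∀ a ∈ rts, B a a = 2 → ch χ (dual a) = θ (ch χ a) * θ (ch χ a) := by
    have hd : ∀ a ∈ rts, B a a = 2 → dual a 2 = a 1 ∧ dual a 1 = 2 * a 2 := by decide +kernel
    intro a ha h1
    obtain ⟨k1, k2⟩ := hd a ha h1
    rw [hch, hch, map_mul, map_zpow₀, map_zpow₀, k1, k2, mul_mul_mul_comm, ← pow_two, ← zpow_natCast, ← zpow_mul,
      ← pow_two, ← zpow_natCast (θ (c : F) ^ a 2), ← zpow_mul]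
    rw [mul_comm (a 1), Nat.cast_ofNat, hθθ, mul_comm (a 2), mul_comm]
  have hcomm : s * h * s⁻¹ * h⁻¹ = 1 ∨ s * h * s⁻¹ * h⁻¹ = t := by
    have hht : h * t = t * h := (C.Ht h hh).symm
    apply C.eq_of_fix
    · have c1 : Commute s t := hst
      have c2 : Commute h t := hht
      exact (((c1.mul_left c2).mul_left c1.inv_left).mul_left c2.inv_left).eq
    · intro b hb u
      obtain ⟨a, ha, rfl⟩ : ∃ a ∈ rts, dual a = b := ⟨dual b, dual_mem b hb, dual_dual b hb⟩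
      have hb' := hb
      -- `u` in terms of `s`
      obtain ⟨v, hv⟩ : ∃ v, (if B a a = 4 then θ v else θ v * θ v) = (ch χ (dual a))⁻¹ * u := by
        by_cases h4 : B a a = 4
        · obtain ⟨v, hv⟩ := (Finite.injective_iff_surjective.1 θ.injective) ((ch χ (dual a))⁻¹ * u)
          exact ⟨v, by rw [if_pos h4, hv]⟩
        · obtain ⟨v, hv⟩ := grf_surj θ ((ch χ (dual a))⁻¹ * u)
          exact ⟨v, by rw [if_neg h4, hv]⟩
      have hχ0 : ch χ (dual a) ≠ 0 := Units.ne_zero _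
      have h3 : h⁻¹ * x (dual a) u * h = x (dual a) ((ch χ (dual a))⁻¹ * u) := by
        have h4 := hx (dual a) hb ((ch χ (dual a))⁻¹ * u)
        rw [mul_inv_cancel_left₀ hχ0] at h4
        rw [← h4]; group
      have h5 : s⁻¹ * (h⁻¹ * x (dual a) u * h) * s = x a v := by
        rw [h3, ← hv, ← hsi a ha v]; group
      have h6 : s * h * s⁻¹ * h⁻¹ * x (dual a) u * (s * h * s⁻¹ * h⁻¹)⁻¹ =
          s * (h * (s⁻¹ * (h⁻¹ * x (dual a) u * h) * s) * h⁻¹) * s⁻¹ := by group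
      rw [h6, h5, hx a ha, hsi a ha]
      congr 1
      rcases Model.norm a ha with h7 | h7
      · rw [if_neg (by omega)] at hv ⊢
        rw [map_mul, mul_mul_mul_comm, hv, ← e2 a ha h7, mul_inv_cancel_left₀ hχ0]
      · rw [if_pos h7] at hv ⊢
        rw [map_mul, hv, ← e1 a ha h7, mul_inv_cancel_left₀ hχ0]
  have h1 : s * h * s⁻¹ * h⁻¹ = 1 := hcomm.resolve_right (C.Hs h hh s hst)
  refine ⟨h, hh, ?_, fun u => ?_⟩
  · have h2 : s * h * s⁻¹ = h := mul_inv_eq_one.1 h1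
    calc h * s = s * h * s⁻¹ * s := by rw [h2]
      _ = s * h := by group
  · have e : α2 ∈ rts := by decide +kernel
    have e' : ch χ α2 = (c : F) := by rw [ch_α2]; rfl
    rw [hx α2 e, e']

theorem α2_mem : α2 ∈ rts := by decide +kernel
theorem α1_mem : α1 ∈ rts := by decide +kernel
theorem α12_mem : α12 ∈ rts := by decide +kernel
theorem α112_mem : α112 ∈ rts := by decide +kernel

/-- The torus normalises the doubled root groups. -/
theorem H_W (h : CC.Hyp t B Phi X W) (C : Crd t x X W H) {g : G} (hg : g ∈ H) {a : Fin 4 → ℤ} (ha : a ∈ rts) {w : G}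
    (hw : w ∈ W a) : g * w * g⁻¹ ∈ W a := by
  refine canon h (C.Ht g hg) (π := id) (fun a ha => ha) (fun c hc => ⟨c, hc, rfl⟩) (fun a _ b _ h => h) ?_ ?_ ha hw
  · intro a ha y hy
    exact C.HX g hg a ha y hy
  · intro a ha y hy
    have := C.HX g⁻¹ (inv_mem hg) a ha y hy
    rwa [inv_inv] at this

theorem gp (hK : KF t X) (h : CC.Hyp t B Phi X W) (C : Crd t x X W H) {s : G} (ss : s * s = 1) (hst : s * t = t * s)
    {θ : F →+* F} (hθ : Grf x s θ) :
    Out.Graph.GP t s θ (x α2) (x α1) (x α12) (W α2) (W α1) (W α12) (W α112) := by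
  have si : s⁻¹ = s := inv_eq_of_mul_eq_one_left ss
  have b : B α2 α2 = 4 ∧ B α1 α1 = 2 ∧ B α2 α1 = -2 ∧ B α12 α12 = 2 ∧ B α112 α112 = 4 ∧ α2 + α1 = α12 ∧
      α2 + α1 + α1 = α112 ∧ dual α2 = α1 ∧ dual α1 = α2 ∧ 0 ≤ B α2 α12 ∧ 0 ≤ B α2 α112 ∧ 0 ≤ B α1 α12 ∧
      0 ≤ B α1 α112 ∧ 0 ≤ B α12 α112 ∧ α12 ≠ α112 ∧ α2 ≠ -α1 := by decide +kernel
  obtain ⟨b1, b2, b3, b4, b5, b6, b7, b8, b9, b10, b11, b12, b13, b14, b15, b16⟩ := b
  have hI2 := h.isW α2 α2_mem
  have hI12 := h.isW α12 α12_mem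
  have hI112 := h.isW α112 α112_mem
  have h2 : ∀ u, s * x α2 u * s⁻¹ = x α1 (θ u) := by
    intro u
    have := (hθ α2 α2_mem u).1 b1
    rwa [b8] at this
  have h1 : ∀ u, s * x α1 u * s⁻¹ = x α2 (θ u * θ u) := by
    intro u
    have := (hθ α1 α1_mem u).2 b2
    rwa [b9] at this
  have comm3 : ∀ w ∈ W α12 ⊔ W α112, ∀ r ∈ rts, 0 ≤ B r α12 → 0 ≤ B r α112 → ∀ v ∈ W r, v * w = w * v := by
    intro w hw r hr hr1 hr2 v hv
    have hle : W α12 ⊔ W α112 ≤ centralizer ({v} : Set G) := sup_le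
      (fun z hz => mem_centralizer_singleton_iff.2 (h.WW hr α12_mem hr1 hv hz).symm)
      (fun z hz => mem_centralizer_singleton_iff.2 (h.WW hr α112_mem hr2 hv hz).symm)
    exact (mem_centralizer_singleton_iff.1 (hle hw)).symm
  have two : ∀ a, θ (θ a) * θ (θ a) = a := by
    intro a
    have e1 : s * (s * x α2 a * s⁻¹) * s⁻¹ = x α2 a := by
      calc s * (s * x α2 a * s⁻¹) * s⁻¹ = (s * s) * x α2 a * (s⁻¹ * s⁻¹) := by group
        _ = x α2 a := by rw [si, ss, one_mul, mul_one]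
    rw [h2, h1] at e1
    exact C.xinj α2_mem e1
  refine
    { tt := h.tt
      ss := ss
      st := hst
      add1 := C.add α2 α2_mem
      mem1 := fun a => hI2.XW (C.mem α2 α2_mem a)
      ab1 := fun a ha b hb => hI2.ab ha hb
      ht1 := ?_
      fix1 := ?_
      tx1 := ?_
      add2 := C.add α1 α1_mem
      sW := ?_
      sx := fun a => by rw [← h2, si]
      add3 := C.add α12 α12_mem
      inj3 := ?_
      mem3 := fun a => hI12.XW (C.mem α12 α12_mem a)
      rel := ?_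
      brm := ?_
      c13 := fun w hw y hy => comm3 y hy α2 α2_mem b10 b11 w hw
      c23 := fun w hw y hy => comm3 y hy α1 α1_mem b12 b13 w hw
      c33 := ?_
      tN := fun y hy => hI112.conj_mem hy
      two := two
      tor := ?_ }
  · intro w hw
    obtain ⟨a, ha⟩ := C.surj α2 α2_mem _ (hI2.brk w hw)
    exact ⟨a, by rw [← ha, mul_inv_cancel_left]⟩
  · intro w hw hwt
    obtain ⟨a, ha⟩ := C.surj α2 α2_mem w (hI2.cent w hw (by
      calc t * w = t * w * (t * t) := by rw [h.tt, mul_one]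
        _ = (t * w * t) * t := by group
        _ = w * t := by rw [hwt]))
    exact ⟨a, ha⟩
  · intro a
    rw [hI2.tX _ (C.mem α2 α2_mem a), mul_assoc, h.tt, mul_one]
  · intro w hw
    have := grf_W h C hst hθ α2_mem hw
    rwa [b8, si] at this
  · intro a ha
    have e1 := C.mem α12 α12_mem a
    have e2 := hI112.cent _ ha (hI12.tX _ e1)
    exact C.inj α12 α12_mem a (hK.ind α12 α12_mem α112 α112_mem b15 _ e1 e2)
  · intro a b
    obtain ⟨w, hw, he⟩ := C.r2 a b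
    unfold Out.Graph.br
    rw [he, inv_mul_cancel_left]
    exact hI112.XW hw
  · intro w hw v hv
    have := h.cWW α2_mem α1_mem (by omega) b16 hw hv
    rwa [N_ls W b1 b2, b6, ← b6, b7, b6] at this
  · intro w hw y hy
    have hle : W α12 ⊔ W α112 ≤ centralizer ({y} : Set G) := sup_le
      (fun z hz => mem_centralizer_singleton_iff.2 (comm3 y hy α12 α12_mem (by omega) b14 z hz))
      (fun z hz => mem_centralizer_singleton_iff.2 (comm3 y hy α112 α112_mem (by rw [h.roots.symm]; exact b14)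
        (by omega) z hz))
    exact mem_centralizer_singleton_iff.1 (hle hw)
  · intro c hc
    obtain ⟨g, hg, hgs, hgx⟩ := sq_eq θ two C hθ hst (Units.mk0 c hc)
    exact ⟨g, (C.Ht g hg).symm, hgs, fun w hw => H_W h C hg α2_mem hw, fun w hw => H_W h C hg α112_mem hw, hgx⟩

theorem dual_L1 : ∀ m ∈ List.range 12, dual (en L1 (2 * m)) = en L1 (2 * m + 1) ∧
    dual (en L1 (2 * m + 1)) = en L1 (2 * m) := by decide +kernel

/-- an involution of graph type interchanges the pairs of `L1` -/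
theorem swap (h : CC.Hyp t B Phi X W) (C : Crd t x X W H) {s : G} (ss : s * s = 1) (hst : s * t = t * s)
    {θ : F →+* F} (hθ : Grf x s θ) : Swap s (fun i => W (en L1 i)) 12 := by
  have si : s⁻¹ = s := inv_eq_of_mul_eq_one_left ss
  have E := enm ok1
  refine ⟨ss, fun m hm w hw => ?_, fun m hm w hw => ?_⟩
  · have h1 := grf_W h C hst hθ (E.mem (2 * m) (by omega)) hw
    rwa [(dual_L1 m (List.mem_range.2 hm)).1, si] at h1
  · have h1 := grf_W h C hst hθ (E.mem (2 * m + 1) (by omega)) hw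
    rwa [(dual_L1 m (List.mem_range.2 hm)).2, si] at h1

theorem W2_eq {l : List (Fin 4 → ℤ)} (V : (Fin 4 → ℤ) → Subgroup G) (h0 : en l 0 = ρ) (h1 : en l 1 = σ) :
    Growth.W (fun i => V (en l i)) 2 = V ρ ⊔ V σ := by
  rw [Growth.W_succ, Growth.W_succ, Growth.W_zero, bot_sup_eq, h0, h1]

/-- `Z = X ρ X σ` -/
theorem card_Z (hK : KF t X) (C : Crd t x X W H) : Nat.card (X ρ ⊔ X σ : Subgroup G) ≤ Nat.card F ^ 2 := by
  have e : (0 : ℤ) ≤ B ρ σ := by decide +kernel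
  have hc := hK.X0 ρ Lead.ρ_mem σ Lead.σ_mem e
  have h1 : Nat.card (X ρ ⊔ X σ : Subgroup G) ≤ Nat.card (X ρ × X σ) := by
    refine Nat.card_le_card_of_surjective (fun z : X ρ × X σ =>
      (⟨z.1 * z.2, mul_mem (mem_sup_left z.1.2) (mem_sup_right z.2.2)⟩ : (X ρ ⊔ X σ : Subgroup G))) ?_
    rintro ⟨z, hz⟩
    obtain ⟨a, ha, b, hb, rfl⟩ := (mem_sup_of_comm hc).1 hz
    exact ⟨⟨⟨a, ha⟩, ⟨b, hb⟩⟩, rfl⟩
  rw [Nat.card_prod, C.card_X Lead.ρ_mem, C.card_X Lead.σ_mem, ← pow_two] at h1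
  exact h1

/-- (k1) -/
theorem k1 (hK : KF t X) (hD : Dir X) (C : Crd t x X W H) (hT : TG t T D (Ab X 0) x) {s : G} (hs : s ∈ D)
    (hs1 : s ≠ 1) (hst : s ≠ t) {c : G} (hc : c ∈ T)
    (hcc : ∀ a ∈ T, ∀ b ∈ T, c * (a * b * a⁻¹ * b⁻¹) = a * b * a⁻¹ * b⁻¹ * c) :
    c ∈ X ρ ⊔ X σ ∨ t * c ∈ X ρ ⊔ X σ := by
  refine Lead.k1 hK hD hT.UT hT.Tc (fun c hc h => hout hK C hT hc h) (hT.DT hs) ?_ hc hcc
  rcases hT.act s hs with ⟨φ, hφ⟩ | ⟨θ, hθ⟩
  · -- field type
    have hne : ∃ u, φ u ≠ u := by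
      by_contra hcon
      push Not at hcon
      rcases C.eq_of_fix (hT.Tc s (hT.DT hs)) (fun a ha u => by rw [hφ a ha, hcon u]) with h1 | h1
      · exact hs1 h1
      · exact hst h1
    obtain ⟨u, hu⟩ := hne
    left
    refine ⟨⟨x α3 u, C.mem _ Lead.α3_mem u, ?_, ?_⟩, x α0 u, C.mem _ Lead.α0_mem u, ?_, ?_⟩
    · rw [hφ _ Lead.α3_mem]; exact C.mem _ Lead.α3_mem _
    · rw [hφ _ Lead.α3_mem]; exact fun h => hu (C.xinj Lead.α3_mem h)
    · rw [hφ _ Lead.α0_mem]; exact C.mem _ Lead.α0_mem _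
    · rw [hφ _ Lead.α0_mem]; exact fun h => hu (C.xinj Lead.α0_mem h)
  · right
    have e : B α3 α3 = 4 ∧ dual α3 = α0 := by decide +kernel
    refine ⟨x α3 1, C.mem _ Lead.α3_mem 1, fun h => one_ne_zero (C.inj _ Lead.α3_mem 1 h), ?_⟩
    rw [(hθ _ Lead.α3_mem 1).1 e.1, e.2]
    exact C.mem _ Lead.α0_mem _

/-- **Graph type.** -/
theorem excl_grf (hK : KF t X) (h : CC.Hyp t B Phi X W) (hD : Dir X) (C : Crd t x X W H)
    (hT : TG t T D (Ab X 0) x) {s : G} (hs : s ∈ D) (ss : s * s = 1) (hs1 : s ≠ 1) (hs2 : s ≠ t) {θ : F →+* F}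
    (hθ : Grf x s θ) : ∃ v, (v = s ∨ v = t * s) ∧ NoConj (fr h hD C hT) v := by
  have hst := hT.Tc s (hT.DT hs)
  have Dg := dbl h hD (fun a ha => C.card_X ha) ok1
  have hW2 : Growth.W (fun i => W (en L1 i)) 2 = W ρ ⊔ W σ := W2_eq W (by decide +kernel) (by decide +kernel)
  have e22 : en L1 22 = α2 := by decide +kernel
  have e23 : en L1 23 = α1 := by decide +kernel
  have e21 : en L1 21 = α12 := by decide +kernel
  have e20 : en L1 20 = α112 := by decide +kernel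
  have P := gp hK h C ss hst hθ
  rw [← e22, ← e23, ← e21, ← e20] at P
  set q := Nat.card F with hq
  have hq2 : 2 ≤ q := by
    have : Nontrivial F := inferInstance
    exact Finite.one_lt_card
  have cW : ∀ a ∈ rts, Nat.card (W a) = q ^ 2 := fun a ha => by
    rw [card_W_eq h.tt (h.isW a ha), C.card_X ha]
  refine OutGraph.excl_graph (m := 10) (fr h hD C hT) Dg (W_eq ok1 W).symm (W_eq ok1 X).symm (swap h C ss hst hθ)
    (hT.DT hs) (fun h1 => hs1 (hT.DU s hs h1)) (fun h1 => hs2 ?_) P (X ρ ⊔ X σ) ?_ ?_ (fun z hz => k0' h hz) ?_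
    (fun c hc hcc => k1 hK hD C hT hs hs1 hs2 hc hcc) ?_ (Q := q ^ 2) ?_ ?_
  · have h2 := hT.DU _ (mul_mem hT.tD hs) h1
    calc s = t * (t * s) := by rw [← mul_assoc, h.tt, one_mul]
      _ = t := by rw [h2, mul_one]
  · rw [hW2]
    exact fun z hz w hw => central h hz hw
  · rw [hW2]
    exact fun z hz g => k0 hK h hD C hT (fun w hw => central h hz hw) g
  · rw [cW _ ((enm ok1).mem 0 (by norm_num))]
    exact card_Z hK C
  · intro c hc hcz
    exact hout hK C hT hc fun y hy => hcz y (mem_sup_left hy)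
  · intro i hi
    exact (cW _ ((enm ok1).mem i hi)).le
  · rw [card_U h hD (fun a ha => C.card_X ha), ← pow_mul]
    exact Nat.pow_lt_pow_right (by omega) (by norm_num)

/-! ### Field type -/

theorem lay (h : CC.Hyp t B Phi X W) (C : Crd t x X W H) {s : G} (hst : s * t = t * s) {φ : F →+* F}
    (hφ : Fld x s φ) {a : Fin 4 → ℤ} (ha : a ∈ rts) : Out.ZeroDiv.Lay t s φ (x a) (W a) where
  add := C.add a ha
  inj := C.inj a ha
  mem := fun u => (h.isW a ha).XW (C.mem a ha u)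
  sq := (h.isW a ha).sq
  conj_t := fun w hw => (h.isW a ha).conj_mem hw
  cent := fun w hw hwt => C.surj a ha w ((h.isW a ha).cent w hw hwt)
  tx := fun u => (h.isW a ha).tX _ (C.mem a ha u)
  brk := fun w hw => C.surj a ha _ ((h.isW a ha).brk w hw)
  surj := fun u => (h.isW a ha).surj _ (C.mem a ha u)
  sx := hφ a ha
  sW := fun w hw => fld_W h C hst hφ ha hw

theorem comm_L3 : ∀ i ∈ List.range 23, 0 ≤ B (en L3 i) ρ' := by decide +kernel

/-- **Field type.** -/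
theorem excl_fld (hK : KF t X) (h : CC.Hyp t B Phi X W) (hD : Dir X) (C : Crd t x X W H)
    (hT : TG t T D (Ab X 0) x) {s : G} (hs : s ∈ D) (ss : s * s = 1) (hs1 : s ≠ 1) (hs2 : s ≠ t) {φ : F →+* F}
    (hφ : Fld x s φ) : ∃ v, (v = s ∨ v = t * s) ∧ NoConj (fr h hD C hT) v := by
  have hst := hT.Tc s (hT.DT hs)
  have si : s⁻¹ = s := inv_eq_of_mul_eq_one_left ss
  have Dg := dbl h hD (fun a ha => C.card_X ha) ok3
  have E := enm ok3
  have e0 : en L3 0 = ρ := by decide +kernel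
  have e3 : en L3 3 = ρ' := by decide +kernel
  have e23 : en L3 23 = α3 := by decide +kernel
  have hW2 : Growth.W (fun i => W (en L3 i)) 2 = W ρ ⊔ W σ := W2_eq W e0 (by decide +kernel)
  set q := Nat.card F with hq
  have cW : ∀ a ∈ rts, Nat.card (W a) = q ^ 2 := fun a ha => by
    rw [card_W_eq h.tt (h.isW a ha), C.card_X ha]
  -- the automorphism
  have hφφ : ∀ a, φ (φ a) = a := by
    intro a
    have e1 : s * (s * x ρ a * s⁻¹) * s⁻¹ = x ρ a := by
      calc s * (s * x ρ a * s⁻¹) * s⁻¹ = (s * s) * x ρ a * (s⁻¹ * s⁻¹) := by group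
        _ = x ρ a := by rw [si, ss, one_mul, mul_one]
    rw [hφ ρ Lead.ρ_mem, hφ ρ Lead.ρ_mem] at e1
    exact C.xinj Lead.ρ_mem e1
  have hne : ∃ u, φ u ≠ u := by
    by_contra hcon
    push Not at hcon
    rcases C.eq_of_fix hst (fun a ha u => by rw [hφ a ha, hcon u]) with h1 | h1
    · exact hs1 h1
    · exact hs2 h1
  obtain ⟨w0, hw0⟩ := Out.ZeroDiv.exists_w0 φ hφφ hne
  have b : B ρ' ρ' = B α3 α3 ∧ B ρ' α3 < 0 ∧ ρ' ≠ -α3 ∧ ρ' + α3 = ρ ∧ 0 ≤ B ρ' ρ ∧ 0 ≤ B α3 ρ := by decide +kernel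
  obtain ⟨b1, b2, b3, b4, b5, b6⟩ := b
  have P : Out.ZeroDiv.Pair t s φ (x ρ') (x α3) (x ρ) (W ρ') (W α3) (W ρ) :=
    { tt := h.tt
      ss := ss
      st := hst
      l1 := lay h C hst hφ Lead.ρ'_mem
      l2 := lay h C hst hφ Lead.α3_mem
      l3 := lay h C hst hφ Lead.ρ_mem
      comm := by
        intro a ha c hc
        have := h.cWW Lead.ρ'_mem Lead.α3_mem b2 b3 ha hc
        rwa [N_same W b1, b4] at this
      c13 := fun a ha c hc => h.WW Lead.ρ'_mem Lead.ρ_mem b5 ha hc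
      c23 := fun a ha c hc => h.WW Lead.α3_mem Lead.ρ_mem b6 ha hc
      rel := C.r1
      torus := by
        intro l hl
        set L : Fˣ := Units.mk0 l hl with hL
        have hLv : (L : F) = l := rfl
        obtain ⟨g, hg, hgx⟩ := C.tor ![L, 1, L⁻¹, L]
        obtain ⟨g', hg', hgx'⟩ := C.tor ![L⁻¹, 1, L, 1]
        have c1 : ch ![L, 1, L⁻¹, L] ρ' = 1 := by
          rw [ch_ρ']; simp; field_simp
        have c2 : ch ![L, 1, L⁻¹, L] α3 = l := by rw [ch_α3]; simp [hL]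
        have c3 : ch ![L, 1, L⁻¹, L] ρ = l := by
          rw [ch_ρ]; simp [hL]; field_simp
        have c4 : ch ![L⁻¹, 1, L, 1] ρ' = l := by
          rw [ch_ρ']; simp [hL]; field_simp
        have c5 : ch ![L⁻¹, 1, L, 1] α3 = 1 := by rw [ch_α3]; simp
        have c6 : ch ![L⁻¹, 1, L, 1] ρ = l := by
          rw [ch_ρ]; simp [hL]; field_simp
        have fixW : ∀ g ∈ H, ∀ a ∈ rts, (∀ u, g * x a u * g⁻¹ = x a u) → ∀ w ∈ W a, g * w * g⁻¹ = w := by
          intro g hg a ha hga w hw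
          have h1 := C.HW g hg a ha (fun y hy => by
            obtain ⟨u, rfl⟩ := C.surj a ha y hy
            have h2 := hga u
            calc g * x a u = g * x a u * g⁻¹ * g := by group
              _ = x a u * g := by rw [h2]) w hw
          rw [h1, mul_inv_cancel_right]
        refine ⟨g, g', ?_, ?_, ?_, ?_, ?_⟩
        · exact fixW g hg ρ' Lead.ρ'_mem (fun u => by rw [hgx ρ' Lead.ρ'_mem, c1, one_mul])
        · intro a; rw [hgx α3 Lead.α3_mem, c2]
        · exact fixW g' hg' α3 Lead.α3_mem (fun u => by rw [hgx' α3 Lead.α3_mem, c5, one_mul])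
        · intro a; rw [hgx' ρ' Lead.ρ'_mem, c4]
        · intro w hw
          have h1 := fixW (g'⁻¹ * g) (mul_mem (inv_mem hg') hg) ρ Lead.ρ_mem (fun u => by
            calc g'⁻¹ * g * x ρ u * (g'⁻¹ * g)⁻¹ = g'⁻¹ * (g * x ρ u * g⁻¹) * g' := by group
              _ = g'⁻¹ * (g' * x ρ u * g'⁻¹) * g' := by rw [hgx ρ Lead.ρ_mem, hgx' ρ Lead.ρ_mem, c3, c6]
              _ = x ρ u := by group) w hw
          calc g * w * g⁻¹ = g' * (g'⁻¹ * g * w * (g'⁻¹ * g)⁻¹) * g'⁻¹ := by group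
            _ = g' * w * g'⁻¹ := by rw [h1] }
  rw [← e3, ← e23, ← e0] at P
  refine OutField.excl_field (n := 23) (j := 3) (fr h hD C hT) Dg (fun i hi => h.isW _ (E.mem i hi)) (by norm_num)
    (by norm_num) (W_eq ok3 W).symm (hT.DT hs) (fun h1 => hs1 (hT.DU s hs h1)) (fun h1 => hs2 ?_) hw0 P ?_ ?_ ?_
    (X ρ ⊔ X σ) ?_ ?_ (fun z hz => k0' h hz) ?_
    (fun c hc hcc => k1 hK hD C hT hs hs1 hs2 hc hcc) ?_ (q := q) ?_ ?_
  · have h2 := hT.DU _ (mul_mem hT.tD hs) h1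
    calc s = t * (t * s) := by rw [← mul_assoc, h.tt, one_mul]
      _ = t := by rw [h2, mul_one]
  · intro i hi w hw
    have := fld_W h C hst hφ (E.mem i hi) hw
    rwa [si] at this
  · intro i hi y hy hys
    have ha := E.mem i hi
    obtain ⟨u, rfl⟩ := C.surj _ ha y hy
    have h1 : φ u = u := by
      have h2 := hφ _ ha u
      rw [si, hys] at h2
      exact (C.xinj ha h2).symm
    refine ⟨x (en L3 i) (w0 * u), C.mem _ ha _, ?_⟩
    have h2 := hφ _ ha (w0 * u)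
    rw [si] at h2
    rw [h2, map_mul, h1]
    have h3 : (x (en L3 i) (w0 * u))⁻¹ = x (en L3 i) (w0 * u) :=
      inv_eq_of_mul_eq_one_left (by rw [← C.add _ ha, CharTwo.add_self_eq_zero, C.zero ha])
    rw [h3, ← C.add _ ha, ← add_mul, add_comm, hw0, one_mul]
  · intro i hi w hw z hz
    rw [e3] at hz
    exact h.WW (E.mem i (by omega)) Lead.ρ'_mem (comm_L3 i (List.mem_range.2 hi)) hw hz
  · rw [hW2]
    exact fun z hz w hw => central h hz hw
  · rw [hW2]
    exact fun z hz g => k0 hK h hD C hT (fun w hw => central h hz hw) g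
  · have h1 : Nat.card (Growth.W (fun i => W (en L3 i)) 2) = (q ^ 2) ^ 2 :=
      card_W (E.cmW h) (fun k hk => Out.Grow.disj Dg hk) (fun i hi => cW _ (E.mem i hi)) (by norm_num)
    rw [h1]
    exact Nat.pow_le_pow_left (card_Z hK C) 2
  · intro c hc hcz
    exact hout hK C hT hc fun y hy => hcz y (mem_sup_left hy)
  · exact (cW _ (E.mem 23 (by norm_num))).le
  · intro u hu hn
    exact Lead.many hK hD (fun a ha => (C.card_X ha).ge) hu hn

/-- **The pattern (C, C) with any outer 2-part.** -/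
theorem main (hK : KF t X) (h : CC.Hyp t B Phi X W) (hD : Dir X) (C : Crd t x X W H)
    (hT : TG t T D (Ab X 0) x) (htU : t ∉ Ab X 0) : t ∉ _root_.commutator G := by
  have hcard : ∀ a ∈ rts, Nat.card (X a) = Nat.card F := fun a ha => C.card_X ha
  refine end_of (fr h hD C hT) (fun h1 => htU ((mem_U_iff h hD hcard).2 ⟨h1, rfl⟩))
    (fun w hw hww => conj_t h hD hcard hw hww) (alt_of (fr h hD C hT) D hT.DT hT.fac hT.DU hT.tD hT.one ?_)
  intro s hs ss hs1 hs2
  rcases hT.act s hs with ⟨φ, hφ⟩ | ⟨θ, hθ⟩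
  · exact excl_fld hK h hD C hT hs ss hs1 hs2 hφ
  · exact excl_grf hK h hD C hT hs ss hs1 hs2 hθ

end main

end Cfsg.Agent.OddHalf.D7F4.CCOut

end
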