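import Cfsg.Agent.KFacts.F4Model
import Cfsg.Agent.OddHalf.D7F4.OutO
import Cfsg.Agent.OddHalf.D7F4.XG
import Cfsg.Agent.OddHalf.D7F4.Frame

-- merged: Cfsg.Agent.OddHalf.D7F4.KInd
section

/-!
# F4(q): the level sets are independent (S1765, node D7)

`ind_up`, `ind_up_dual` : a root group meets the product of the root groups of higher level trivially, for the functional
`lv` and for `lv ∘ dual`; `exists_other`, `not_mem_Up`: the remaining K-facts of `not_mem_short`, `not_mem_long`.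
-/

set_option autoImplicit false

namespace Cfsg.Agent.OddHalf.D7F4.KInd

open CoxeterSystem Cfsg.Agent.ChevalleyStructure.CoxeterGeom Cfsg.Agent.Tits.Roots Cfsg.Agent.Tits.Core
open Cfsg.Lie Cfsg.Agent.ChevalleyStructure Cfsg.Agent.ChevalleyStructure.CoxeterGeomTypes
open Cfsg.Agent.Nodes Cfsg.Agent.Nodes.Reps Cfsg.Agent.Nodes.BNOf Cfsg.Agent.Nodes.Unique Cfsg.Agent.Nodes.RGDChev
  Cfsg.Agent.Nodes.KindF Cfsg.Agent.KFacts.ChevTwo Cfsg.Agent.KFacts.ChevTwoTab Cfsg.Agent.KFacts.ChevTwoInst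
  Cfsg.Agent.KFacts.F4Star Cfsg.Agent.KFacts.F4Cent Cfsg.Agent.KFacts.F4Pair Cfsg.Agent.KFacts.F4Torus
  Cfsg.Agent.KFacts.F4Model Cfsg.Agent.KFacts.RgdInd
open Cfsg.Agent.OddHalf.D7F4.Model hiding add

theorem B_le : ∀ x ∈ rts, ∀ z ∈ rts, B x z ≤ B z z := by decide +kernel

theorem lv_smul (m : ℤ) (x : Fin 4 → ℤ) : lv (m • x) = m * lv x := by
  unfold lv; simp only [Pi.smul_apply, smul_eq_mul]; ring

theorem B_smul (m : ℤ) (x y : Fin 4 → ℤ) : B (m • x) y = m * B x y := by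
  unfold B; simp only [Pi.smul_apply, smul_eq_mul]; ring

/-- `lv` as a homomorphism -/
def lvh : (Fin 4 → ℤ) →+ ℤ where
  toFun := lv
  map_zero' := by decide
  map_add' := lv_add

/-- `lv ∘ tau` -/
def lvt (x : Fin 4 → ℤ) : ℤ := lv (tau x)

theorem lvt_add (x y : Fin 4 → ℤ) : lvt (x + y) = lvt x + lvt y := by
  simp only [lvt, lv, tau, Pi.add_apply]
  simp
  ring

theorem lvt_smul (m : ℤ) (x : Fin 4 → ℤ) : lvt (m • x) = m * lvt x := by
  simp only [lvt, lv, tau, Pi.smul_apply, smul_eq_mul]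
  simp
  ring

/-- `lv ∘ tau` as a homomorphism -/
def lvth : (Fin 4 → ℤ) →+ ℤ where
  toFun := lvt
  map_zero' := by decide
  map_add' := lvt_add

theorem lvt_eq : ∀ x ∈ rts, 2 * lvt x = B x x * lv (dual x) := by decide +kernel

theorem closed_lv (k : ℤ) (hk : 0 ≤ k) : Closed cF isType.isCartan {x | x ∈ Phi ∧ k < lv x} := by
  rintro x ⟨hx, hkx⟩ y ⟨hy, hky⟩ z ⟨hz, m, a, b, hm, ha, hb, he⟩
  have hz' : z ∈ Phi := (phi_iff cF z).2 hz
  refine ⟨hz', ?_⟩
  have e1 : m * B z z = a * B x z + b * B y z := by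
    rw [← B_smul, he, B_add, B_smul, B_smul]
  have e2 : m * lv z = a * lv x + b * lv y := by
    rw [← lv_smul, he, lv_add, lv_smul, lv_smul]
  have h1 := B_le x hx z hz'
  have h2 := B_le y hy z hz'
  have h3 : 0 < B z z := by rcases norm z hz' with h | h <;> omega
  have h4 : m ≤ a + b := by
    by_contra hlt
    push Not at hlt
    nlinarith
  have h5 : m * k < m * lv z := by nlinarith
  exact lt_of_mul_lt_mul_left h5 hm.le

theorem closed_dual (k : ℤ) (hk : 0 ≤ k) : Closed cF isType.isCartan {x | x ∈ Phi ∧ k < lv (dual x)} := by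
  rintro x ⟨hx, hkx⟩ y ⟨hy, hky⟩ z ⟨hz, m, a, b, hm, ha, hb, he⟩
  have hz' : z ∈ Phi := (phi_iff cF z).2 hz
  refine ⟨hz', ?_⟩
  have e1 : m * B z z = a * B x z + b * B y z := by
    rw [← B_smul, he, B_add, B_smul, B_smul]
  have e2 : m * lvt z = a * lvt x + b * lvt y := by
    rw [← lvt_smul, he, lvt_add, lvt_smul, lvt_smul]
  have f1 := lvt_eq x hx
  have f2 := lvt_eq y hy
  have f3 := lvt_eq z hz'
  have h1 : B x z ≤ B x x := by rw [B_symm]; exact B_le z hz' x hx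
  have h2 : B y z ≤ B y y := by rw [B_symm]; exact B_le z hz' y hy
  have h3 : 0 < B z z := by rcases norm z hz' with h | h <;> omega
  have h4 : 0 < B x x := by rcases norm x hx with h | h <;> omega
  have h5 : 0 < B y y := by rcases norm y hy with h | h <;> omega
  have h6 : m * B z z ≤ a * B x x + b * B y y := by
    rw [e1]
    exact add_le_add (mul_le_mul_of_nonneg_left h1 ha.le) (mul_le_mul_of_nonneg_left h2 hb.le)
  have h7 : (m * B z z) * lv (dual z) = a * B x x * lv (dual x) + b * B y y * lv (dual y) := by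
    calc (m * B z z) * lv (dual z) = m * (2 * lvt z) := by rw [f3]; ring
      _ = a * (2 * lvt x) + b * (2 * lvt y) := by linear_combination 2 * e2
      _ = _ := by rw [f1, f2]; ring
  have h8 : 0 < a * B x x := mul_pos ha h4
  have h9 : 0 < b * B y y := mul_pos hb h5
  have h10 : 0 < m * B z z := mul_pos hm h3
  have h11 : (m * B z z) * k < (m * B z z) * lv (dual z) := by
    rw [h7]
    have g1 : a * B x x * k < a * B x x * lv (dual x) := mul_lt_mul_of_pos_left hkx h8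
    have g2 : b * B y y * k < b * B y y * lv (dual y) := mul_lt_mul_of_pos_left hky h9
    nlinarith
  exact lt_of_mul_lt_mul_left h11 h10.le

universe u

variable {F : Type u} [Field F] [Finite F] [CharP F 2]

theorem ind_of (f : (Fin 4 → ℤ) →+ ℤ) {S : Set (Fin 4 → ℤ)} (hS : ∀ x ∈ S, x ∈ Phi ∧ 0 < f x)
    (hc : Closed cF isType.isCartan S) {a : Fin 4 → ℤ} (ha : a ∈ Phi) (hfa : 0 < f a) (haS : a ∉ S) :
    ∀ x ∈ XF F a, x ∈ RGD.Sup (XF F) S → x = 1 := by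
  have := finW
  have : Fact (Nat.Prime 2) := ⟨Nat.prime_two⟩
  intro x hx hx'
  have h1 := inf_eq_of_pos (rgd (K := F) isType cF 2) f (S := {a}) (S' := S)
    (by intro w hw; rw [Set.mem_singleton_iff] at hw; rw [hw]; exact ⟨(phi_iff cF a).1 ha, hfa⟩)
    (fun w hw => ⟨(phi_iff cF w).1 (hS w hw).1, (hS w hw).2⟩)
    (closed_singleton ((phi_iff cF a).1 ha)) hc
  have h2 : x ∈ RGD.Sup (XF F) {a} ⊓ RGD.Sup (XF F) S :=
    Subgroup.mem_inf.2 ⟨RGD.le_Sup (S := {a}) rfl hx, hx'⟩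
  rw [h1] at h2
  have h3 : ({a} ∩ S : Set (Fin 4 → ℤ)) = ∅ := by
    ext w
    simp only [Set.mem_inter_iff, Set.mem_singleton_iff, Set.mem_empty_iff_false, iff_false]
    rintro ⟨rfl, h4⟩
    exact haS h4
  rw [h3] at h2
  exact Subgroup.mem_bot.1 ((RGD.Sup_le fun z hz => absurd hz (Set.notMem_empty z) : RGD.Sup (XF F) ∅ ≤ ⊥) h2)

theorem ind_up : ∀ a ∈ rts, 0 < lv a → ∀ x ∈ XF F a,
    x ∈ (⨆ b : Fin 4 → ℤ, ⨆ _ : b ∈ Phi ∧ lv a < lv b, XF F b) → x = 1 := by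
  intro a ha h0 x hx hx'
  refine ind_of lvh (S := {x | x ∈ Phi ∧ lv a < lv x}) (fun w hw => ⟨hw.1, lt_trans h0 hw.2⟩)
    (closed_lv _ h0.le) ha h0 (fun h => lt_irrefl _ h.2) x hx ?_
  have hle : (⨆ b : Fin 4 → ℤ, ⨆ _ : b ∈ Phi ∧ lv a < lv b, XF F b) ≤ RGD.Sup (XF F) {x | x ∈ Phi ∧ lv a < lv x} :=
    iSup₂_le fun b hb => RGD.le_Sup (S := {x | x ∈ Phi ∧ lv a < lv x}) hb
  exact hle hx'

theorem dual_pos : ∀ a ∈ rts, 0 < lv (dual a) → 0 < lvt a := by decide +kernel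

theorem ind_up_dual : ∀ a ∈ rts, 0 < lv a → ∀ x ∈ XF F (dual a),
    x ∈ (⨆ b : Fin 4 → ℤ, ⨆ _ : b ∈ Phi ∧ lv a < lv b, XF F (dual b)) → x = 1 := by
  intro a ha h0 x hx hx'
  have hda := dual_dual a ha
  refine ind_of lvth (S := {x | x ∈ Phi ∧ lv a < lv (dual x)})
    (fun w hw => ⟨hw.1, dual_pos w hw.1 (lt_trans h0 hw.2)⟩)
    (closed_dual _ h0.le) (dual_mem a ha) (dual_pos _ (dual_mem a ha) (by rw [hda]; exact h0))
    (fun h => by have := h.2; rw [hda] at this; exact lt_irrefl _ this) x hx ?_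
  have hle : (⨆ b : Fin 4 → ℤ, ⨆ _ : b ∈ Phi ∧ lv a < lv b, XF F (dual b)) ≤
      RGD.Sup (XF F) {x | x ∈ Phi ∧ lv a < lv (dual x)} :=
    iSup₂_le fun b hb => RGD.le_Sup (S := {x | x ∈ Phi ∧ lv a < lv (dual x)})
      ⟨dual_mem b hb.1, by rw [dual_dual b hb.1]; exact hb.2⟩
  exact hle hx'

/-- `|F| > 2` -/
theorem exists_other (h2 : ∃ c : F, c ≠ 0 ∧ c ≠ 1) : ∀ s ∈ rts, ∀ x ∈ XF F s, ∃ y ∈ XF F s, y ≠ 1 ∧ y ≠ x := by
  intro s hs x hx
  obtain ⟨u, rfl⟩ := (mem_X hs).1 hx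
  obtain ⟨c, hc0, hc1⟩ := h2
  have D := dat (K := F)
  have hinj : ∀ v w : F, eF F s v = eF F s w → v = w := by
    intro v w h
    exact D.injective ((phi_iff cF s).1 hs) h
  by_cases hu : u = 1
  · refine ⟨eF F s c, (mem_X hs).2 ⟨c, rfl⟩, fun h => hc0 (e_eq_one hs h), fun h => hc1 ?_⟩
    rw [hinj _ _ h, hu]
  · refine ⟨eF F s 1, (mem_X hs).2 ⟨1, rfl⟩, fun h => one_ne_zero (e_eq_one hs h), fun h => hu ?_⟩
    exact (hinj _ _ h).symm

end Cfsg.Agent.OddHalf.D7F4.KInd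

end

-- merged: Cfsg.Agent.OddHalf.D7F4.TDField
section

/-!
# K = F4(q): the Sylow 2-subgroup of `C_G(t)` with outer part of field type (S1765, node D7)

`T = ⟨t, g⟩ U`, `g` acts on the root groups by a field automorphism: `g x_a(c) g⁻¹ = x_a(φ c)`. `TD.of_field` is the
structure `TD` of `OutO`.

* `card_fix_sq_le` : an automorphism `φ ≠ 1` of a finite field `F` fixes at most `√|F|` elements.
-/

set_option autoImplicit false

namespace Cfsg.Agent.OddHalf.D7F4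

open Subgroup

/-- `|Fix φ|² ≤ |F|` -/
theorem card_fix_sq_le {F : Type*} [Field F] [Finite F] (φ : F ≃+* F) {a : F} (ha : φ a ≠ a) :
    Nat.card {c : F // φ c = c} ^ 2 ≤ Nat.card F := by
  rw [pow_two, ← Nat.card_prod]
  refine Nat.card_le_card_of_injective (fun z : {c : F // φ c = c} × {c : F // φ c = c} => (z.1 : F) + a * z.2) ?_
  rintro ⟨⟨x, hx⟩, ⟨y, hy⟩⟩ ⟨⟨x', hx'⟩, ⟨y', hy'⟩⟩ h
  have h1 : x + a * y = x' + a * y' := h
  have h2 : a * (y - y') = x' - x := by linear_combination h1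
  have h3 : y = y' := by
    by_contra hne
    apply ha
    have h4 : y - y' ≠ 0 := sub_ne_zero.2 hne
    have h5 : φ a * (y - y') = x' - x := by
      have := congrArg φ h2
      rwa [map_mul, map_sub, map_sub, hx, hx', hy, hy'] at this
    exact mul_right_cancel₀ h4 (h5.trans h2.symm)
  subst h3
  have h4 : x = x' := add_right_cancel h1
  subst h4
  rfl

section

variable {L G F : Type*} [Group G] [Field F] [Finite F]

/-- **The structure `TD` for an outer part of field type.** -/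
theorem TD.of_field {t g : G} {T : Subgroup G} {Φ : Set L} {lv : L → ℤ} {X : L → Subgroup G} (e : L → F → G)
    (tt : t * t = 1)
    (heX : ∀ a ∈ Φ, ∀ x, x ∈ X a ↔ ∃ c, x = e a c) (heI : ∀ a ∈ Φ, Function.Injective (e a))
    (te : ∀ a ∈ Φ, ∀ c, t * e a c = e a c * t)
    (hcK : ∀ y : G, y * t = t * y → (∀ a ∈ Φ, ∀ c, y * e a c = e a c * y) → y = 1 ∨ y = t)
    (T2 : IsPGroup 2 T) (tT : t ∈ T) (Tc : ∀ d ∈ T, d * t = t * d)
    (Tmax : ∀ P : Subgroup G, IsPGroup 2 P → T ≤ P → (∀ x ∈ P, x * t = t * x) → P ≤ T)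
    (UT : Up Φ lv X ≤ T) (gT : g ∈ T) (φ : F ≃+* F) (hg : ∀ a ∈ Φ, ∀ c, g * e a c * g⁻¹ = e a (φ c))
    (hfac : ∀ x ∈ T, ∃ y ∈ closure ({t, g} : Set G), ∃ u ∈ Up Φ lv X, x = y * u) :
    TD t T (closure ({t, g} : Set G)) (Up Φ lv X) Φ lv X := by
  have ti : t⁻¹ = t := inv_eq_of_mul_eq_one_left tt
  -- the elements of `D` act by field automorphisms
  let E : Subgroup G :=
    { carrier := {y | ∃ ψ : F ≃+* F, ∀ a ∈ Φ, ∀ c, y * e a c * y⁻¹ = e a (ψ c)}
      one_mem' := ⟨RingEquiv.refl F, fun a _ c => by rw [one_mul, inv_one, mul_one]; rfl⟩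
      mul_mem' := by
        rintro y z ⟨ψ, hy⟩ ⟨χ, hz⟩
        refine ⟨χ.trans ψ, fun a ha c => ?_⟩
        calc y * z * e a c * (y * z)⁻¹ = y * (z * e a c * z⁻¹) * y⁻¹ := by group
          _ = e a (ψ (χ c)) := by rw [hz a ha, hy a ha]
      inv_mem' := by
        rintro y ⟨ψ, hy⟩
        refine ⟨ψ.symm, fun a ha c => ?_⟩
        have h1 := hy a ha (ψ.symm c)
        rw [RingEquiv.apply_symm_apply] at h1
        rw [← h1]; group }
  have hDE : closure ({t, g} : Set G) ≤ E := by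
    rw [closure_le]
    rintro y (rfl | rfl)
    · exact ⟨RingEquiv.refl F, fun a ha c => by rw [te a ha, mul_inv_cancel_right]; rfl⟩
    · exact ⟨φ, hg⟩
  have hDT : closure ({t, g} : Set G) ≤ T := by
    rw [closure_le]
    rintro y (rfl | rfl)
    · exact tT
    · exact gT
  have DX : ∀ y ∈ closure ({t, g} : Set G), ∀ a ∈ Φ, ∀ x ∈ X a, y * x * y⁻¹ ∈ X a := by
    intro y hy a ha x hx
    obtain ⟨ψ, hψ⟩ := hDE hy
    obtain ⟨c, rfl⟩ := (heX a ha x).1 hx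
    rw [hψ a ha]
    exact (heX a ha _).2 ⟨_, rfl⟩
  have DU : ∀ y ∈ closure ({t, g} : Set G), ∀ x ∈ Up Φ lv X, y * x * y⁻¹ ∈ Up Φ lv X := by
    intro y hy x hx
    have h2 : Up Φ lv X ≤ (Up Φ lv X).comap (MulAut.conj y).toMonoidHom := by
      refine iSup₂_le fun a ha v hv => ?_
      exact (le_iSup₂_of_le (f := fun a (_ : a ∈ Φ ∧ 0 < lv a) => X a) a ha le_rfl) (DX y hy a ha.1 v hv)
    exact h2 hx
  have hgt : g * t = t * g := Tc g gT
  have hDab : ∀ y ∈ closure ({t, g} : Set G), ∀ z ∈ closure ({t, g} : Set G), y * z = z * y := by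
    have h1 : closure ({t, g} : Set G) ≤ centralizer ({t, g} : Set G) := by
      rw [closure_le]
      rintro y hy
      rw [SetLike.mem_coe, mem_centralizer_iff]
      rintro z hz
      rcases hy with rfl | rfl <;> rcases hz with rfl | rfl
      · rfl
      · exact hgt
      · exact hgt.symm
      · rfl
    intro y hy z hz
    exact mem_centralizer_iff.1 (closure_le_centralizer_centralizer _ hz) y (h1 hy)
  refine { T2 := T2, tT := tT, Tc := Tc, Tmax := Tmax, UT := UT, ab := ?_, DT := hDT, fac := hfac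
           DX := fun y hy a ha _ => DX y hy a ha, fix := ?_ }
  · intro a ha b hb
    obtain ⟨y, hy, u, hu, rfl⟩ := hfac a ha
    obtain ⟨z, hz, v, hv, rfl⟩ := hfac b hb
    have hyz := hDab y hy z hz
    have e1 : y * u * (z * v) * (y * u)⁻¹ * (z * v)⁻¹ =
        (y * u * y⁻¹) * ((y * z) * (v * u⁻¹) * (y * z)⁻¹) * (z * v⁻¹ * z⁻¹) := by
      calc y * u * (z * v) * (y * u)⁻¹ * (z * v)⁻¹ = (y * u * y⁻¹) * ((y * z) * (v * u⁻¹) * (y * z)⁻¹) *
            ((y * z) * y⁻¹ * v⁻¹ * z⁻¹) := by group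
        _ = _ := by rw [hyz, mul_inv_cancel_right]
    rw [e1]
    exact mul_mem (mul_mem (DU y hy u hu) (DU _ (mul_mem hy hz) _ (mul_mem hv (inv_mem hu)))) (DU z hz _ (inv_mem hv))
  · intro y hy _ hy1 hy2 a ha h0
    obtain ⟨ψ, hψ⟩ := hDE hy
    have hne : ∃ c, ψ c ≠ c := by
      by_contra hcon
      push Not at hcon
      rcases hcK y (Tc y (hDT hy)) (fun b hb c => by
        have h1 := hψ b hb c
        rw [hcon c] at h1
        exact mul_inv_eq_iff_eq_mul.1 h1) with h1 | h1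
      · exact hy1 (h1 ▸ one_mem _)
      · exact hy2 (by rw [h1, tt]; exact one_mem _)
    obtain ⟨c₀, hc₀⟩ := hne
    have h1 := card_fix_sq_le ψ hc₀
    have h2 : Nat.card (X a) = Nat.card F := by
      symm
      refine Nat.card_congr (Equiv.ofBijective (fun c => (⟨e a c, (heX a ha _).2 ⟨c, rfl⟩⟩ : X a)) ⟨?_, ?_⟩)
      · intro c d hcd
        exact heI a ha (congrArg Subtype.val hcd)
      · rintro ⟨x, hx⟩
        obtain ⟨c, rfl⟩ := (heX a ha x).1 hx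
        exact ⟨c, rfl⟩
    have h3 : Nat.card (X a ⊓ centralizer {y} : Subgroup G) ≤ Nat.card {c : F // ψ c = c} := by
      have key : ∀ x : (X a ⊓ centralizer {y} : Subgroup G), ∃ c : {c : F // ψ c = c}, (x : G) = e a c := by
        rintro ⟨x, hx1, hx2⟩
        obtain ⟨c, rfl⟩ := (heX a ha x).1 hx1
        refine ⟨⟨c, ?_⟩, rfl⟩
        apply heI a ha
        rw [← hψ a ha]
        have := mem_centralizer_singleton_iff.1 hx2
        rw [← this, mul_inv_cancel_right]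
      choose k hk using key
      refine Nat.card_le_card_of_injective k ?_
      intro x x' hxx
      apply Subtype.ext
      rw [hk x, hk x', hxx]
    rw [h2]
    exact (Nat.pow_le_pow_left h3 2).trans h1

end

end Cfsg.Agent.OddHalf.D7F4

end

-- merged: Cfsg.Agent.OddHalf.D7F4.RowO
section

/-!
# K = F4(q), q ≥ 4 even, exactly one of the two lengths is moved: the row (S1765, node D7)

`Frame t f`, `XG f a = f (X_a)`. From the K-facts `KF`, the doubled root groups `WS` / `WL` of the moved length, `NM` for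
the other length, and the Sylow 2-subgroup `T = ⟨t, g⟩ U` with `g` of field type: `t ∉ [G, G]`.
-/

set_option autoImplicit false

namespace Cfsg.Agent.OddHalf.D7F4

open CoxeterSystem Cfsg.Agent.ChevalleyStructure.CoxeterGeom Cfsg.Agent.Tits.Roots Cfsg.Agent.Tits.Core
open Cfsg.Lie Cfsg.Agent.ChevalleyStructure Cfsg.Agent.ChevalleyStructure.CoxeterGeomTypes
open Cfsg.Agent.Nodes Cfsg.Agent.Nodes.Reps Cfsg.Agent.Nodes.BNOf Cfsg.Agent.Nodes.Unique Cfsg.Agent.Nodes.RGDChev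
  Cfsg.Agent.Nodes.KindF Cfsg.Agent.KFacts.ChevTwo Cfsg.Agent.KFacts.ChevTwoTab Cfsg.Agent.KFacts.ChevTwoInst
  Cfsg.Agent.KFacts.F4Star Cfsg.Agent.KFacts.F4Cent Cfsg.Agent.KFacts.F4Pair Cfsg.Agent.KFacts.F4Torus
  Cfsg.Agent.KFacts.F4Model Cfsg.Agent.KFacts.RgdInd
open Cfsg.Agent.OddHalf.D7F4.Model hiding add

universe u

variable {G : Type*} [Group G] {F : Type u} [Field F] [Finite F] [CharP F 2] {t : G}

variable {f : ↥(chevF4.group F) →* G}

theorem mem_XG {a : Fin 4 → ℤ} (ha : a ∈ rts) {x : G} : x ∈ XG f a ↔ ∃ c, x = f (eF F a c) := by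
  constructor
  · rintro ⟨y, hy, rfl⟩
    obtain ⟨c, rfl⟩ := (mem_X ha).1 hy
    exact ⟨c, rfl⟩
  · rintro ⟨c, rfl⟩
    exact ⟨_, (mem_X ha).2 ⟨c, rfl⟩, rfl⟩

omit [Finite F] [CharP F 2] in
theorem up_eq : Up Phi lv (XG f) = (Up Phi lv (XF F)).map f := by
  unfold Up XG
  rw [Subgroup.map_iSup]
  congr 1
  funext a
  rw [Subgroup.map_iSup]

theorem XG_ind (hf : Function.Injective f) : ∀ a ∈ rts, 0 < lv a → ∀ x ∈ XG f a,
    x ∈ (⨆ b : Fin 4 → ℤ, ⨆ _ : b ∈ Phi ∧ lv a < lv b, XG f b) → x = 1 := by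
  rintro a ha h0 _ ⟨x, hx, rfl⟩ hx'
  have e : (⨆ b : Fin 4 → ℤ, ⨆ _ : b ∈ Phi ∧ lv a < lv b, XG f b) =
      (⨆ b : Fin 4 → ℤ, ⨆ _ : b ∈ Phi ∧ lv a < lv b, XF F b).map f := by
    unfold XG
    rw [Subgroup.map_iSup]
    congr 1
    funext b
    rw [Subgroup.map_iSup]
  rw [e] at hx'
  obtain ⟨y, hy, hyx⟩ := hx'
  rw [hf hyx] at hy
  rw [KInd.ind_up a ha h0 x hx hy, map_one]

theorem XG_ind_dual (hf : Function.Injective f) : ∀ a ∈ rts, 0 < lv a → ∀ x ∈ XG f (dual a),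
    x ∈ (⨆ b : Fin 4 → ℤ, ⨆ _ : b ∈ Phi ∧ lv a < lv b, XG f (dual b)) → x = 1 := by
  rintro a ha h0 _ ⟨x, hx, rfl⟩ hx'
  have e : (⨆ b : Fin 4 → ℤ, ⨆ _ : b ∈ Phi ∧ lv a < lv b, XG f (dual b)) =
      (⨆ b : Fin 4 → ℤ, ⨆ _ : b ∈ Phi ∧ lv a < lv b, XF F (dual b)).map f := by
    unfold XG
    rw [Subgroup.map_iSup]
    congr 1
    funext b
    rw [Subgroup.map_iSup]
  rw [e] at hx'
  obtain ⟨y, hy, hyx⟩ := hx'
  rw [hf hyx] at hy
  rw [KInd.ind_up_dual a ha h0 x hx hy, map_one]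

theorem XG_other (hf : Function.Injective f) (h2 : ∃ c : F, c ≠ 0 ∧ c ≠ 1) : ∀ s ∈ rts, ∀ x ∈ XG f s,
    ∃ y ∈ XG f s, y ≠ 1 ∧ y ≠ x := by
  rintro s hs _ ⟨x, hx, rfl⟩
  obtain ⟨y, hy, h1, h3⟩ := KInd.exists_other h2 s hs x hx
  refine ⟨f y, ⟨y, hy, rfl⟩, fun h => h1 (hf (by rw [h, map_one])), fun h => h3 (hf h)⟩

namespace Frame

/-- `t ∉ U` -/
theorem not_mem_up (R : Frame t f) : t ∉ Up Phi lv (XG f) := by
  rw [up_eq]
  rintro ⟨y, -, hy⟩
  exact R.not_mem_range (fun z hz => eq_one_of_comm cF (fun x _ u => hz _)) y hy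

/-- An element of `C(t)` centralising the root elements. -/
theorem eq_one_or (R : Frame t f) {y : G} (hy : y * t = t * y)
    (h : ∀ a ∈ rts, ∀ c, y * f (eF F a c) = f (eF F a c) * y) : y = 1 ∨ y = t := by
  refine R.cK y hy fun x => ?_
  have h2 : RGDLib.G1 cF isType.isCartan (XF F) ≤ (Subgroup.centralizer ({y} : Set G)).comap f := by
    refine RGD.Sup_le fun a ha v hv => ?_
    rw [Subgroup.mem_comap, Subgroup.mem_centralizer_singleton_iff]
    obtain ⟨u, rfl⟩ := (mem_X ((phi_iff cF a).2 ha)).1 hv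
    exact (h a ((phi_iff cF a).2 ha) u).symm
  have h3 : x ∈ (Subgroup.centralizer ({y} : Set G)).comap f := h2 (by
    rw [show RGDLib.G1 cF isType.isCartan (XF F) = ⊤ from G1_eq_top isType cF]; exact Subgroup.mem_top x)
  rw [Subgroup.mem_comap, Subgroup.mem_centralizer_singleton_iff] at h3
  exact h3.symm

/-- **The Sylow 2-subgroup of `C(t)` with outer part of field type.** -/
theorem td (R : Frame t f) {T : Subgroup G} (T2 : IsPGroup 2 T) (tT : t ∈ T) (Tc : ∀ d ∈ T, d * t = t * d)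
    (Tmax : ∀ P : Subgroup G, IsPGroup 2 P → T ≤ P → (∀ x ∈ P, x * t = t * x) → P ≤ T)
    (UT : Up Phi lv (XG f) ≤ T) {g : G} (gT : g ∈ T) (φ : F ≃+* F) (δ : (Fin 4 → ℤ) → F) (hδ : ∀ a ∈ rts, δ a ≠ 0)
    (hg : ∀ a ∈ rts, ∀ c, g * f (eF F a (δ a * c)) * g⁻¹ = f (eF F a (δ a * φ c)))
    (hfac : ∀ x ∈ T, ∃ y ∈ Subgroup.closure ({t, g} : Set G), ∃ u ∈ Up Phi lv (XG f), x = y * u) :
    TD t T (Subgroup.closure ({t, g} : Set G)) (Up Phi lv (XG f)) Phi lv (XG f) := by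
  have hs : ∀ a ∈ rts, ∀ c, eF F a c = eF F a (δ a * ((δ a)⁻¹ * c)) := by
    intro a ha c
    rw [mul_inv_cancel_left₀ (hδ a ha)]
  refine TD.of_field (fun a c => f (eF F a (δ a * c))) R.tt ?_ ?_ ?_ ?_ T2 tT Tc Tmax UT gT φ hg hfac
  · intro a ha x
    rw [mem_XG ha]
    constructor
    · rintro ⟨c, rfl⟩
      exact ⟨(δ a)⁻¹ * c, by rw [hs a ha c]⟩
    · rintro ⟨c, rfl⟩
      exact ⟨_, rfl⟩
  · intro a ha c c' h
    have h1 := (dat (K := F)).injective ((phi_iff cF a).1 ha) (R.inj h)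
    exact mul_left_cancel₀ (hδ a ha) h1
  · intro a _ c
    exact (R.ft _).symm
  · intro y hy h
    refine R.eq_one_or hy fun a ha c => ?_
    rw [hs a ha c]
    exact h a ha _

variable [Finite G]

/-- **Short moved, long not moved**: `t ∉ [G, G]`. -/
theorem not_mem_short (R : Frame t f) (h2 : ∃ c : F, c ≠ 0 ∧ c ≠ 1) (hK : KF t (XG f))
    {W : (Fin 4 → ℤ) → Subgroup G} (hW : WS t (XG f) W)
    (hNM : ∀ r ∈ rts, B r r = 4 → ∀ x ∈ XG f r, ∀ g : G, g⁻¹ * t * g = t * x → x = 1)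
    {T D : Subgroup G} (hT : TD t T D (Up Phi lv (XG f)) Phi lv (XG f))
    (hDW : ∀ y ∈ D, ∀ s ∈ rts, B s s = 2 → 0 < lv s → ∀ w ∈ W s, y * w * y⁻¹ ∈ W s) :
    t ∉ _root_.commutator G :=
  D7F4.not_mem_short hK hW hNM (XG_other R.inj h2) (XG_ind R.inj) R.not_mem_up hT hDW

/-- **Long moved, short not moved**: `t ∉ [G, G]`. -/
theorem not_mem_long (R : Frame t f) (h2 : ∃ c : F, c ≠ 0 ∧ c ≠ 1) (hK : KF t (XG f))
    {W : (Fin 4 → ℤ) → Subgroup G} (hW : WL t (XG f) W)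
    (hNM : ∀ r ∈ rts, B r r = 2 → ∀ x ∈ XG f r, ∀ g : G, g⁻¹ * t * g = t * x → x = 1)
    {T D : Subgroup G} (hT : TD t T D (Up Phi lv (XG f)) Phi lv (XG f))
    (hDW : ∀ y ∈ D, ∀ s ∈ rts, B s s = 4 → 0 < lv s → ∀ w ∈ W s, y * w * y⁻¹ ∈ W s) :
    t ∉ _root_.commutator G :=
  D7F4.not_mem_long hK hW hNM (XG_other R.inj h2) (XG_ind_dual R.inj) R.not_mem_up hT hDW

end Frame

end Cfsg.Agent.OddHalf.D7F4

end
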