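import Cfsg.Agent.OddHalf.D7F4.FrOut
import Cfsg.Agent.OddHalf.D7F4.CCOut
import Cfsg.Agent.OddHalf.D7F4.CC
import Cfsg.Agent.OddHalf.D7F4.CCModel
import Cfsg.Agent.OddHalf.D7F4.RowO
import Cfsg.Agent.OddHalf.D7F4Ex.Inst
import Cfsg.Agent.KFacts.RgdGraphF4
import Cfsg.Agent.Schreier.Chev
import Cfsg.Agent.OddHalf.Front.FE
import Cfsg.Agent.OddHalf.D7.Cases
import Cfsg.Agent.OddHalf.D7F4.KBridge
import Cfsg.Agent.KFacts.F4Aut
import Cfsg.Agent.KFacts.F4Model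
import Cfsg.Agent.KFacts.F4Torus
import Cfsg.Agent.OddHalf.D7F4Ex.KC
import Cfsg.Agent.OddHalf.D7F4.Frame
import Cfsg.Agent.OddHalf.D7F4.KFront
import Cfsg.Agent.OddHalf.D7F4.XG
import Cfsg.Agent.OddHalf.D7F4.Model
import Cfsg.Agent.OddHalf.D7F4.Dual
import Cfsg.Agent.OddHalf.D7F4.RowOne
import Cfsg.Agent.OddHalf.D7F4.KInst

-- merged: Cfsg.Agent.OddHalf.D7F4.FrTG
section

/-!
# `K = F₄(q)`, `q` even: the Sylow group `T` in the form of `CCOut.TG` (S1765, node D7)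
-/

set_option autoImplicit false
set_option Elab.async false

namespace Cfsg.Agent.OddHalf.D7F4.FrTG

open Cfsg.Lie Cfsg.Agent.ChevalleyStructure Cfsg.Agent.ChevalleyStructure.Elts
  Cfsg.Agent.KFacts.ChevTwoInst Cfsg.Agent.KFacts.F4Pair
open Cfsg.Agent.OddHalf.D7F4 Cfsg.Agent.OddHalf.D7F4.Model Cfsg.Agent.OddHalf.D7F4.KFront
  Cfsg.Agent.OddHalf.D7F4.Adapted Cfsg.Agent.OddHalf.D7F4.FrOut

universe u

variable {G : Type*} [Group G] [Finite G] {F : Type u} [Field F] [Finite F] [CharP F 2]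
  {f : ↥(chevF4.group F) →* G} {t g : G} {T : Subgroup G}

/-- **The group `T = D U`.** -/
theorem tg (O : FrO t f T g) : CCOut.TG t T O.D (Lead.Ab (XG f) 0) (fun a u => f (eF F a u)) where
  T2 := O.T2
  tD := O.t_mem_D
  Tc := O.Tc
  Tmax := O.Tmax
  UT := by rw [← FrO.map_UK]; exact O.UT
  ab := by rw [← FrO.map_UK]; exact O.ab
  DT := O.D_le
  fac := by rw [← FrO.map_UK]; exact O.fac
  DU := by rw [← FrO.map_UK]; exact fun e he h => O.disj he h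
  one := O.hone
  act := by
    intro y hy
    rcases O.acts_D hy with ⟨φ, hφ⟩ | ⟨φ, hφ⟩
    · exact Or.inl ⟨φ.toRingHom, fun a ha u => hφ a ha u⟩
    · refine Or.inr ⟨φ.toRingHom, fun a ha u => ⟨fun hB => hφ.1 a ha hB u, fun hB => ?_⟩⟩
      have h := hφ.2 a ha hB u
      rw [pow_two] at h
      exact h

end Cfsg.Agent.OddHalf.D7F4.FrTG

end

-- merged: Cfsg.Agent.OddHalf.D7F4.TypeCModel
section

/-!
# K = F4(q), `q ≥ 4`: if both lengths are moved, both are of type C (S1765, node D7; helper588)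

`KT t X H` : the K-facts, `H` a torus; `TorW` : the torus acts on the doubled root groups; `TyC`, `TyO` : the types of the
doubled root groups of one length.

* `wc` : `WS t X W`, `WL t X W`, `TorW t X W H`, one type for each length give `CCModel.WC t X W`;
* `comb` : two families `W₁` (short), `W₂` (long) as one family.
-/

set_option autoImplicit false

namespace Cfsg.Agent.OddHalf.D7F4.TypeCModel

open Model TypeC

/-- the highest short root -/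
abbrev sa : Fin 4 → ℤ := ![2, 3, 2, 1]
/-- short, orthogonal to `sa`, `sa + sb = la` -/
abbrev sb : Fin 4 → ℤ := ![0, 1, 1, 1]
/-- long, `sr + sa = sb` -/
abbrev sr : Fin 4 → ℤ := ![-2, -2, -1, 0]
/-- long, orthogonal to `sa`, `sb` -/
abbrev sd : Fin 4 → ℤ := ![0, 0, 1, 0]
/-- the highest root -/
abbrev la : Fin 4 → ℤ := ![2, 4, 3, 2]
/-- long, orthogonal to `la`, `la + lb = 2 sa` -/
abbrev lb : Fin 4 → ℤ := ![2, 2, 1, 0]
/-- short, `la + lr = sa` -/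
abbrev lr : Fin 4 → ℤ := ![0, -1, -1, -1]
/-- short, orthogonal to `la`, `lb` -/
abbrev ld : Fin 4 → ℤ := ![0, 1, 0, 0]
/-- short, orthogonal to `la` -/
abbrev oa : Fin 4 → ℤ := ![1, 0, 0, 0]
/-- short, `la + sd = 2 om` -/
abbrev om : Fin 4 → ℤ := ![1, 2, 2, 1]

/-- The K-facts. -/
structure KT {G : Type*} [Group G] (t : G) (X : (Fin 4 → ℤ) → Subgroup G) (H : Subgroup G) : Prop where
  c1s : ∀ k, k * t = t * k → (∀ a ∈ rts, 0 ≤ B a sa → 0 ≤ B a sb → ¬ (B a a = 4 ∧ B a sa = 0 ∧ B a sb = 0) →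
    ∀ x ∈ X a, k * x = x * k) → ∃ a ∈ X sa, ∃ b ∈ X sb, ∃ c ∈ X la, k = a * b * c ∨ k = t * (a * b * c)
  c1l : ∀ k, k * t = t * k → (∀ a ∈ rts, 0 ≤ B a la → 0 ≤ B a lb → ¬ (B a a = 2 ∧ B a la = 0 ∧ B a lb = 0) →
    ∀ x ∈ X a, k * x = x * k) → ∃ a ∈ X la, ∃ b ∈ X lb, ∃ c ∈ X sa, k = a * b * c ∨ k = t * (a * b * c)
  c2 : ∃ h ∈ H, (∀ x ∈ X oa, h * x = x * h) ∧ (∀ x ∈ X la, h * x = x * h) ∧ ∀ k, k * t = t * k → k * h = h * k →
    (∀ f ∈ rts, (B f f = 4 ∧ 0 ≤ B f oa ∧ 0 < B f la ∨ B f f = 2 ∧ 0 < B f oa ∧ 0 ≤ B f la) →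
      ∀ x ∈ X f, k * x = x * k) → ∃ a ∈ X oa, ∃ b ∈ X la, k = a * b ∨ k = t * (a * b)
  nds : ∀ x ∈ X sr, ∀ y ∈ X sa, ∃ z ∈ X sb, ∃ w ∈ X la, x * y * x⁻¹ * y⁻¹ = z * w ∧ (w = 1 → x = 1 ∨ y = 1)
  ndl : ∀ x ∈ X la, ∀ y ∈ X lr, ∃ z ∈ X sa, ∃ w ∈ X lb, x * y * x⁻¹ * y⁻¹ = z * w ∧ (z = 1 → x = 1 ∨ y = 1)
  Ht : ∀ h ∈ H, t * h = h * t
  tor : ∀ a ∈ rts, ∀ b ∈ rts, a ≠ b → a ≠ -b → ∃ h ∈ H, (∀ x ∈ X a, h * x = x * h) ∧
    ∀ x ∈ X b, h * x = x * h → x = 1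

/-- The torus acts on the doubled root groups. -/
structure TorW {G : Type*} [Group G] (X W : (Fin 4 → ℤ) → Subgroup G) (H : Subgroup G) : Prop where
  HW : ∀ h ∈ H, ∀ a ∈ rts, ∀ w ∈ W a, h * w * h⁻¹ ∈ W a
  HX : ∀ h ∈ H, ∀ a ∈ rts, (∀ x ∈ X a, h * x = x * h) → ∀ w ∈ W a, h * w = w * h

/-- The doubled root groups of norm `n` are of type C. -/
def TyC {G : Type*} [Group G] (X W : (Fin 4 → ℤ) → Subgroup G) (n : ℤ) : Prop :=
  ∀ a ∈ rts, ∀ d ∈ rts, B a a = n → B d d = n → B a d = 0 → ∀ w ∈ W a, ∀ x ∈ X d, w * x = x * w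

/-- The doubled root groups of norm `n` are of type O. -/
def TyO {G : Type*} [Group G] (X W : (Fin 4 → ℤ) → Subgroup G) (n : ℤ) : Prop :=
  ∀ a ∈ rts, ∀ d ∈ rts, B a a = n → B d d = n → B a d = 0 → ∀ w ∈ W a, w ∉ X a → ∀ x ∈ X d, x ≠ 1 → w * x ≠ x * w

/-- The doubled root groups of all roots. -/
structure WB {G : Type*} [Group G] (t : G) (X W : (Fin 4 → ℤ) → Subgroup G) : Prop where
  isW : ∀ a ∈ rts, IsW t (X a) (W a)
  WXd : ∀ a ∈ rts, ∀ d ∈ rts, B a a ≠ B d d → 0 ≤ B a d → ∀ w ∈ W a, ∀ x ∈ X d, w * x = x * w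
  WXs : ∀ a ∈ rts, ∀ d ∈ rts, B a a = B d d → 0 < B a d → ∀ w ∈ W a, ∀ x ∈ X d, w * x = x * w

section

variable {G : Type*} [Group G] {t : G} {X W : (Fin 4 → ℤ) → Subgroup G} {H : Subgroup G}

theorem wb (hK : KF t X) (hS : WS t X W) (hL : WL t X W) : WB t X W where
  isW a ha := by
    rcases norm a ha with h | h
    · exact ⟨fun x hx => hK.tX a ha x hx, hS.XW a ha h, hS.Wsq a ha h, hS.brk a ha h, hS.cent a ha h, hS.surj a ha h⟩
    · exact ⟨fun x hx => hK.tX a ha x hx, hL.XW a ha h, hL.Wsq a ha h, hL.brk a ha h, hL.cent a ha h, hL.surj a ha h⟩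
  WXd a ha d hd h1 h2 := by
    have h3 := B_symm a d
    rcases norm a ha with h | h <;> rcases norm d hd with h' | h'
    · omega
    · exact hS.WX a ha h d hd (Or.inl ⟨h', by omega⟩)
    · exact hL.WX a ha h d hd (Or.inl ⟨h', by omega⟩)
    · omega
  WXs a ha d hd h1 h2 := by
    have h3 := B_symm a d
    rcases norm a ha with h | h <;> rcases norm d hd with h' | h'
    · exact hS.WX a ha h d hd (Or.inr ⟨h', by omega⟩)
    · omega
    · omega
    · exact hL.WX a ha h d hd (Or.inr ⟨h', by omega⟩)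

/-! ### Root combinatorics -/

theorem m_sa : sa ∈ rts := by decide +kernel
theorem m_sb : sb ∈ rts := by decide +kernel
theorem m_sr : sr ∈ rts := by decide +kernel
theorem m_sd : sd ∈ rts := by decide +kernel
theorem m_la : la ∈ rts := by decide +kernel
theorem m_lb : lb ∈ rts := by decide +kernel
theorem m_lr : lr ∈ rts := by decide +kernel
theorem m_ld : ld ∈ rts := by decide +kernel
theorem m_oa : oa ∈ rts := by decide +kernel
theorem m_om : om ∈ rts := by decide +kernel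

/-- the families of `false_of_C_O` -/
theorem fam_s : ∀ a ∈ rts, 0 ≤ B a sa → 0 ≤ B a sb → ¬ (B a a = 4 ∧ B a sa = 0 ∧ B a sb = 0) →
    (B la la = B a a → 0 < B la a) ∧ 0 ≤ B la a ∧ (0 ≤ B sr a ∨ (B a a = 4 ∧ B sr a < 0 ∧ sr ≠ -a ∧ sr + a ∈ rts ∧
      0 ≤ B sa (sr + a) ∧ B (sr + a) (sr + a) = 4) ∨ a = sa) := by decide +kernel
theorem fam_l : ∀ a ∈ rts, 0 ≤ B a la → 0 ≤ B a lb → ¬ (B a a = 2 ∧ B a la = 0 ∧ B a lb = 0) →
    (B sa sa = B a a → 0 < B sa a) ∧ 0 ≤ B sa a ∧ (0 ≤ B lr a ∨ (B a a = 2 ∧ B lr a < 0 ∧ lr ≠ -a ∧ lr + a ∈ rts ∧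
      0 ≤ B la (lr + a) ∧ B (lr + a) (lr + a) = 2) ∨ a = la) := by decide +kernel
theorem fam_o : ∀ f ∈ rts, (B f f = 4 ∧ 0 ≤ B f oa ∧ 0 < B f la ∨ B f f = 2 ∧ 0 < B f oa ∧ 0 ≤ B f la) →
    (B f f = 4 ∧ 0 ≤ B oa f ∧ 0 < B la f ∨ B f f = 2 ∧ 0 < B oa f ∧ 0 ≤ B la f) := by decide +kernel

/-- `W a` commutes with `X d`, `B a d ≥ 0`, type C -/
theorem WB.all (hW : WB t X W) {a : Fin 4 → ℤ} (ha : a ∈ rts) (hC : TyC X W (B a a)) {d : Fin 4 → ℤ} (hd : d ∈ rts)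
    (h : 0 ≤ B a d) {w x : G} (hw : w ∈ W a) (hx : x ∈ X d) : w * x = x * w := by
  by_cases h1 : B a a = B d d
  · rcases h.lt_or_eq with h2 | h2
    · exact hW.WXs a ha d hd h1 h2 w hw x hx
    · exact hC a ha d hd rfl h1.symm h2.symm w hw x hx
  · exact hW.WXd a ha d hd h1 h w hw x hx

theorem WB.mix (hW : WB t X W) {a : Fin 4 → ℤ} (ha : a ∈ rts) {d : Fin 4 → ℤ} (hd : d ∈ rts)
    (h : 0 ≤ B a d) (h' : B a a = B d d → 0 < B a d) {w x : G} (hw : w ∈ W a) (hx : x ∈ X d) : w * x = x * w := by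
  by_cases h1 : B a a = B d d
  · exact hW.WXs a ha d hd h1 (h' h1) w hw x hx
  · exact hW.WXd a ha d hd h1 h w hw x hx

theorem TyO.mem {n : ℤ} (hO : TyO X W n) (hK : KF t X) {a d : Fin 4 → ℤ} (ha : a ∈ rts) (hd : d ∈ rts) (h1 : B a a = n)
    (h2 : B d d = n) (h3 : B a d = 0) {w : G} (hw : w ∈ W a) (hc : ∀ x ∈ X d, w * x = x * w) : w ∈ X a := by
  by_contra h
  obtain ⟨x, hx, hx1⟩ := hK.Xne d hd
  exact hO a ha d hd h1 h2 h3 w hw h x hx hx1 (hc x hx)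

/-- **Type C for the short roots, type O for the long roots: impossible.** -/
theorem false_C_O (hK : KF t X) (hT : KT t X H) (hW : WB t X W) (hC : TyC X W 2) (hO : TyO X W 4) : False := by
  have cs : ∀ d ∈ rts, 0 ≤ B sa d → ∀ w ∈ W sa, ∀ x ∈ X d, w * x = x * w := fun d hd h w hw x hx =>
    hW.all m_sa hC hd h hw hx
  have cs1 : ∀ d ∈ rts, 0 ≤ B sb d → ∀ w ∈ W sb, ∀ x ∈ X d, w * x = x * w := fun d hd h w hw x hx =>
    hW.all m_sb hC hd h hw hx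
  refine false_of_C_O (Xs := X sa) (Xs1 := X sb) (Xr := X sr) (Xp := X la) (Xd := X sd) hK.tt (hW.isW sa m_sa)
    (hW.isW sb m_sb) (hW.isW la m_la) (hK.tX sr m_sr) (hK.Xne sa m_sa) (hK.Xne sr m_sr)
    (cs la m_la (by decide)) (cs1 la m_la (by decide)) (cs1 sa m_sa (by decide)) ?_ (hK.tX sd m_sd)
    (cs sd m_sd (by decide)) (cs1 sd m_sd (by decide)) (hK.X0 la m_la sd m_sd (by decide))
    (hK.X0 sr m_sr sd m_sd (by decide))
    (fun z hz hc => hO.mem hK m_la m_sd (by decide) (by decide) (by decide) hz hc)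
    {v | ∃ a ∈ rts, 0 ≤ B a sa ∧ 0 ≤ B a sb ∧ ¬ (B a a = 4 ∧ B a sa = 0 ∧ B a sb = 0) ∧ v ∈ X a} ?_ ?_ ?_ ?_ ?_
  · intro u hu x hx
    obtain ⟨z, hz, w, hw, e, hw1⟩ := hT.nds x⁻¹ (inv_mem hx) u hu
    refine ⟨z, hz, w, hw, ?_, fun h1 h2 h3 => ?_⟩
    · have e1 : u * z = z * u := hK.X0 sa m_sa sb m_sb (by decide) u hu z hz
      have e2 : u * w = w * u := hK.X0 sa m_sa la m_la (by decide) u hu w hw
      calc x⁻¹ * u * x = x⁻¹ * u * x⁻¹⁻¹ * u⁻¹ * u := by group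
        _ = z * w * u := by rw [e]
        _ = z * (w * u) := by group
        _ = z * u * w := by rw [← e2]; group
        _ = u * z * w := by rw [e1]
    · rcases hw1 h3 with h4 | h4
      · exact h2 (inv_eq_one.1 h4)
      · exact h1 h4
  · rintro y hy v ⟨a, ha, h1, h2, h3, hv⟩
    exact cs a ha (by rw [B_symm]; exact h1) y hy v hv
  · rintro y hy x hx v ⟨a, ha, h1, h2, h3, hv⟩
    obtain ⟨-, -, h4⟩ := fam_s a ha h1 h2 h3
    have hyv : y * v = v * y := cs a ha (by rw [B_symm]; exact h1) y hy v hv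
    -- `y` commutes with `x v x⁻¹ v⁻¹`
    have key : Commute y (x * v * x⁻¹ * v⁻¹) := by
      rcases h4 with h4 | ⟨h4, h5, h6, h7, h8, h9⟩ | h4
      · have e1 : x * v * x⁻¹ * v⁻¹ = 1 := by
          rw [hK.X0 sr m_sr a ha h4 x hx v hv]; group
        rw [e1]; exact Commute.one_right y
      · exact cs (sr + a) h7 h8 y hy _ (hK.X1 sr m_sr a ha (by rw [h4]; decide) h5 h6 x hx v hv)
      · subst h4
        obtain ⟨z, hz, w, hw, e⟩ := hK.X2 sr m_sr sa m_sa (by decide) (by decide) (by decide) x hx v hv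
        rw [e]
        have c1 : Commute y z := cs (sr + sa) (by decide +kernel) (by decide) y hy z hz
        have c2 : Commute y w := cs (sr + sa + sa) (by decide +kernel) (by decide) y hy w hw
        exact c1.mul_right c2
    have c1 : Commute y (x * v * x⁻¹) := by
      have h5 : x * v * x⁻¹ = x * v * x⁻¹ * v⁻¹ * v := by group
      rw [h5]
      exact key.mul_right hyv
    calc x⁻¹ * y * x * v = x⁻¹ * (y * (x * v * x⁻¹)) * x := by group
      _ = x⁻¹ * (x * v * x⁻¹ * y) * x := by rw [c1.eq]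
      _ = v * (x⁻¹ * y * x) := by group
  · rintro y hy v ⟨a, ha, h1, h2, h3, hv⟩
    exact cs1 a ha (by rw [B_symm]; exact h2) y hy v hv
  · rintro z hz v ⟨a, ha, h1, h2, h3, hv⟩
    obtain ⟨h4, h5, -⟩ := fam_s a ha h1 h2 h3
    exact hW.mix m_la ha h5 h4 hz hv
  · intro k hk hF
    exact hT.c1s k hk fun a ha h1 h2 h3 x hx => hF x ⟨a, ha, h1, h2, h3, hx⟩

/-- **Type O for the short roots, type C for the long roots: impossible.** -/
theorem false_O_C (hK : KF t X) (hT : KT t X H) (hW : WB t X W) (hO : TyO X W 2) (hC : TyC X W 4) : False := by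
  have cs : ∀ d ∈ rts, 0 ≤ B la d → ∀ w ∈ W la, ∀ x ∈ X d, w * x = x * w := fun d hd h w hw x hx =>
    hW.all m_la hC hd h hw hx
  have cs1 : ∀ d ∈ rts, 0 ≤ B lb d → ∀ w ∈ W lb, ∀ x ∈ X d, w * x = x * w := fun d hd h w hw x hx =>
    hW.all m_lb hC hd h hw hx
  refine false_of_C_O (Xs := X la) (Xs1 := X lb) (Xr := X lr) (Xp := X sa) (Xd := X ld) hK.tt (hW.isW la m_la)
    (hW.isW lb m_lb) (hW.isW sa m_sa) (hK.tX lr m_lr) (hK.Xne la m_la) (hK.Xne lr m_lr)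
    (cs sa m_sa (by decide)) (cs1 sa m_sa (by decide)) (cs1 la m_la (by decide)) ?_ (hK.tX ld m_ld)
    (cs ld m_ld (by decide)) (cs1 ld m_ld (by decide)) (hK.X0 sa m_sa ld m_ld (by decide))
    (hK.X0 lr m_lr ld m_ld (by decide))
    (fun z hz hc => hO.mem hK m_sa m_ld (by decide) (by decide) (by decide) hz hc)
    {v | ∃ a ∈ rts, 0 ≤ B a la ∧ 0 ≤ B a lb ∧ ¬ (B a a = 2 ∧ B a la = 0 ∧ B a lb = 0) ∧ v ∈ X a} ?_ ?_ ?_ ?_ ?_
  · intro u hu x hx
    obtain ⟨z, hz, w, hw, e, hz1⟩ := hT.ndl u⁻¹ (inv_mem hu) x⁻¹ (inv_mem hx)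
    refine ⟨w, hw, z, hz, ?_, fun h1 h2 h3 => ?_⟩
    · have e1 : z * w = w * z := hK.X0 sa m_sa lb m_lb (by decide) z hz w hw
      calc x⁻¹ * u * x = u * (u⁻¹ * x⁻¹ * u⁻¹⁻¹ * x⁻¹⁻¹) := by group
        _ = u * w * z := by rw [e, e1]; group
    · rcases hz1 h3 with h4 | h4
      · exact h1 (inv_eq_one.1 h4)
      · exact h2 (inv_eq_one.1 h4)
  · rintro y hy v ⟨a, ha, h1, h2, h3, hv⟩
    exact cs a ha (by rw [B_symm]; exact h1) y hy v hv
  · rintro y hy x hx v ⟨a, ha, h1, h2, h3, hv⟩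
    obtain ⟨-, -, h4⟩ := fam_l a ha h1 h2 h3
    have hyv : y * v = v * y := cs a ha (by rw [B_symm]; exact h1) y hy v hv
    have key : Commute y (x * v * x⁻¹ * v⁻¹) := by
      rcases h4 with h4 | ⟨h4, h5, h6, h7, h8, h9⟩ | h4
      · have e1 : x * v * x⁻¹ * v⁻¹ = 1 := by
          rw [hK.X0 lr m_lr a ha h4 x hx v hv]; group
        rw [e1]; exact Commute.one_right y
      · exact cs (lr + a) h7 h8 y hy _ (hK.X1 lr m_lr a ha (by rw [h4]; decide) h5 h6 x hx v hv)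
      · subst h4
        obtain ⟨z, hz, w, hw, e⟩ := hK.X2 la m_la lr m_lr (by decide) (by decide) (by decide) v hv x hx
        have e1 : x * v * x⁻¹ * v⁻¹ = (z * w)⁻¹ := by rw [← e]; group
        rw [e1]
        have c1 : Commute y z := cs (la + lr) (by decide +kernel) (by decide) y hy z hz
        have c2 : Commute y w := cs (la + lr + lr) (by decide +kernel) (by decide) y hy w hw
        exact (c1.mul_right c2).inv_right
    have c1 : Commute y (x * v * x⁻¹) := by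
      have h5 : x * v * x⁻¹ = x * v * x⁻¹ * v⁻¹ * v := by group
      rw [h5]
      exact key.mul_right hyv
    calc x⁻¹ * y * x * v = x⁻¹ * (y * (x * v * x⁻¹)) * x := by group
      _ = x⁻¹ * (x * v * x⁻¹ * y) * x := by rw [c1.eq]
      _ = v * (x⁻¹ * y * x) := by group
  · rintro y hy v ⟨a, ha, h1, h2, h3, hv⟩
    exact cs1 a ha (by rw [B_symm]; exact h2) y hy v hv
  · rintro z hz v ⟨a, ha, h1, h2, h3, hv⟩
    obtain ⟨h4, h5, -⟩ := fam_l a ha h1 h2 h3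
    exact hW.mix m_sa ha h5 h4 hz hv
  · intro k hk hF
    exact hT.c1l k hk fun a ha h1 h2 h3 x hx => hF x ⟨a, ha, h1, h2, h3, hx⟩

/-- **Type O for both lengths: impossible.** -/
theorem false_O_O [Finite G] (hK : KF t X) (hT : KT t X H) (hW : WB t X W) (hL : WL t X W) (hH : TorW X W H)
    (hO : TyO X W 2) (hO' : TyO X W 4) : False := by
  obtain ⟨h, hhH, hha, hhl, hc2⟩ := hT.c2
  obtain ⟨δ, hδ, d1, d2⟩ := hT.tor oa m_oa la m_la (by decide) (by decide)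
  obtain ⟨δ', hδ', d1', d2'⟩ := hT.tor la m_la oa m_oa (by decide) (by decide)
  refine false_of_O_O (Xa := X oa) (Xp := X la) (Xr := X sd) (Xm := X om) hK.tt (hW.isW oa m_oa) (hW.isW la m_la)
    (hK.Xne oa m_oa) (hK.Xne la m_la) (hW.WXd oa m_oa la m_la (by decide) (by decide))
    (hW.WXd la m_la oa m_oa (by decide) (by decide)) (hW.WXd oa m_oa sd m_sd (by decide) (by decide)) ?_
    (fun z hz hc => hO'.mem hK m_la m_sd (by decide) (by decide) (by decide) hz hc) ?_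
    (fun x hx hx' => hK.ind oa m_oa la m_la (by decide) x hx hx')
    ({v | ∃ f ∈ rts, (B f f = 4 ∧ 0 ≤ B f oa ∧ 0 < B f la ∨ B f f = 2 ∧ 0 < B f oa ∧ 0 ≤ B f la) ∧ v ∈ X f} ∪ {h})
    ?_ ?_ ?_ (hT.Ht δ hδ) (hH.HX δ hδ oa m_oa d1) (hH.HW δ hδ la m_la) d2 (hT.Ht δ' hδ')
    (hH.HX δ' hδ' la m_la d1') (hH.HW δ' hδ' oa m_oa) d2'
  · intro z hz x hx
    have h1 := hL.WX0 la m_la (by decide) sd m_sd (by decide) (by decide) om m_om (by decide) z⁻¹ (inv_mem hz)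
      x⁻¹ (inv_mem hx)
    have e : z⁻¹ * (x⁻¹ * z * x) = z⁻¹ * x⁻¹ * z⁻¹⁻¹ * x⁻¹⁻¹ := by group
    rw [e]; exact h1
  · intro y hy u hu hu1 hyu
    by_contra hn
    exact hO oa m_oa om m_om (by decide) (by decide) (by decide) y hy hn u hu hu1 hyu
  · rintro y hy v (⟨f, hf, h1, hv⟩ | rfl)
    · have h2 := fam_o f hf h1
      refine hW.mix m_oa hf ?_ (fun h3 => ?_) hy hv
      · rcases h2 with h2 | h2 <;> omega
      · have h4 : B oa oa = 2 := by decide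
        rcases h2 with h2 | h2 <;> omega
    · exact (hH.HX _ hhH oa m_oa hha y hy).symm
  · rintro z hz v (⟨f, hf, h1, hv⟩ | rfl)
    · have h2 := fam_o f hf h1
      refine hW.mix m_la hf ?_ (fun h3 => ?_) hz hv
      · rcases h2 with h2 | h2 <;> omega
      · have h4 : B la la = 4 := by decide
        rcases h2 with h2 | h2 <;> omega
    · exact (hH.HX _ hhH la m_la hhl z hz).symm
  · intro k hk hF
    exact hc2 k hk (hF h (Or.inr rfl)) fun f hf h1 x hx => hF x (Or.inl ⟨f, hf, h1, hx⟩)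

/-- **Both lengths moved: both of type C.** -/
theorem both_C [Finite G] (hK : KF t X) (hT : KT t X H) (hS : WS t X W) (hL : WL t X W) (hH : TorW X W H)
    (h2 : TyC X W 2 ∨ TyO X W 2) (h4 : TyC X W 4 ∨ TyO X W 4) : TyC X W 2 ∧ TyC X W 4 := by
  have hW := wb hK hS hL
  rcases h2 with h2 | h2 <;> rcases h4 with h4 | h4
  · exact ⟨h2, h4⟩
  · exact (false_C_O hK hT hW h2 h4).elim
  · exact (false_O_C hK hT hW h2 h4).elim
  · exact (false_O_O hK hT hW hL hH h2 h4).elim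

/-- **Both lengths moved**: the doubled root groups of `CCModel`. -/
theorem wc [Finite G] (hK : KF t X) (hT : KT t X H) (hS : WS t X W) (hL : WL t X W) (hH : TorW X W H)
    (h2 : TyC X W 2 ∨ TyO X W 2) (h4 : TyC X W 4 ∨ TyO X W 4) : CCModel.WC t X W := by
  have hW := wb hK hS hL
  obtain ⟨h2, h4⟩ := both_C hK hT hS hL hH h2 h4
  refine ⟨hW.isW, fun a ha d hd h w hw x hx => ?_, fun a ha b hb h1 h3 => ?_⟩
  · have hC : TyC X W (B a a) := by
      rcases norm a ha with h1 | h1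
      · rw [h1]; exact h2
      · rw [h1]; exact h4
    exact hW.all ha hC hd h hw hx
  · obtain ⟨δ, hδ, d1, d2⟩ := hT.tor a ha b hb h1 h3
    exact ⟨δ, hT.Ht δ hδ, hH.HX δ hδ a ha d1, fun c hc w hw => hH.HW δ hδ c hc w hw, d2⟩

/-! ### Two families -/

open Classical in
/-- `W₁` for the short, `W₂` for the long roots -/
noncomputable def comb (W₁ W₂ : (Fin 4 → ℤ) → Subgroup G) (a : Fin 4 → ℤ) : Subgroup G :=
  if B a a = 2 then W₁ a else W₂ a

theorem comb_short (W₁ W₂ : (Fin 4 → ℤ) → Subgroup G) {a : Fin 4 → ℤ} (h : B a a = 2) : comb W₁ W₂ a = W₁ a :=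
  if_pos h

theorem comb_long (W₁ W₂ : (Fin 4 → ℤ) → Subgroup G) {a : Fin 4 → ℤ} (h : B a a = 4) : comb W₁ W₂ a = W₂ a :=
  if_neg (by omega)

theorem WS.comb {W₁ : (Fin 4 → ℤ) → Subgroup G} (h : WS t X W₁) (W₂ : (Fin 4 → ℤ) → Subgroup G) :
    WS t X (comb W₁ W₂) where
  XW s hs hss := by rw [comb_short W₁ W₂ hss]; exact h.XW s hs hss
  Wsq s hs hss := by rw [comb_short W₁ W₂ hss]; exact h.Wsq s hs hss
  brk s hs hss := by rw [comb_short W₁ W₂ hss]; exact h.brk s hs hss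
  cent s hs hss := by rw [comb_short W₁ W₂ hss]; exact h.cent s hs hss
  surj s hs hss := by rw [comb_short W₁ W₂ hss]; exact h.surj s hs hss
  WX s hs hss := by rw [comb_short W₁ W₂ hss]; exact h.WX s hs hss
  WX0 s hs hss := by rw [comb_short W₁ W₂ hss]; exact h.WX0 s hs hss

theorem WL.comb {W₂ : (Fin 4 → ℤ) → Subgroup G} (h : WL t X W₂) (W₁ : (Fin 4 → ℤ) → Subgroup G) :
    WL t X (comb W₁ W₂) where
  XW s hs hss := by rw [comb_long W₁ W₂ hss]; exact h.XW s hs hss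
  Wsq s hs hss := by rw [comb_long W₁ W₂ hss]; exact h.Wsq s hs hss
  brk s hs hss := by rw [comb_long W₁ W₂ hss]; exact h.brk s hs hss
  cent s hs hss := by rw [comb_long W₁ W₂ hss]; exact h.cent s hs hss
  surj s hs hss := by rw [comb_long W₁ W₂ hss]; exact h.surj s hs hss
  WX s hs hss := by rw [comb_long W₁ W₂ hss]; exact h.WX s hs hss
  WX0 s hs hss := by rw [comb_long W₁ W₂ hss]; exact h.WX0 s hs hss

/-- The torus acts on the doubled root groups of norm `n`. -/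
structure TorN {G : Type*} [Group G] (X W : (Fin 4 → ℤ) → Subgroup G) (H : Subgroup G) (n : ℤ) : Prop where
  HW : ∀ h ∈ H, ∀ a ∈ rts, B a a = n → ∀ w ∈ W a, h * w * h⁻¹ ∈ W a
  HX : ∀ h ∈ H, ∀ a ∈ rts, B a a = n → (∀ x ∈ X a, h * x = x * h) → ∀ w ∈ W a, h * w = w * h

variable {W₁ W₂ : (Fin 4 → ℤ) → Subgroup G}

theorem TorW.comb (h1 : TorN X W₁ H 2) (h2 : TorN X W₂ H 4) : TorW X (comb W₁ W₂) H where
  HW h hh a ha := by
    rcases norm a ha with hn | hn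
    · rw [comb_short W₁ W₂ hn]; exact h1.HW h hh a ha hn
    · rw [comb_long W₁ W₂ hn]; exact h2.HW h hh a ha hn
  HX h hh a ha hx := by
    rcases norm a ha with hn | hn
    · rw [comb_short W₁ W₂ hn]; exact h1.HX h hh a ha hn hx
    · rw [comb_long W₁ W₂ hn]; exact h2.HX h hh a ha hn hx

theorem TyC.comb_short (h : TyC X W₁ 2) : TyC X (comb W₁ W₂) 2 := fun a ha d hd h1 h2 h3 => by
  rw [TypeCModel.comb_short W₁ W₂ h1]; exact h a ha d hd h1 h2 h3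

theorem TyC.comb_long (h : TyC X W₂ 4) : TyC X (comb W₁ W₂) 4 := fun a ha d hd h1 h2 h3 => by
  rw [TypeCModel.comb_long W₁ W₂ h1]; exact h a ha d hd h1 h2 h3

theorem TyO.comb_short (h : TyO X W₁ 2) : TyO X (comb W₁ W₂) 2 := fun a ha d hd h1 h2 h3 => by
  rw [TypeCModel.comb_short W₁ W₂ h1]; exact h a ha d hd h1 h2 h3

theorem TyO.comb_long (h : TyO X W₂ 4) : TyO X (comb W₁ W₂) 4 := fun a ha d hd h1 h2 h3 => by
  rw [TypeCModel.comb_long W₁ W₂ h1]; exact h a ha d hd h1 h2 h3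

/-- **Both lengths moved**, with a family for each length. -/
theorem wc_comb [Finite G] (hK : KF t X) (hT : KT t X H) (hS : WS t X W₁) (hL : WL t X W₂) (h1 : TorN X W₁ H 2)
    (h2 : TorN X W₂ H 4) (t2 : TyC X W₁ 2 ∨ TyO X W₁ 2) (t4 : TyC X W₂ 4 ∨ TyO X W₂ 4) :
    CCModel.WC t X (comb W₁ W₂) :=
  wc hK hT (WS.comb hS W₂) (WL.comb hL W₁) (TorW.comb h1 h2) (t2.imp TyC.comb_short TyO.comb_short)
    (t4.imp TyC.comb_long TyO.comb_long)

end

end Cfsg.Agent.OddHalf.D7F4.TypeCModel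

end

-- merged: Cfsg.Agent.OddHalf.D7F4.RowCC
section

/-!
# K = F4(q), q ≥ 4 even, both lengths are moved: the coordinates (S1765, node D7; helper84)

`crd` : `CCOut.Crd` for a frame; `dir` : `Lead.Dir`; `UK_map` : `f U = Ab (XG f) 0`.
-/

set_option autoImplicit false
set_option linter.unusedSectionVars false

namespace Cfsg.Agent.OddHalf.D7F4.RowCC

open CoxeterSystem Cfsg.Agent.ChevalleyStructure.CoxeterGeom Cfsg.Agent.Tits.Roots Cfsg.Agent.Tits.Core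
open Cfsg.Lie Cfsg.Agent.ChevalleyStructure Cfsg.Agent.ChevalleyStructure.CoxeterGeomTypes
open Cfsg.Agent.Nodes Cfsg.Agent.Nodes.Reps Cfsg.Agent.Nodes.BNOf Cfsg.Agent.Nodes.Unique Cfsg.Agent.Nodes.RGDChev
  Cfsg.Agent.Nodes.KindF Cfsg.Agent.KFacts.ChevTwo Cfsg.Agent.KFacts.ChevTwoTab Cfsg.Agent.KFacts.ChevTwoInst
  Cfsg.Agent.KFacts.F4Star Cfsg.Agent.KFacts.F4Cent Cfsg.Agent.KFacts.F4Pair Cfsg.Agent.KFacts.F4Torus
  Cfsg.Agent.KFacts.F4Model Cfsg.Agent.KFacts.RgdInd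
open Cfsg.Agent.OddHalf.D7F4.Model hiding add

universe u

variable {G : Type*} [Group G] {F : Type u} [Field F] [Finite F] [CharP F 2] {t : G}
  {f : ↥(chevF4.group F) →* G}

/-- the character -/
def chF (χ : Fin 4 → Fˣ) : (Fin 4 → ℤ) →+ Additive Fˣ where
  toFun a := Additive.ofMul (∏ i, χ i ^ a i)
  map_zero' := by
    have : (∏ i, χ i ^ (0 : Fin 4 → ℤ) i) = 1 := Finset.prod_eq_one fun i _ => by rw [Pi.zero_apply, zpow_zero]
    rw [this]; rfl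
  map_add' a b := by
    rw [← ofMul_mul, ← Finset.prod_mul_distrib]
    congr 1
    refine Finset.prod_congr rfl fun i _ => ?_
    rw [Pi.add_apply, zpow_add]

theorem tab1 : B Lead.ρ' Lead.ρ' = B Lead.α3 Lead.α3 ∧ B Lead.ρ' Lead.α3 < 0 ∧ Lead.ρ' ≠ -Lead.α3 ∧
    Lead.ρ' + Lead.α3 = Lead.ρ := by decide +kernel

theorem tab2 : B CCOut.α2 CCOut.α2 = 4 ∧ B CCOut.α1 CCOut.α1 = 2 ∧ B CCOut.α2 CCOut.α1 = -2 ∧
    CCOut.α2 + CCOut.α1 = CCOut.α12 ∧ CCOut.α2 + CCOut.α1 + CCOut.α1 = CCOut.α112 ∧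
    CCOut.α1 ∈ rts ∧ CCOut.α2 ∈ rts ∧ CCOut.α112 ∈ rts := by decide +kernel

/-- **The coordinates.** -/
theorem crd (R : Frame t f) (hq : ∃ μ : Fˣ, μ ≠ 1) {W : (Fin 4 → ℤ) → Subgroup G}
    (hHW : ∀ h ∈ TF F, ∀ a ∈ rts, (∀ y ∈ XG f a, f h * y = y * f h) → ∀ w ∈ W a, f h * w = w * f h) :
    CCOut.Crd t (fun a u => f (eF F a u)) (XG f) W ((TF F).map f) where
  mem a ha u := (mem_XG ha).2 ⟨u, rfl⟩
  surj a ha g hg := (mem_XG ha).1 hg
  add a ha u v := by rw [← map_mul, (D7F4Ex.chartY hq).add a ha]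
  inj a ha u h := (D7F4Ex.chartY hq).inj a ha u (R.inj (by rw [h, map_one]))
  r1 u v := by
    obtain ⟨h1, h2, h3, h4⟩ := tab1
    have h5 := (D7F4Ex.chartY hq).c1 Lead.ρ' Lead.ρ'_mem Lead.α3 Lead.α3_mem h1 h2 h3 u v
    rw [h4] at h5
    rw [← h5]
    simp only [map_mul, map_inv]
  r2 u v := by
    obtain ⟨h1, h2, h3, h4, h5, h6, h7, h8⟩ := tab2
    have h9 := (D7F4Ex.chartY hq).c2 CCOut.α2 h7 CCOut.α1 h6 h1 h2 h3 u v
    rw [h5, h4] at h9
    refine ⟨f (eF F CCOut.α112 (u * v ^ 2)), (mem_XG h8).2 ⟨_, rfl⟩, ?_⟩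
    simp only [← map_mul, ← map_inv]
    rw [h9]
  tor χ := by
    obtain ⟨s, hs, h⟩ := exists_torus D7F4Ex.csF (chF χ)
    refine ⟨f s, ⟨s, hs, rfl⟩, fun a ha u => ?_⟩
    rw [← map_inv, ← map_mul, ← map_mul, h a (D7F4Ex.mem_rts.2 ha) u]
    rfl
  Ht := by
    rintro _ ⟨h, -, rfl⟩
    exact (R.ft h).symm
  HX := by
    rintro _ ⟨h, hh, rfl⟩ a ha _ ⟨y, hy, rfl⟩
    have : Fact (Nat.Prime 2) := ⟨Nat.prime_two⟩
    have h1 := (rgd (K := F) isType cF 2).tor a (D7F4Ex.mem_rts.2 ha) h hh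
    refine ⟨h * y * h⁻¹, ?_, by rw [map_mul, map_mul, map_inv]⟩
    have h2 : h * y * h⁻¹ ∈ cj h (XF F a) := ⟨y, hy, rfl⟩
    exact h1.le h2
  HW := by
    rintro _ ⟨h, hh, rfl⟩ a ha hy w hw
    exact hHW h hh a ha hy w hw
  Hs := by
    rintro _ ⟨h, -, rfl⟩ y hy e
    obtain ⟨y', hy'⟩ := R.nK y hy h
    refine R.not_mem_range (fun z hz => eq_one_of_comm cF (fun x _ u => hz _)) (y' * h⁻¹) ?_
    rw [map_mul, map_inv, ← hy', e]
  cK g hg h := R.eq_one_or hg fun a ha c => h a ha _ ((mem_XG ha).2 ⟨c, rfl⟩)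

theorem dir (R : Frame t f) : Lead.Dir (XG f) := XG_ind R.inj

theorem not_mem_Ab (R : Frame t f) : t ∉ Lead.Ab (XG f) 0 := R.not_mem_up

/-- `|F| > 2` -/
theorem exists_unit (hF : 2 < Nat.card F) : ∃ μ : Fˣ, μ ≠ 1 := by
  have h1 : Nat.card Fˣ = Nat.card F - 1 := Nat.card_units F
  have h2 : Nontrivial Fˣ := by
    rw [← Finite.one_lt_card_iff_nontrivial, h1]
    omega
  exact exists_ne 1

/-- **Both lengths are moved.** -/
theorem row [Finite G] (hF : 2 < Nat.card F) {T : Subgroup G} {g : G} (O : FrOut.FrO t f T g) (hK : KF t (XG f))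
    (hG : CCModel.KG t (XG f)) {W : (Fin 4 → ℤ) → Subgroup G} (hW : CCModel.WC t (XG f) W)
    (hH : TypeCModel.TorW (XG f) W ((TF F).map f)) : t ∉ _root_.commutator G :=
  CCOut.main hK (CCModel.hyp hK hG hW) (dir O.R)
    (crd O.R (exists_unit hF) fun h hh a ha hy w hw => hH.HX (f h) ⟨h, hh, rfl⟩ a ha hy w hw) (FrTG.tg O)
    (not_mem_Ab O.R)

end Cfsg.Agent.OddHalf.D7F4.RowCC

end

-- merged: Cfsg.Agent.OddHalf.D7F4.StartF4
section

/-!
# `K = F₄(q)`, `q ≥ 4` even: the starting position (ODD D7; helper588)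

`exists_start` : `Ctx G`, `Std G K`, `Cyc K`, `K ≅ F₄(F)`, `|F| > 2` even, give `Start t f T`: a frame `f : F₄(F) →* G`
with image `K`, a Sylow 2-subgroup `T` of `C_G(t)` with `T ∩ K = f U`, `T = ⟨g, t⟩ f U` for some `g` inducing a frame
automorphism `β` of `F₄(F)`, and `X_ρ` or `X_σ` is moved.
-/

set_option autoImplicit false
set_option Elab.async false
set_option linter.unusedSectionVars false

namespace Cfsg.Agent.OddHalf.D7F4.StartF4

open CoxeterSystem Cfsg.Agent.ChevalleyStructure.CoxeterGeom Cfsg.Agent.Tits.Roots Cfsg.Agent.Tits.Core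
open Cfsg.Lie Cfsg.Agent.ChevalleyStructure Cfsg.Agent.ChevalleyStructure.Elts
  Cfsg.Agent.ChevalleyStructure.RootVec Cfsg.Agent.ChevalleyStructure.CoxeterGeomTypes
open Cfsg.Agent.Nodes Cfsg.Agent.Nodes.Reps Cfsg.Agent.Nodes.BNOf Cfsg.Agent.Nodes.RGDChev Cfsg.Agent.Nodes.Coroot
  Cfsg.Agent.Nodes.KindF Cfsg.Agent.KFacts.F4Star Cfsg.Agent.KFacts.F4Cent Cfsg.Agent.KFacts.F4Pair
open Cfsg.Agent.OddHalf.D7F4.KFront Cfsg.Agent.OddHalf.D7F4.Fusion Cfsg.Agent.OddHalf.Iface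
open Cfsg.Agent.OddHalf.D7.Cases
open scoped commutatorElement

universe u v

variable {G : Type u} [Group G] {F : Type v} [Field F] [Finite F] [CharP F 2]

/-- The starting position. -/
structure Start (t : G) (f : ↥(chevF4.group F) →* G) (T : Subgroup G) : Prop where
  frame : Frame t f
  fr : D7Out.Defs.Fr t t f.range ((UK F).map f) ((ZK F).map f) T
  /-- the outer part of `T` -/
  gen : ∃ g ∈ T, ∃ β ∈ KFacts.RgdRigid.Frame c4 isType.isCartan (XF F), (∀ y, f (β y) = g * f y * g⁻¹) ∧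
    (∃ k : ℕ, β ^ 2 ^ k = 1) ∧ ∀ s ∈ T, ∃ m : ℤ, ∃ u ∈ UK F, s = f u * g ^ m ∨ s = t * (f u * g ^ m)
  swap : ∃ n ∈ Subgroup.normalizer (T : Set G), ∃ z ∈ ZK F, z ≠ 1 ∧ (∀ x ∈ T, x * f z = f z * x) ∧
    n * t * n⁻¹ = t * f z
  moved : Moved t (XG f (v 47)) ∨ Moved t (XG f (v 44))

theorem mem_normalizer_of {G : Type u} [Group G] {T P : Subgroup G} (h : ∀ x ∈ T, ∀ p ∈ P, x * p * x⁻¹ ∈ P) :
    T ≤ Subgroup.normalizer (P : Set G) := by
  intro x hx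
  have hx' : x⁻¹ ∈ T := T.inv_mem hx
  rw [Subgroup.mem_normalizer_iff]
  intro p
  refine ⟨h x hx p, fun hp => ?_⟩
  have h1 := h x⁻¹ hx' _ hp
  have e : x⁻¹ * (x * p * x⁻¹) * x⁻¹⁻¹ = p := by group
  rwa [e] at h1

/-- the outer part, for any cyclic `C(K) ∩ C(t) = ⟨v⟩` -/
theorem exists_gen [Finite G] {K : Subgroup G} {t w : G} {f : ↥(chevF4.group F) →* G} (hf : Function.Injective f)
    (hfK : f.range = K) {Z T : Subgroup G} (E : D7Out.Defs.Fr t w K ((UK F).map f) Z T) :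
    ∃ g ∈ T, ∃ β ∈ KFacts.RgdRigid.Frame c4 isType.isCartan (XF F), (∀ y, f (β y) = g * f y * g⁻¹) ∧
      (∃ k : ℕ, β ^ 2 ^ k = 1) ∧
      ∀ s ∈ T, ∃ m : ℤ, ∃ u ∈ UK F, ∃ r ∈ Subgroup.zpowers w, s = f u * r * g ^ m := by
  have hKn : ∀ x ∈ T, ∀ p ∈ K, x * p * x⁻¹ ∈ K := fun x hx p hp =>
    (Subgroup.mem_normalizer_iff.1 (E.nK x (E.tc x hx)) p).1 hp
  have hUT : (UK F).map f ≤ T := by
    rw [E.U_eq]; exact inf_le_left
  obtain ⟨g, hg, β, hβ, h1, h2, h3⟩ := KFacts.RgdGraphF4.gen_F4 (K := F) c4 f hf (S := T) E.pT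
    (by rw [hfK]; exact mem_normalizer_of hKn)
    (mem_normalizer_of fun x hx p hp => by
      have hp' := hp
      rw [E.U_eq] at hp' ⊢
      exact ⟨T.mul_mem (T.mul_mem hx hp'.1) (T.inv_mem hx), hKn x hx p hp'.2⟩)
    hUT
  refine ⟨g, hg, β, hβ, h1, h2, fun s hs => ?_⟩
  obtain ⟨m, u, hu, c, hc, hcK, e⟩ := h3 s hs
  refine ⟨m, u, hu, c, E.cK c (E.tc c hc) fun x hx => ?_, e⟩
  rw [← hfK] at hx
  obtain ⟨y, rfl⟩ := hx
  exact (hcK y).symm

theorem hcyc [Finite G] {K : Subgroup G} {t w : G} {f : ↥(chevF4.group F) →* G} (hf : Function.Injective f)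
    (hfK : f.range = K) {Z T : Subgroup G} (E : D7Out.Defs.Fr t w K ((UK F).map f) Z T) :
    ∃ s ∈ T, ∀ x ∈ T, ∃ k : ℤ, ∃ r ∈ Subgroup.zpowers w, ∃ u ∈ (UK F).map f, x = s ^ k * r * u := by
  obtain ⟨g, hg, -, -, -, -, h3⟩ := exists_gen hf hfK E
  refine ⟨g, hg, fun x hx => ?_⟩
  obtain ⟨m, u, hu, r, hr, e⟩ := h3 x⁻¹ (inv_mem hx)
  refine ⟨-m, r⁻¹, inv_mem hr, (f u)⁻¹, inv_mem ⟨u, hu, rfl⟩, ?_⟩
  rw [← inv_inv x, e]; group

/-- **The start**, from the starting position of the nodes. -/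
theorem start_of [Finite G] (hG : commutator G = ⊤) {K : Subgroup G} {t w : G} (S : Front.FE.Start K t w)
    (e : ↥(chevF4.group F) ≃* ↥K) (hF : 2 < Nat.card F) :
    ∃ (f : ↥(chevF4.group F) →* G) (T : Subgroup G), f.range = K ∧ Start t f T := by
  have hsK := S.simple
  have hsF : IsSimpleGroup ↥(chevF4.group F) := e.isSimpleGroup
  have hs : Schreier.Basic.Sch ↥K := Schreier.Chev.sch_of_equiv (Schreier.Chev.sch_f4 F) ⟨e.symm⟩
  have F0 := (kf0 (K := F) hF).map e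
  obtain ⟨T, E⟩ := D7Out.FrGen.fr0 S F0 hs
  set f : ↥(chevF4.group F) →* G := K.subtype.comp e.toMonoidHom with hf
  have hfi : Function.Injective f := K.subtype_injective.comp e.injective
  have hfK : f.range = K := by
    rw [hf, MonoidHom.range_comp, MonoidHom.range_eq_top.2 e.surjective, ← MonoidHom.range_eq_map, Subgroup.range_subtype]
  rw [Subgroup.map_map, Subgroup.map_map] at E
  obtain ⟨hm, hR⟩ := FusionOut.front hG E (hcyc hfi hfK E)
  have hft : ∀ y, f y * t = t * f y := fun y => S.toStart0.Kt (f y) (by rw [← hfK]; exact ⟨y, rfl⟩)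
  have hwt : w = t ∨ w = 1 := (hR w (Subgroup.mem_zpowers w)).symm
  have hwt' : w = t := by
    rcases hwt with h | h
    · exact h
    · exfalso
      have h1 := S.tQ
      rw [h, Subgroup.zpowers_one_eq_bot, Subgroup.mem_bot] at h1
      exact S.t1 h1
  subst hwt'
  have hframe : Frame w f :=
    { tt := S.tt
      t1 := S.t1
      inj := hfi
      ft := hft
      nK := by
        intro g hg y
        have h1 := (Subgroup.mem_normalizer_iff.1 (S.nK g hg) (f y)).1 (by rw [← hfK]; exact ⟨y, rfl⟩)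
        rw [← hfK] at h1
        obtain ⟨y', hy'⟩ := h1
        exact ⟨y', hy'.symm⟩
      cK := by
        intro g hg hgy
        refine hR g (S.cK g hg fun x hx => ?_)
        rw [← hfK] at hx
        obtain ⟨y, rfl⟩ := hx
        exact (hgy y).symm
      perf := by
        intro L hLt hL
        rw [hfK]
        exact D7Out.FrGen.perf_le S.toStart0 hs hLt hL }
  obtain ⟨n, hn, z, hz, hz1, hzT, hnz⟩ := hm
  obtain ⟨z, hzZ, rfl⟩ := hz
  have hz1' : z ≠ 1 := fun h => hz1 (by rw [h, map_one])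
  refine ⟨f, T, hfK, hframe, ?_, ?_, ⟨n, hn, z, hzZ, hz1', hzT, hnz⟩, ?_⟩
  · rw [hfK]; exact E
  · obtain ⟨g, hg, β, hβ, h1, h2, h3⟩ := exists_gen hfi hfK E
    refine ⟨g, hg, β, hβ, h1, h2, fun s hs => ?_⟩
    obtain ⟨m, u, hu, r, hr, e⟩ := h3 s hs
    refine ⟨m, u, hu, ?_⟩
    rcases hR r hr with rfl | rfl
    · left; rw [e, mul_one]
    · right; rw [e, hft, mul_assoc]
  · exact hframe.exists_moved hF (g := n⁻¹) hzZ hz1' (by rw [inv_inv]; exact hnz)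

/-- **The start**, from the interface of the nodes. -/
theorem exists_start (C : Ctx G) {K : Subgroup G} (S : Std G K) (hcyc : Cyc K)
    (e : Nonempty (↥K ≃* ↥(chevF4.group F))) (hF : 2 < Nat.card F) :
    ∃ (t : G) (f : ↥(chevF4.group F) →* G) (T : Subgroup G), f.range = K ∧ Front.FE.Start K t t ∧ Start t f T := by
  have := C.fin
  obtain ⟨e⟩ := e
  have hc : Subgroup.center ↥(chevF4.group F) = ⊥ := S1077.center_group_eq_bot isType.inList
  have hcen : Subgroup.center ↥K = ⊥ := by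
    rw [Subgroup.eq_bot_iff_forall] at hc ⊢
    intro x hx
    have h1 := hc (e x) (Subgroup.mem_center_iff.2 fun y => by
      obtain ⟨y, rfl⟩ := e.surjective y
      rw [← map_mul, ← map_mul, Subgroup.mem_center_iff.1 hx y])
    exact e.injective (by rw [h1, map_one])
  obtain ⟨t, w, hS⟩ := Front.FE.exists_start C S hcyc hcen
  obtain ⟨f, T, hfK, h⟩ := start_of (Front.FE.commutator_eq_top C) hS e.symm hF
  refine ⟨t, f, T, hfK, ?_, h⟩
  have hwt : w = t := by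
    have h1 := h.frame.cK w (hS.Qt w (Subgroup.mem_zpowers w)) fun y =>
      (hS.qK (f y) (by rw [← hfK]; exact ⟨y, rfl⟩)).symm
    rcases h1 with h1 | h1
    · exfalso
      have h2 := hS.tQ
      rw [h1, Subgroup.zpowers_one_eq_bot, Subgroup.mem_bot] at h2
      exact hS.t1 h2
    · exact h1
  rw [hwt] at hS
  exact hS

/-- **The row K = F₄(q)**, reduced to the starting position. -/
theorem node_of (h : ∀ (G : Type u) [Group G] [Finite G] (F : Type) [Field F] [Finite F] [CharP F 2],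
      2 < Nat.card F → commutator G = ⊤ → Ctx G → ∀ (t : G) (f : ↥(chevF4.group F) →* G) (T : Subgroup G),
      Front.FE.Start f.range t t → Start t f T → False) :
    Node.{u} @FamF4'.{u} := by
  intro G _ C K S c hK
  obtain ⟨F, _, _, a, ha, hF, e⟩ := hK
  have hch : CharP F 2 := by
    obtain ⟨p, hp⟩ := CharP.exists F
    have : Fact p.Prime := ⟨CharP.char_is_prime F p⟩
    obtain ⟨n, hn, hc⟩ := FiniteField.card F p
    have h1 : p ∣ 2 ^ a := by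
      rw [← hF, hc]
      exact dvd_pow_self p n.ne_zero
    have h2 : p = 2 := (Nat.prime_dvd_prime_iff_eq hn Nat.prime_two).1 (hn.dvd_of_dvd_pow h1)
    rwa [h2] at hp
  have h2 : 2 < Nat.card F := by
    rw [Nat.card_eq_fintype_card, hF]
    calc 2 < 2 ^ 2 := by norm_num
      _ ≤ 2 ^ a := Nat.pow_le_pow_right (by norm_num) ha
  have := C.fin
  obtain ⟨t, f, T, hfK, hS, hT⟩ := exists_start C S c e h2
  subst hfK
  exact h G F h2 (Front.FE.commutator_eq_top C) C t f T hS hT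

end Cfsg.Agent.OddHalf.D7F4.StartF4

end

-- merged: Cfsg.Agent.OddHalf.D7F4.TypeCInst
section

/-!
# K = F4(q), `q ≥ 4`: the K-facts `TypeCModel.KT` (S1765, node D7; helper588)

* `exists_f` : `g ∈ C(t)` commuting with one root group is `f y` or `t * f y`;
* `mem_sup` : the centraliser in `F₄(F)` of the root groups of a mask;
* `kt` : `KT t (XG f) ((TF F).map f)` for a frame `f`, `|F| > 2`.
-/

set_option autoImplicit false
set_option Elab.async false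
set_option linter.unusedSectionVars false

namespace Cfsg.Agent.OddHalf.D7F4.TypeCInst

open CoxeterSystem Cfsg.Agent.ChevalleyStructure.CoxeterGeom Cfsg.Agent.Tits.Roots Cfsg.Agent.Tits.Core
open Cfsg.Lie Cfsg.Agent.ChevalleyStructure Cfsg.Agent.ChevalleyStructure.Elts
  Cfsg.Agent.ChevalleyStructure.RootVec Cfsg.Agent.ChevalleyStructure.CoxeterGeomTypes
open Cfsg.Agent.Nodes Cfsg.Agent.Nodes.Reps Cfsg.Agent.Nodes.BNOf Cfsg.Agent.Nodes.RGDChev Cfsg.Agent.Nodes.Coroot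
  Cfsg.Agent.Nodes.KindF Cfsg.Agent.KFacts.ChevTwo Cfsg.Agent.KFacts.ChevTwoTab Cfsg.Agent.KFacts.ChevTwoInst
  Cfsg.Agent.KFacts.F4Cent Cfsg.Agent.KFacts.F4Pair Cfsg.Agent.KFacts.F4Torus
open Cfsg.Agent.KFacts.F4Star hiding sb
open Cfsg.Agent.OddHalf.D7F4 Cfsg.Agent.OddHalf.D7F4.Model Cfsg.Agent.OddHalf.D7F4.TypeCModel
  Cfsg.Agent.OddHalf.D7F4.KFront Cfsg.Agent.OddHalf.D7F4.KBridge
open scoped commutatorElement

universe u v

variable {F : Type v} [Field F] [Finite F] [CharP F 2]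

/-! ### In `F₄(F)` -/

theorem rt_of {a : Fin 4 → ℤ} (ha : a ∈ rts) : IsRoot c4 isType.isCartan a := (isRoot_iff' c4).2 ha

theorem eF_inj {a : Fin 4 → ℤ} (ha : a ∈ rts) {t u : F} (h : eF F a t = eF F a u) : t = u := by
  have D := dat (K := F)
  have h1 : eF F a (t + u) = 1 := by
    rw [D.add a (rt_of ha), h, ← D.add a (rt_of ha), CharTwo.add_self_eq_zero, D.zero (rt_of ha)]
  have h2 := D.inj a (rt_of ha) _ h1
  exact CharTwo.add_eq_zero.1 h2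

theorem eF_one_ne {a : Fin 4 → ℤ} (ha : a ∈ rts) : eF F a 1 ≠ 1 := fun h =>
  one_ne_zero ((dat (K := F)).inj a (rt_of ha) _ h)

/-- The centraliser of the root groups of a mask. -/
theorem mem_mask {P : ℕ} (hP : spanM P = true) {y : ↥(chevF4.group F)}
    (hy : ∀ r ∈ List.range 48, P.testBit r = true → ∀ x ∈ XF F (vv r), y * x = x * y) :
    y ∈ RGD.Sup (XF F) (SetOf (starM P)) := by
  refine cent_mask hP ?_
  rintro _ ⟨r, hr, hb, rfl⟩
  have hm : vv r ∈ rts := vv_mem r (List.mem_range.2 hr)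
  refine ⟨eF F (v r) 1, e_mem_X (rv hr) 1, ?_, ?_⟩
  · rw [vv_eq]; exact eF_one_ne hm
  · refine hy r (List.mem_range.2 hr) hb _ ?_
    rw [← vv_eq]; exact e_mem_X (rv hr) 1

theorem sup_le3 {M : ℕ} {a b c : Fin 4 → ℤ}
    (hM : ∀ r ∈ List.range 48, M.testBit r = true → vv r = a ∨ vv r = b ∨ vv r = c) :
    RGD.Sup (XF F) (SetOf M) ≤ XF F a ⊔ XF F b ⊔ XF F c := by
  refine RGD.Sup_le ?_
  rintro _ ⟨r, hr, hb, rfl⟩
  rcases hM r (List.mem_range.2 hr) hb with h | h | h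
  · rw [vv_eq, h]; exact le_sup_of_le_left le_sup_left
  · rw [vv_eq, h]; exact le_sup_of_le_left le_sup_right
  · rw [vv_eq, h]; exact le_sup_right

theorem x0 {a b : Fin 4 → ℤ} (ha : a ∈ rts) (hb : b ∈ rts) (h : 0 ≤ B a b) : ∀ x ∈ XF F a, ∀ y ∈ XF F b, x * y = y * x :=
  KFacts.F4Model.X0 ha hb h

theorem split3 {a b c : Fin 4 → ℤ} (ha : a ∈ rts) (hb : b ∈ rts) (hc : c ∈ rts) (hab : 0 ≤ B a b) (hac : 0 ≤ B a c)
    (hbc : 0 ≤ B b c) {y : ↥(chevF4.group F)} (hy : y ∈ XF F a ⊔ XF F b ⊔ XF F c) :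
    ∃ p ∈ XF F a, ∃ q ∈ XF F b, ∃ r ∈ XF F c, y = p * q * r := by
  refine KFacts.F4Model.mem_sup3 (x0 ha hc hac) (x0 hb hc hbc) (fun p hp q hq => ⟨1, one_mem _, ?_⟩) hy
  rw [mul_one]
  exact (x0 ha hb hab p hp q hq).symm

/-- the mask of the family of `c1s` -/
def PS : ℕ := 279077262458880
/-- the mask of the family of `c1l` -/
def PL : ℕ := 281467498397696
/-- the mask of the family of `c2` -/
def PO : ℕ := 277205864677376

theorem span_s : spanM PS = true := by decide +kernel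
theorem span_l : spanM PL = true := by decide +kernel
theorem span_o : spanM PO = true := by decide +kernel

theorem cond_s : ∀ r ∈ List.range 48, PS.testBit r = true → 0 ≤ B (vv r) sa ∧ 0 ≤ B (vv r) sb ∧
    ¬ (B (vv r) (vv r) = 4 ∧ B (vv r) sa = 0 ∧ B (vv r) sb = 0) := by decide +kernel
theorem cond_l : ∀ r ∈ List.range 48, PL.testBit r = true → 0 ≤ B (vv r) la ∧ 0 ≤ B (vv r) lb ∧
    ¬ (B (vv r) (vv r) = 2 ∧ B (vv r) la = 0 ∧ B (vv r) lb = 0) := by decide +kernel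
theorem cond_o : ∀ r ∈ List.range 48, PO.testBit r = true →
    (B (vv r) (vv r) = 4 ∧ 0 ≤ B (vv r) oa ∧ 0 < B (vv r) la ∨
      B (vv r) (vv r) = 2 ∧ 0 < B (vv r) oa ∧ 0 ≤ B (vv r) la) := by decide +kernel

theorem star_s : ∀ r ∈ List.range 48, (starM PS).testBit r = true → vv r = sa ∨ vv r = sb ∨ vv r = la := by
  decide +kernel
theorem star_l : ∀ r ∈ List.range 48, (starM PL).testBit r = true → vv r = la ∨ vv r = lb ∨ vv r = sa := by
  decide +kernel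
/-- the functional of the torus element -/
def phi : (Fin 4 → ℤ) →+ ℤ where
  toFun x := 2 * x 2 - 3 * x 3
  map_zero' := by simp
  map_add' x y := by simp only [Pi.add_apply]; ring

def phi0 (x : Fin 4 → ℤ) : ℤ := 2 * x 2 - 3 * x 3

theorem star_o : ∀ r ∈ List.range 48, (starM PO).testBit r = true → vv r = oa ∨ vv r = la ∨ phi0 (vv r) = 1 ∨
    phi0 (vv r) = -1 := by decide +kernel
theorem star_o' : ∀ r ∈ List.range 48, (starM PO).testBit r = true → 0 < vv r 0 + vv r 1 + vv r 2 + vv r 3 := by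
  decide +kernel

theorem k_s {y : ↥(chevF4.group F)} (hy : ∀ a ∈ rts, 0 ≤ B a sa → 0 ≤ B a sb →
    ¬ (B a a = 4 ∧ B a sa = 0 ∧ B a sb = 0) → ∀ x ∈ XF F a, y * x = x * y) :
    ∃ a ∈ XF F sa, ∃ b ∈ XF F sb, ∃ c ∈ XF F la, y = a * b * c := by
  refine split3 m_sa m_sb m_la (by decide) (by decide) (by decide) (sup_le3 star_s (mem_mask span_s ?_))
  intro r hr hb
  obtain ⟨h1, h2, h3⟩ := cond_s r hr hb
  exact hy _ (vv_mem r hr) h1 h2 h3

theorem k_l {y : ↥(chevF4.group F)} (hy : ∀ a ∈ rts, 0 ≤ B a la → 0 ≤ B a lb →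
    ¬ (B a a = 2 ∧ B a la = 0 ∧ B a lb = 0) → ∀ x ∈ XF F a, y * x = x * y) :
    ∃ a ∈ XF F la, ∃ b ∈ XF F lb, ∃ c ∈ XF F sa, y = a * b * c := by
  refine split3 m_la m_lb m_sa (by decide) (by decide) (by decide) (sup_le3 star_l (mem_mask span_l ?_))
  intro r hr hb
  obtain ⟨h1, h2, h3⟩ := cond_l r hr hb
  exact hy _ (vv_mem r hr) h1 h2 h3

/-- `star Ψ` is closed. -/
theorem closed_star {Ψ : Set (Fin 4 → ℤ)} (hΨ : ∀ a ∈ Ψ, IsRoot c4 isType.isCartan a) :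
    Unique.Closed c4 isType.isCartan (star c4 isType.isCartan Ψ) := by
  intro x hx y hy z hz
  refine ⟨hz.1, fun a ha => ?_⟩
  obtain ⟨-, m, p, q, hm, hp, hq, e⟩ := hz
  have h1 := cpr_smul c4 isType.isCartan m z (hΨ a ha)
  rw [e, cpr_add c4 isType.isCartan _ _ (hΨ a ha), cpr_smul c4 isType.isCartan p x (hΨ a ha),
    cpr_smul c4 isType.isCartan q y (hΨ a ha)] at h1
  have h2 := mul_nonneg hp.le (hx.2 a ha)
  have h3 := mul_nonneg hq.le (hy.2 a ha)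
  by_contra h4
  have h5 : m * cpr c4 isType.isCartan z a < 0 := mul_neg_of_pos_of_neg hm (not_le.1 h4)
  omega

theorem exists_unit_ne (hF : 2 < Nat.card F) : ∃ c : Fˣ, c ≠ 1 := by
  obtain ⟨c, hc, h1⟩ := exists_zpow_ne (K := F) hF
  refine ⟨Units.mk0 c hc, fun h => h1 1 one_ne_zero (by norm_num) (by norm_num) ?_⟩
  rw [zpow_one]
  have := congrArg (fun u : Fˣ => (u : F)) h
  exact this

theorem fix_of_ne {a : Fin 4 → ℤ} (ha : a ∈ rts) {d : Fˣ} (hd : d ≠ 1) {h : ↥(chevF4.group F)}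
    (hh : ∀ u, h * eF F a u * h⁻¹ = eF F a (d * u)) : ∀ x ∈ XF F a, h * x = x * h → x = 1 := by
  intro x hx hc
  obtain ⟨u, rfl⟩ := (mem_XF (rt_of ha)).1 hx
  have h1 : eF F a (d * u) = eF F a u := by
    rw [← hh, hc, mul_inv_cancel_right]
  have h2 := eF_inj ha h1
  have h3 : ((d : F) - 1) * u = 0 := by rw [sub_mul, one_mul, h2, sub_self]
  rcases mul_eq_zero.1 h3 with h4 | h4
  · exact absurd (Units.ext (sub_eq_zero.1 h4)) hd
  · rw [h4]; exact (dat (K := F)).zero (rt_of ha)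

theorem k_o (hF : 2 < Nat.card F) : ∃ h ∈ TF F, (∀ x ∈ XF F oa, h * x = x * h) ∧ (∀ x ∈ XF F la, h * x = x * h) ∧
    ∀ y : ↥(chevF4.group F), y * h = h * y →
    (∀ f ∈ rts, (B f f = 4 ∧ 0 ≤ B f oa ∧ 0 < B f la ∨ B f f = 2 ∧ 0 < B f oa ∧ 0 ≤ B f la) →
      ∀ x ∈ XF F f, y * x = x * y) → ∃ a ∈ XF F oa, ∃ b ∈ XF F la, y = a * b := by
  obtain ⟨g, hg⟩ := exists_unit_ne hF
  obtain ⟨h, hh, hc⟩ := exists_torus (K := F) c4 ((zmultiplesHom (Additive Fˣ) (Additive.ofMul g)).comp phi)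
  have hval : ∀ x, (((zmultiplesHom (Additive Fˣ) (Additive.ofMul g)).comp phi) x).toMul = g ^ phi0 x := by
    intro x
    rw [AddMonoidHom.comp_apply, zmultiplesHom_apply]
    rfl
  have hfix : ∀ a ∈ rts, phi0 a = 0 → ∀ x ∈ XF F a, h * x = x * h := by
    intro a ha h0 x hx
    obtain ⟨u, rfl⟩ := (mem_XF (rt_of ha)).1 hx
    have h1 := hc a (rt_of ha) u
    rw [hval, h0, zpow_zero, Units.val_one, one_mul] at h1
    calc h * eF F a u = h * eF F a u * h⁻¹ * h := by group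
      _ = eF F a u * h := by rw [h1]
  refine ⟨h, hh, hfix oa m_oa (by decide), hfix la m_la (by decide), fun y hyh hy => ?_⟩
  have h1 : y ∈ RGD.Sup (XF F) (SetOf (starM PO)) := mem_mask span_o fun r hr hb =>
    hy _ (vv_mem r hr) (cond_o r hr hb)
  have h2 := KFacts.RgdInd.cent_closed (rgd (K := F) isType c4 2)
    (((AddMonoidHom.mk' (fun x : Fin 4 → ℤ => x 0 + x 1 + x 2 + x 3) fun x y => by
      simp only [Pi.add_apply]; ring))) (S := SetOf (starM PO)) (by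
      rintro _ ⟨r, hr, hb, rfl⟩
      refine ⟨rv hr, ?_⟩
      have := star_o' r (List.mem_range.2 hr) hb
      rw [vv_eq]; exact this)
    (by
      rw [← star_SetOf c4]
      exact closed_star fun a ha => isRoot_of_mem_SetOf _ ha) (C := {h}) (by rintro _ rfl; exact hh) h1
    (Subgroup.mem_centralizer_singleton_iff.2 hyh)
  have h3 : RGD.Sup (fun x => XF F x ⊓ Subgroup.centralizer ({h} : Set ↥(chevF4.group F))) (SetOf (starM PO)) ≤
      XF F oa ⊔ XF F la := by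
    refine RGD.Sup_le ?_
    rintro _ ⟨r, hr, hb, rfl⟩ x ⟨hx, hxh⟩
    have hm := vv_mem r (List.mem_range.2 hr)
    rw [vv_eq] at hx
    rcases star_o r (List.mem_range.2 hr) hb with h4 | h4 | h4 | h4
    · rw [h4] at hx; exact Subgroup.mem_sup_left hx
    · rw [h4] at hx; exact Subgroup.mem_sup_right hx
    · have h5 := fix_of_ne hm (d := g ^ phi0 (vv r)) (by rw [h4, zpow_one]; exact hg)
        (fun u => by rw [hc _ (rt_of hm), hval]) x hx (Subgroup.mem_centralizer_singleton_iff.1 hxh).symm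
      rw [h5]; exact one_mem _
    · have h5 := fix_of_ne hm (d := g ^ phi0 (vv r)) (by
          rw [h4, zpow_neg, zpow_one]
          intro h6
          exact hg (inv_eq_one.1 h6))
        (fun u => by rw [hc _ (rt_of hm), hval]) x hx (Subgroup.mem_centralizer_singleton_iff.1 hxh).symm
      rw [h5]; exact one_mem _
  exact (KFacts.RgdAutCent.mem_sup_comm (x0 m_oa m_la (by decide))).1 (h3 h2)

/-! ### In `G` -/

variable {G : Type u} [Group G] {t : G} {f : ↥(chevF4.group F) →* G}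

/-- `g ∈ C(t)` commuting with one root group. -/
theorem exists_f (R : Frame t f) {a : Fin 4 → ℤ} (ha : a ∈ rts) {g : G} (hg : g * t = t * g)
    (h : ∀ x ∈ XG f a, g * x = x * g) : ∃ y, g = f y ∨ g = t * f y := by
  obtain ⟨α, hα⟩ := R.exists_aut hg
  obtain ⟨y, -, rfl⟩ := KFacts.F4Aut.inner_of_fix_X (K := F) c4 (rt_of ha) (α := α) (fun z hz => by
    apply R.inj
    rw [← hα, h _ ⟨z, hz, rfl⟩, mul_inv_cancel_right])
  exact ⟨y, R.mem_of_conj hg fun x => by rw [hα, MulAut.conj_apply]⟩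

theorem comm_of (R : Frame t f) {g : G} {y : ↥(chevF4.group F)} (h : g = f y ∨ g = t * f y) {x : ↥(chevF4.group F)}
    (hx : g * f x = f x * g) : y * x = x * y := by
  apply R.inj
  rw [map_mul, map_mul]
  rcases h with rfl | rfl
  · exact hx
  · have h1 : t * (f y * f x) = t * (f x * f y) := by
      calc t * (f y * f x) = t * f y * f x := by group
        _ = f x * t * f y := by rw [hx]; group
        _ = t * (f x * f y) := by rw [R.ft x]; group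
    exact mul_left_cancel h1

/-- From `F₄(F)` to `C(t)`. -/
theorem transfer (R : Frame t f) {P : (Fin 4 → ℤ) → Prop} {a : Fin 4 → ℤ} (ha : a ∈ rts) (hPa : P a) {g : G}
    (hg : g * t = t * g) (h : ∀ a ∈ rts, P a → ∀ x ∈ XG f a, g * x = x * g) :
    ∃ y, (g = f y ∨ g = t * f y) ∧ ∀ a ∈ rts, P a → ∀ x ∈ XF F a, y * x = x * y := by
  obtain ⟨y, hy⟩ := exists_f R ha hg (h a ha hPa)
  exact ⟨y, hy, fun b hb hPb x hx => comm_of R hy (h b hb hPb _ ⟨x, hx, rfl⟩)⟩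

theorem map3 {A B' C : Subgroup ↥(chevF4.group F)} {y : ↥(chevF4.group F)}
    (h : ∃ a ∈ A, ∃ b ∈ B', ∃ c ∈ C, y = a * b * c) {g : G} (hg : g = f y ∨ g = t * f y) :
    ∃ a ∈ A.map f, ∃ b ∈ B'.map f, ∃ c ∈ C.map f, g = a * b * c ∨ g = t * (a * b * c) := by
  obtain ⟨a, ha, b, hb, c, hc, rfl⟩ := h
  rw [map_mul, map_mul] at hg
  exact ⟨_, ⟨a, ha, rfl⟩, _, ⟨b, hb, rfl⟩, _, ⟨c, hc, rfl⟩, hg⟩

/-- **The K-facts.** -/
theorem kt (R : Frame t f) (hF : 2 < Nat.card F) : KT t (XG f) ((TF F).map f) where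
  c1s k hk h := by
    obtain ⟨y, hy, hc⟩ := transfer R (P := fun a => 0 ≤ B a sa ∧ 0 ≤ B a sb ∧ ¬ (B a a = 4 ∧ B a sa = 0 ∧ B a sb = 0))
      m_la (by decide) hk fun a ha hP => h a ha hP.1 hP.2.1 hP.2.2
    exact map3 (k_s fun a ha h1 h2 h3 => hc a ha ⟨h1, h2, h3⟩) hy
  c1l k hk h := by
    obtain ⟨y, hy, hc⟩ := transfer R (P := fun a => 0 ≤ B a la ∧ 0 ≤ B a lb ∧ ¬ (B a a = 2 ∧ B a la = 0 ∧ B a lb = 0))
      m_la (by decide) hk fun a ha hP => h a ha hP.1 hP.2.1 hP.2.2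
    exact map3 (k_l fun a ha h1 h2 h3 => hc a ha ⟨h1, h2, h3⟩) hy
  c2 := by
    obtain ⟨h, hh, h1, h2, h3⟩ := k_o hF
    refine ⟨f h, ⟨h, hh, rfl⟩, ?_, ?_, fun k hk hkh hk2 => ?_⟩
    · rintro _ ⟨x, hx, rfl⟩
      rw [← map_mul, h1 x hx, map_mul]
    · rintro _ ⟨x, hx, rfl⟩
      rw [← map_mul, h2 x hx, map_mul]
    · obtain ⟨y, hy, hc⟩ := transfer R (P := fun f => B f f = 4 ∧ 0 ≤ B f oa ∧ 0 < B f la ∨
        B f f = 2 ∧ 0 < B f oa ∧ 0 ≤ B f la) m_la (by decide) hk hk2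
      obtain ⟨a, ha, b, hb, rfl⟩ := h3 y (comm_of R hy hkh) hc
      rw [map_mul] at hy
      exact ⟨_, ⟨a, ha, rfl⟩, _, ⟨b, hb, rfl⟩, hy⟩
  nds := by
    rintro _ ⟨x, hx, rfl⟩ _ ⟨y, hy, rfl⟩
    obtain ⟨a, rfl⟩ := (mem_XF (rt_of m_sr)).1 hx
    obtain ⟨b, rfl⟩ := (mem_XF (rt_of m_sa)).1 hy
    have h1 := KFacts.F4Model.comm2 (K := F) m_sr m_sa (by decide) (by decide) (by decide) a b
    have e1 : sr + sa = sb := by decide +kernel
    have e2 : sb + sa = la := by decide +kernel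
    rw [e1, e2, commutatorElement_def] at h1
    refine ⟨_, ⟨_, e_mem_X (rt_of m_sb) (a * b), rfl⟩, _, ⟨_, e_mem_X (rt_of m_la) (a * b ^ 2), rfl⟩, ?_, fun h2 => ?_⟩
    · have h2 := congrArg f h1
      rw [map_mul, map_mul, map_mul, map_mul, map_inv, map_inv] at h2
      exact h2
    · have h3 : eF F la (a * b ^ 2) = 1 := R.inj (by rw [h2, map_one])
      rcases mul_eq_zero.1 ((dat (K := F)).inj _ (rt_of m_la) _ h3) with h4 | h4
      · left; rw [h4, (dat (K := F)).zero (rt_of m_sr), map_one]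
      · right
        rw [pow_eq_zero_iff (two_ne_zero)] at h4
        rw [h4, (dat (K := F)).zero (rt_of m_sa), map_one]
  ndl := by
    rintro _ ⟨x, hx, rfl⟩ _ ⟨y, hy, rfl⟩
    obtain ⟨a, rfl⟩ := (mem_XF (rt_of m_la)).1 hx
    obtain ⟨b, rfl⟩ := (mem_XF (rt_of m_lr)).1 hy
    have h1 := KFacts.F4Model.comm2 (K := F) m_la m_lr (by decide) (by decide) (by decide) a b
    have e1 : la + lr = sa := by decide +kernel
    have e2 : sa + lr = lb := by decide +kernel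
    rw [e1, e2, commutatorElement_def] at h1
    refine ⟨_, ⟨_, e_mem_X (rt_of m_sa) (a * b), rfl⟩, _, ⟨_, e_mem_X (rt_of m_lb) (a * b ^ 2), rfl⟩, ?_, fun h2 => ?_⟩
    · have h2 := congrArg f h1
      rw [map_mul, map_mul, map_mul, map_mul, map_inv, map_inv] at h2
      exact h2
    · have h3 : eF F sa (a * b) = 1 := R.inj (by rw [h2, map_one])
      rcases mul_eq_zero.1 ((dat (K := F)).inj _ (rt_of m_sa) _ h3) with h4 | h4
      · left; rw [h4, (dat (K := F)).zero (rt_of m_la), map_one]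
      · right; rw [h4, (dat (K := F)).zero (rt_of m_lr), map_one]
  Ht := by
    rintro _ ⟨h, -, rfl⟩
    exact (R.ft h).symm
  tor a ha b hb hab hab' := by
    obtain ⟨d, hd⟩ := exists_unit_ne hF
    obtain ⟨h, hh, h1, h2⟩ := torus_fix (K := F) c4 (rt_of hb) (rt_of ha) hab hab' d
    refine ⟨f h, ⟨h, hh, rfl⟩, ?_, ?_⟩
    · rintro _ ⟨x, hx, rfl⟩
      obtain ⟨u, rfl⟩ := (mem_XF (rt_of ha)).1 hx
      rw [← map_mul, ← map_mul]
      congr 1
      have h3 := h2 u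
      calc h * eF F a u = h * eF F a u * h⁻¹ * h := by group
        _ = eF F a u * h := by rw [h3]
    · rintro _ ⟨x, hx, rfl⟩ hc
      rw [fix_of_ne hb hd h1 x hx (R.inj (by rw [map_mul, map_mul]; exact hc)), map_one]

end Cfsg.Agent.OddHalf.D7F4.TypeCInst

end

-- merged: Cfsg.Agent.OddHalf.D7F4Ex.GDataF
section

/-!
# `GData` at `s0` for a frame `f : F₄(q) → C_G(t)`, `q ≥ 4` even, in both charts
-/

set_option autoImplicit false
set_option linter.unusedSectionVars false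
set_option linter.style.haveILetI false

namespace Cfsg.Agent.OddHalf.D7F4Ex

open Subgroup Cfsg.Lie Cfsg.Agent.OddHalf.D7F4 Cfsg.Agent.OddHalf.D7F4.Model Loc

/-! ### Tables -/

theorem k_P : ∀ a ∈ rts, 0 ≤ B a s0 → a = s0 ∨ (∃ j, a = rv j) ∨ (∃ i, a = rz i) ∨ (∃ j, a = rc j) ∨
    ∃ j k : J, j.1 ≠ k.1 ∧ a = rl j k := by decide +kernel
theorem k_Q : ∀ a ∈ rts, 0 < B a s0 → a = s0 ∨ (∃ j, a = rv j) ∨ (∃ i, a = rz i) := by decide +kernel
theorem k_T : ∀ a ∈ rts, Cs s0 a → a = s0 ∨ (∃ j, a = rv j) ∨ (∃ i, a = rz i) ∨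
    ∃ j k : J, j.1 ≠ k.1 ∧ a = rl j k := by unfold Cs; decide +kernel
theorem p_s0 : 0 < B s0 s0 := by decide +kernel
theorem n_s0 : B s0 s0 = 2 := by decide +kernel
theorem p_rv : ∀ j, 0 < B (rv j) s0 ∧ B (rv j) (rv j) = 4 := by decide +kernel
theorem p_rz : ∀ i, 0 < B (rz i) s0 ∧ B (rz i) (rz i) = 2 := by decide +kernel
theorem p_rc : ∀ j, B (rc j) s0 = 0 ∧ B (rc j) (rc j) = 2 := by decide +kernel
theorem p_rl : ∀ j k : J, j.1 ≠ k.1 → B (rl j k) s0 = 0 ∧ B (rl j k) (rl j k) = 4 := by decide +kernel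
theorem e_rv : ∀ j, dd (rv j) 0 = 2 := by decide +kernel
theorem e_rz : ∀ i, dd (rz i) 0 = 1 := by decide +kernel
theorem e_rc : ∀ j, dd (rc j) 0 = 0 := by decide +kernel
theorem e_rl : ∀ j k : J, dd (rl j k) 0 = 0 := by decide +kernel

section Gen

variable {F : Type*} [Field F] {Y G : Type*} [Group Y] [Group G]

theorem chd_consH_s0 (ν : Fin 3 → Fˣ) : chd (consH ν) s0 = 1 := by
  rw [chd_consH, d_s0]
  show ν 0 ^ (0 : ℤ) * ν 1 ^ (0 : ℤ) * ν 2 ^ (0 : ℤ) = 1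
  rw [zpow_zero, zpow_zero, zpow_zero, mul_one, mul_one]

theorem consH_of_chd (h2 : ∀ a : F, a + a = 0) {ν : Fin 4 → Fˣ} (h : chd ν s0 = 1) :
    ν = consH (fun i => ν i.succ) := by
  rw [chd_eq, d_s0] at h
  have h1 : ν 0 ^ (2 : ℤ) = 1 := by
    have h' : ν 0 ^ (2 : ℤ) * ν 1 ^ (0 : ℤ) * ν 2 ^ (0 : ℤ) * ν 3 ^ (0 : ℤ) = 1 := h
    rwa [zpow_zero, zpow_zero, zpow_zero, mul_one, mul_one, mul_one] at h'
  have h3 : ν 0 = 1 := by
    apply Units.ext
    have h4 : ((ν 0 : Fˣ) : F) ^ 2 = 1 := by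
      have := congrArg (fun u : Fˣ => (u : F)) h1
      simpa using this
    have h5 : (((ν 0 : Fˣ) : F) + 1) * (((ν 0 : Fˣ) : F) + 1) = 0 := by
      calc _ = ((ν 0 : Fˣ) : F) ^ 2 + (((ν 0 : Fˣ) : F) + ((ν 0 : Fˣ) : F)) + 1 := by ring
        _ = 0 := by rw [h4, h2, add_zero, h2]
    have h6 := mul_self_eq_zero.1 h5
    have h7 : ((ν 0 : Fˣ) : F) = (((ν 0 : Fˣ) : F) + 1) + 1 := by rw [add_assoc, h2, add_zero]
    rw [h7, h6, zero_add, Units.val_one]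
  funext i
  fin_cases i
  · exact h3
  all_goals rfl

variable {E : (Fin 4 → ℤ) → F → Y} {T : (Fin 4 → Fˣ) →* Y}

theorem Q_eq : Qs (E s0) (fun j => E (rv j)) (fun i => E (rz i)) = QE E s0 := by
  apply le_antisymm
  · rw [Qs, closure_le]
    rintro g ((⟨a, rfl⟩ | ⟨j, a, rfl⟩) | ⟨i, a, rfl⟩)
    · exact mem_QE s0_mem p_s0 a
    · exact mem_QE (rv_mem j) (p_rv j).1 a
    · exact mem_QE (rz_mem i) (p_rz i).1 a
  · rw [QE, closure_le]
    rintro g ⟨a, ha, h, u, rfl⟩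
    rcases k_Q a ha h with rfl | ⟨j, rfl⟩ | ⟨i, rfl⟩
    · exact V_le_Q (X_le_V (subset_closure ⟨u, rfl⟩))
    · exact V_le_Q (v_mem (x0 := E s0) (v := fun j => E (rv j)) j u)
    · exact z_mem (x0 := E s0) (v := fun j => E (rv j)) (z := fun i => E (rz i)) i u

theorem T_eq (C : Chart E T) : Pt (E s0) (fun j => E (rv j)) (fun i => E (rz i)) (fun j k => E (rl j k))
    (T.comp consH) = PT E T s0 := by
  apply le_antisymm
  · rw [Pt, closure_le]
    rintro g ((⟨a, rfl⟩ | ⟨j, a, rfl⟩) | ⟨i, a, rfl⟩ | ⟨j, k, a, h, rfl⟩ | ⟨ν, rfl⟩)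
    · exact subset_closure (Or.inl ⟨s0, s0_mem, Or.inr ⟨n_s0, p_s0⟩, a, rfl⟩)
    · exact subset_closure (Or.inl ⟨rv j, rv_mem j, Or.inl ⟨(p_rv j).2, (p_rv j).1.le⟩, a, rfl⟩)
    · exact subset_closure (Or.inl ⟨rz i, rz_mem i, Or.inr ⟨(p_rz i).2, (p_rz i).1⟩, a, rfl⟩)
    · exact subset_closure (Or.inl ⟨rl j k, rl_mem j k h, Or.inl ⟨(p_rl j k h).2, (p_rl j k h).1.ge⟩, a, rfl⟩)
    · exact subset_closure (Or.inr ⟨consH ν, chd_consH_s0 ν, rfl⟩)
  · rw [PT, closure_le]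
    rintro g (⟨a, ha, h, u, rfl⟩ | ⟨ν, h, rfl⟩)
    · rcases k_T a ha h with rfl | ⟨j, rfl⟩ | ⟨i, rfl⟩ | ⟨j, k, hjk, rfl⟩
      · exact subset_closure (Or.inl (Or.inl ⟨u, rfl⟩))
      · exact subset_closure (Or.inl (Or.inr ⟨j, u, rfl⟩))
      · exact subset_closure (Or.inr (Or.inl ⟨i, u, rfl⟩))
      · exact subset_closure (Or.inr (Or.inr (Or.inl ⟨j, k, u, hjk, rfl⟩)))
    · rw [consH_of_chd C.two h]
      exact subset_closure (Or.inr (Or.inr (Or.inr ⟨_, rfl⟩)))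

theorem P_eq (C : KC E T) : Ps (E s0) (fun j => E (rv j)) (fun i => E (rz i)) (fun j => E (rc j))
    (fun j k => E (rl j k)) (T.comp consH) = PE E s0 := by
  apply le_antisymm
  · rw [Ps, closure_le]
    rintro g ((⟨a, rfl⟩ | ⟨j, a, rfl⟩) | ⟨i, a, rfl⟩ | ⟨j, a, rfl⟩ | ⟨j, k, a, h, rfl⟩ | ⟨ν, rfl⟩)
    · exact mem_PE s0_mem p_s0.le a
    · exact mem_PE (rv_mem j) (p_rv j).1.le a
    · exact mem_PE (rz_mem i) (p_rz i).1.le a
    · exact mem_PE (rc_mem j) (p_rc j).1.ge a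
    · exact mem_PE (rl_mem j k h) (p_rl j k h).1.ge a
    · exact C.cX s0 s0_mem n_s0 1 one_ne_zero _ (C.chart.tor_comm s0_mem (chd_consH_s0 ν) 1)
  · rw [PE, closure_le]
    rintro g ⟨a, ha, h, u, rfl⟩
    rcases k_P a ha h with rfl | ⟨j, rfl⟩ | ⟨i, rfl⟩ | ⟨j, rfl⟩ | ⟨j, k, hjk, rfl⟩
    · exact subset_closure (Or.inl (Or.inl ⟨u, rfl⟩))
    · exact subset_closure (Or.inl (Or.inr ⟨j, u, rfl⟩))
    · exact subset_closure (Or.inr (Or.inl ⟨i, u, rfl⟩))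
    · exact subset_closure (Or.inr (Or.inr (Or.inl ⟨j, u, rfl⟩)))
    · exact subset_closure (Or.inr (Or.inr (Or.inr (Or.inl ⟨j, k, u, hjk, rfl⟩))))

theorem map_PE (f : Y →* G) (s : Fin 4 → ℤ) : PE (fun a u => f (E a u)) s = (PE E s).map f := by
  rw [PE, PE, MonoidHom.map_closure]
  congr 1
  ext g
  constructor
  · rintro ⟨a, ha, h, u, rfl⟩; exact ⟨_, ⟨a, ha, h, u, rfl⟩, rfl⟩
  · rintro ⟨_, ⟨a, ha, h, u, rfl⟩, rfl⟩; exact ⟨a, ha, h, u, rfl⟩

theorem map_QE (f : Y →* G) (s : Fin 4 → ℤ) : QE (fun a u => f (E a u)) s = (QE E s).map f := by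
  rw [QE, QE, MonoidHom.map_closure]
  congr 1
  ext g
  constructor
  · rintro ⟨a, ha, h, u, rfl⟩; exact ⟨_, ⟨a, ha, h, u, rfl⟩, rfl⟩
  · rintro ⟨_, ⟨a, ha, h, u, rfl⟩, rfl⟩; exact ⟨a, ha, h, u, rfl⟩

theorem map_PT (f : Y →* G) (s : Fin 4 → ℤ) : PT (fun a u => f (E a u)) (f.comp T) s = (PT E T s).map f := by
  rw [PT, PT, MonoidHom.map_closure]
  congr 1
  ext g
  constructor
  · rintro (⟨a, ha, h, u, rfl⟩ | ⟨ν, h, rfl⟩)
    · exact ⟨_, Or.inl ⟨a, ha, h, u, rfl⟩, rfl⟩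
    · exact ⟨_, Or.inr ⟨ν, h, rfl⟩, rfl⟩
  · rintro ⟨_, (⟨a, ha, h, u, rfl⟩ | ⟨ν, h, rfl⟩), rfl⟩
    · exact Or.inl ⟨a, ha, h, u, rfl⟩
    · exact Or.inr ⟨ν, h, rfl⟩

theorem map_P (f : Y →* G) {x0 : F → Y} {v : J → F → Y} {z : Sp → F → Y} {c : J → F → Y} {l : J → J → F → Y}
    {th : (Fin 3 → Fˣ) →* Y} : Ps (fun a => f (x0 a)) (fun j a => f (v j a)) (fun i a => f (z i a))
      (fun j a => f (c j a)) (fun j k a => f (l j k a)) (f.comp th) = (Ps x0 v z c l th).map f := by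
  rw [Ps, Ps, MonoidHom.map_closure]
  congr 1
  ext g
  constructor
  · rintro ((⟨a, rfl⟩ | ⟨j, a, rfl⟩) | ⟨i, a, rfl⟩ | ⟨j, a, rfl⟩ | ⟨j, k, a, h, rfl⟩ | ⟨ν, rfl⟩)
    · exact ⟨_, Or.inl (Or.inl ⟨a, rfl⟩), rfl⟩
    · exact ⟨_, Or.inl (Or.inr ⟨j, a, rfl⟩), rfl⟩
    · exact ⟨_, Or.inr (Or.inl ⟨i, a, rfl⟩), rfl⟩
    · exact ⟨_, Or.inr (Or.inr (Or.inl ⟨j, a, rfl⟩)), rfl⟩
    · exact ⟨_, Or.inr (Or.inr (Or.inr (Or.inl ⟨j, k, a, h, rfl⟩))), rfl⟩
    · exact ⟨_, Or.inr (Or.inr (Or.inr (Or.inr ⟨ν, rfl⟩))), rfl⟩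
  · rintro ⟨_, ((⟨a, rfl⟩ | ⟨j, a, rfl⟩) | ⟨i, a, rfl⟩ | ⟨j, a, rfl⟩ | ⟨j, k, a, h, rfl⟩ | ⟨ν, rfl⟩), rfl⟩
    · exact Or.inl (Or.inl ⟨a, rfl⟩)
    · exact Or.inl (Or.inr ⟨j, a, rfl⟩)
    · exact Or.inr (Or.inl ⟨i, a, rfl⟩)
    · exact Or.inr (Or.inr (Or.inl ⟨j, a, rfl⟩))
    · exact Or.inr (Or.inr (Or.inr (Or.inl ⟨j, k, a, h, rfl⟩)))
    · exact Or.inr (Or.inr (Or.inr (Or.inr ⟨ν, rfl⟩)))

/-- conjugation on a finite subgroup -/
theorem conj_inv {S : Subgroup G} [Finite S] {n : G} (h : ∀ x ∈ S, n * x * n⁻¹ ∈ S) : ∀ x ∈ S, n⁻¹ * x * n ∈ S := by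
  have h1 : Function.Injective (fun x : S => (⟨n * x.1 * n⁻¹, h x.1 x.2⟩ : S)) := by
    intro x y hxy
    have := congrArg Subtype.val hxy
    exact Subtype.ext (mul_left_cancel (mul_right_cancel this))
  intro x hx
  obtain ⟨y, hy⟩ := (Finite.injective_iff_surjective.1 h1) ⟨x, hx⟩
  have h2 : n * y.1 * n⁻¹ = x := congrArg Subtype.val hy
  have h3 : n⁻¹ * x * n = y.1 := by rw [← h2]; group
  rw [h3]; exact y.2

/-- `Q` is a `2`-group. -/
theorem isPGroup_Q (C : Chart E T) : IsPGroup 2 (QE E s0) := by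
  rintro ⟨q, hq⟩
  refine ⟨2, Subtype.ext ?_⟩
  rw [← Q_eq] at hq
  have h1 := C.loc.Q2 hq
  have h2 := C.loc.V2 h1
  show q ^ 4 = 1
  rw [← h2, ← pow_two, ← pow_two, ← pow_mul]

end Gen

section Main

universe u

variable {F : Type u} [Field F] [Finite F] {G : Type*} [Group G] {E : (Fin 4 → ℤ) → F → ↥(chevF4.group F)}
  {T : (Fin 4 → Fˣ) →* ↥(chevF4.group F)} {t : G} {f : ↥(chevF4.group F) →* G}

/-- an element normalising `X` and `t X` normalises `P` -/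
theorem norm_P (C : KC E T) (R : Frame t f) {n : G} (h2 : ∀ u, ∃ u', n⁻¹ * f (E s0 u) * n = f (E s0 u')) (h3 : ∃ u, t * (n * t * n⁻¹) = f (E s0 u)) :
    ∀ x ∈ PE E s0, ∃ x' ∈ PE E s0, n * f x * n⁻¹ = f x' := by
  refine R.res (P := PE E s0) (Q := Set.range (E s0)) (C.perf s0 s0_mem n_s0) (fun x => ⟨fun hx => ?_, fun hx => ?_⟩) ?_
  · rintro _ ⟨u, rfl⟩
    have hle : PE E s0 ≤ centralizer {E s0 u} := by
      rw [PE, closure_le]
      rintro g ⟨a, ha, h, v, rfl⟩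
      rw [SetLike.mem_coe, mem_centralizer_singleton_iff]
      exact C.chart.c0 a ha s0 s0_mem h v u
    exact mem_centralizer_singleton_iff.1 (hle hx)
  · exact C.cX s0 s0_mem n_s0 1 one_ne_zero x (hx _ ⟨1, rfl⟩)
  · intro c hct hc
    have hX : ∀ u, n * c * n⁻¹ * f (E s0 u) = f (E s0 u) * (n * c * n⁻¹) := by
      intro u
      obtain ⟨u', hu'⟩ := h2 u
      have h4 := hc _ ⟨u', rfl⟩
      rw [← hu'] at h4
      calc n * c * n⁻¹ * f (E s0 u) = n * (c * (n⁻¹ * f (E s0 u) * n)) * n⁻¹ := by group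
        _ = n * ((n⁻¹ * f (E s0 u) * n) * c) * n⁻¹ := by rw [h4]
        _ = _ := by group
    refine ⟨?_, ?_⟩
    · obtain ⟨u, hu⟩ := h3
      have h5 : n * t * n⁻¹ = t * f (E s0 u) := by
        rw [← hu, ← mul_assoc, ← mul_assoc, ← mul_assoc, R.tt, one_mul]
      have h6 : t = n * t * n⁻¹ * (f (E s0 u))⁻¹ := by rw [h5]; group
      have h7 := hX u
      have h8 : n * c * n⁻¹ * (f (E s0 u))⁻¹ = (f (E s0 u))⁻¹ * (n * c * n⁻¹) := by
        rw [eq_inv_mul_iff_mul_eq, ← mul_assoc, ← h7, mul_inv_cancel_right]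
      calc n * c * n⁻¹ * t = n * c * n⁻¹ * (n * t * n⁻¹ * (f (E s0 u))⁻¹) := by rw [← h6]
        _ = n * (c * t) * n⁻¹ * (f (E s0 u))⁻¹ := by group
        _ = n * (t * c) * n⁻¹ * (f (E s0 u))⁻¹ := by rw [hct]
        _ = n * t * n⁻¹ * (n * c * n⁻¹ * (f (E s0 u))⁻¹) := by group
        _ = n * t * n⁻¹ * (f (E s0 u))⁻¹ * (n * c * n⁻¹) := by rw [h8]; group
        _ = t * (n * c * n⁻¹) := by rw [← h6]
    · rintro _ ⟨u, rfl⟩
      exact hX u

/-- **`GData` at `s0`.** -/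
theorem gdata (C : KC E T) (R : Frame t f) : GData t (f.comp (T.comp oneH)) (fun u => f (E s0 u))
    (fun j u => f (E (rv j) u)) (fun i u => f (E (rz i) u)) (fun j u => f (E (rc j) u))
    (fun j k u => f (E (rl j k) u)) (f.comp (T.comp consH)) := by
  have L := C.chart.loc
  have C' := C.chart.map f R.inj
  have L' := C'.loc
  have hP : Ps (fun u => f (E s0 u)) (fun j u => f (E (rv j) u)) (fun i u => f (E (rz i) u))
      (fun j u => f (E (rc j) u)) (fun j k u => f (E (rl j k) u)) (f.comp (T.comp consH)) = (PE E s0).map f := by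
    rw [map_P, P_eq C]
  have hQ : Qs (fun u => f (E s0 u)) (fun j u => f (E (rv j) u)) (fun i u => f (E (rz i) u)) = (QE E s0).map f := by
    rw [← map_QE, ← Q_eq]
  have hT : Pt (fun u => f (E s0 u)) (fun j u => f (E (rv j) u)) (fun i u => f (E (rz i) u))
      (fun j k u => f (E (rl j k) u)) (f.comp (T.comp consH)) = (PT E T s0).map f := by
    rw [← map_PT, ← T_eq C']
    rfl
  have hsE : ∀ (μ : Fˣ) (a : Fin 4 → ℤ), a ∈ rts → ∀ u, (f.comp (T.comp oneH)) μ * f (E a u) *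
      ((f.comp (T.comp oneH)) μ)⁻¹ = f (E a (((μ ^ dd a 0 : Fˣ) : F) * u)) := by
    intro μ a ha u
    rw [← chd_oneH, ← C.chart.tor a ha, map_mul, map_mul, map_inv]
    rfl
  refine ⟨R.tt, ?_, ?_, ?_, ?_, ?_, ?_, ?_, ?_, ?_, ?_, ?_⟩
  · intro a h
    exact R.not_mem_range C.cen _ h.symm
  · intro p hp
    rw [hP] at hp
    obtain ⟨y, -, rfl⟩ := hp
    exact (R.ft y).symm
  · intro μ
    exact (R.ft _).symm
  · intro μ a
    rw [hsE μ s0 s0_mem, d_s0]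
    show f (E s0 (((μ ^ (2 : ℤ) : Fˣ) : F) * a)) = _
    norm_cast
  · intro μ j a
    rw [hsE μ (rv j) (rv_mem j), e_rv]
    norm_cast
  · intro μ i a
    rw [hsE μ (rz i) (rz_mem i), e_rz, zpow_one]
  · intro μ j a
    have h := hsE μ (rc j) (rc_mem j) a
    rw [e_rc, zpow_zero, Units.val_one, one_mul] at h
    exact (mul_inv_eq_iff_eq_mul.1 h)
  · intro μ j k a hjk
    have h := hsE μ (rl j k) (rl_mem j k hjk) a
    rw [e_rl, zpow_zero, Units.val_one, one_mul] at h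
    exact (mul_inv_eq_iff_eq_mul.1 h)
  · intro μ ν
    show f (T (oneH μ)) * f (T (consH ν)) = f (T (consH ν)) * f (T (oneH μ))
    rw [← map_mul, ← map_mul, ← map_mul, ← map_mul, mul_comm]
  · intro n hn1 hn3
    haveI : Finite (Xs (fun u => f (E s0 u))) := by
      refine Set.Finite.subset (Set.finite_range fun u => f (E s0 u)) ?_
      intro g hg
      obtain ⟨a, rfl⟩ := L'.mem_X.1 hg
      exact ⟨a, rfl⟩
    have hn2 := conj_inv hn1
    have e2 : ∀ u, ∃ u', n⁻¹ * f (E s0 u) * n = f (E s0 u') := fun u => L'.mem_X.1 (hn2 _ (L'.x0_mem u))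
    have e3 : ∃ u, t * (n * t * n⁻¹) = f (E s0 u) := L'.mem_X.1 hn3
    have hPn := norm_P C R e2 e3
    have hPn' : ∀ p ∈ (PE E s0).map f, n * p * n⁻¹ ∈ (PE E s0).map f := by
      rintro _ ⟨x, hx, rfl⟩
      obtain ⟨x', hx', h⟩ := hPn x hx
      rw [h]
      exact ⟨x', hx', rfl⟩
    have fin : ∀ S : Subgroup ↥(chevF4.group F), Finite ↥(S.map f) := fun S =>
      Set.Finite.to_subtype ((Set.toFinite (S : Set ↥(chevF4.group F))).image f)
    haveI := fin (PE E s0)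
    haveI := fin (QE E s0)
    have hPi := conj_inv hPn'
    have hQn : ∀ q ∈ (QE E s0).map f, n * q * n⁻¹ ∈ (QE E s0).map f := by
      set Rn : Subgroup ↥(chevF4.group F) := (((QE E s0).map f).map (MulAut.conj n).toMonoidHom).comap f with hRn
      have h2 : IsPGroup 2 Rn := by
        refine IsPGroup.comap_of_injective ?_ f R.inj
        exact ((isPGroup_Q C.chart).map f).map _
      have hle : Rn ≤ QE E s0 := by
        refine C.core s0 s0_mem n_s0 Rn h2 ?_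
        rintro p hp r ⟨_, ⟨y, hy, rfl⟩, hyr⟩
        have hyr' : n * f y * n⁻¹ = f r := hyr
        obtain ⟨p', hp', hpp⟩ := hPi (f p) ⟨p, hp, rfl⟩
        refine ⟨_, ⟨p' * y * p'⁻¹, ?_, rfl⟩, ?_⟩
        · show p' * y * p'⁻¹ ∈ QE E s0
          have h3 : y ∈ QE E s0 := hy
          rw [← Q_eq] at h3 ⊢
          have h4 : p' ∈ PE E s0 := hp'
          rw [← P_eq C] at h4
          exact L.PQ h4 h3
        · show n * f (p' * y * p'⁻¹) * n⁻¹ = f (p * r * p⁻¹)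
          rw [map_mul, map_mul, map_inv, map_mul, map_mul, map_inv, hpp, ← hyr']
          group
      rintro _ ⟨y, hy, rfl⟩
      have hy' : y ∈ PE E s0 := by
        have h3 : y ∈ QE E s0 := hy
        rw [← Q_eq] at h3
        rw [← P_eq C]
        exact Q_le_P h3
      obtain ⟨y', -, h⟩ := hPn y hy'
      rw [h]
      exact ⟨y', hle ⟨_, ⟨y, hy, rfl⟩, h⟩, rfl⟩
    have hQi := conj_inv hQn
    refine ⟨?_, ?_, ?_⟩
    · rw [hP]; exact hPn'
    · rw [hQ]; exact hQn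
    · intro y hy
      have h1 : y ∈ Qs (fun u => f (E s0 u)) (fun j u => f (E (rv j) u)) (fun i u => f (E (rz i) u)) := V_le_Q hy
      refine L'.ZQ ?_ ?_
      · rw [hQ] at h1 ⊢
        exact hQn y h1
      · intro q hq
        have h2 : n⁻¹ * q * n ∈ Qs (fun u => f (E s0 u)) (fun j u => f (E (rv j) u)) (fun i u => f (E (rz i) u)) := by
          rw [hQ] at hq ⊢
          exact hQi q hq
        have h3 := L'.VQ hy h2
        calc n * y * n⁻¹ * q = n * (y * (n⁻¹ * q * n)) * n⁻¹ := by group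
          _ = n * ((n⁻¹ * q * n) * y) * n⁻¹ := by rw [h3]
          _ = _ := by group
  · intro g hgt hg
    rw [hT] at hg
    obtain ⟨α, hα⟩ := R.exists_aut hgt.symm
    have hX : ∀ a ∈ rts, Cs s0 a → ∀ u, g * f (E a u) = f (E a u) * g := fun a ha h u =>
      hg _ ⟨_, subset_closure (Or.inl ⟨a, ha, h, u, rfl⟩), rfl⟩
    obtain ⟨x, rfl⟩ := C.inn s0 s0_mem n_s0 α fun u => by
      apply R.inj
      rw [← hα, hX s0 s0_mem (Or.inr ⟨n_s0, p_s0⟩), mul_inv_cancel_right]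
    have h1 := R.mem_of_conj hgt.symm (x := x) hα
    have h2 : ∀ a ∈ rts, Cs s0 a → ∀ u, x * E a u = E a u * x := by
      intro a ha h u
      apply R.inj
      rw [map_mul, map_mul]
      rcases h1 with h1 | h1
      · rw [← h1]; exact hX a ha h u
      · have h3 := hX a ha h u
        rw [h1, mul_assoc, ← mul_assoc (f (E a u)), R.ft, mul_assoc t] at h3
        exact mul_left_cancel h3
    obtain ⟨u, rfl⟩ := C.cent s0 s0_mem n_s0 x h2
    rcases h1 with h1 | h1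
    · left
      rw [h1]
      exact L'.x0_mem u
    · right
      rw [h1, ← mul_assoc, R.tt, one_mul]
      exact L'.x0_mem u

end Main

end Cfsg.Agent.OddHalf.D7F4Ex

end

-- merged: Cfsg.Agent.OddHalf.D7F4Ex.Wey
section

/-!
# The Weyl group of a chart (S1765, node D7; F4)

* `WeyE E w k` : `k` acts on the root elements as the isometry `w`;
* `WeyE.one`, `WeyE.mul`, `WeyE.inv`, `WeyE.of_nE`;
* `exists_wey` : transitivity on the short roots, `exists_wey60`, `exists_wey90` : on the pairs of short roots at 60°, 90°;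
* `range_TH`, `TH_norm`, `range_TH_dual`, `TH_norm_dual` : the torus.
-/

set_option autoImplicit false
set_option linter.unusedSectionVars false
set_option Elab.async false

namespace Cfsg.Agent.OddHalf.D7F4Ex

open CoxeterSystem Cfsg.Agent.ChevalleyStructure.CoxeterGeom Cfsg.Agent.Tits.Roots Cfsg.Agent.Tits.Core
open Cfsg.Lie Cfsg.Agent.ChevalleyStructure Cfsg.Agent.ChevalleyStructure.Elts
  Cfsg.Agent.ChevalleyStructure.RootVec Cfsg.Agent.ChevalleyStructure.CoxeterGeomTypes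
open Cfsg.Agent.Nodes Cfsg.Agent.Nodes.Reps Cfsg.Agent.Nodes.BNOf Cfsg.Agent.Nodes.RGDChev Cfsg.Agent.Nodes.Coroot
  Cfsg.Agent.Nodes.KindF Cfsg.Agent.Nodes.Bruhat Cfsg.Agent.KFacts.ChevTwo Cfsg.Agent.KFacts.ChevTwoTab
  Cfsg.Agent.KFacts.ChevTwoInst Cfsg.Agent.KFacts.RgdTI
  Cfsg.Agent.KFacts.F4Star Cfsg.Agent.KFacts.F4Cent Cfsg.Agent.KFacts.F4Pair Cfsg.Agent.KFacts.F4Torus
  Cfsg.Agent.KFacts.F4Perf
open Cfsg.Agent.OddHalf.D7F4.Model

universe u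

/-! ### Reflections -/

theorem B_smul (n : ℤ) (x y : Fin 4 → ℤ) : B (n • x) y = n * B x y := by
  unfold B; simp only [Pi.smul_apply, smul_eq_mul]; ring

theorem B_sub (x y z : Fin 4 → ℤ) : B (x - y) z = B x z - B y z := by
  unfold B; simp only [Pi.sub_apply]; ring

theorem B_add_right (x y z : Fin 4 → ℤ) : B x (y + z) = B x y + B x z := by
  rw [B_symm, B_add, B_symm y, B_symm z]

/-- long roots have even products with all lattice vectors -/
theorem even_long : ∀ a ∈ rts, B a a = 4 → ∀ i : Fin 4, B a (Pi.single i 1) % 2 = 0 := by decide +kernel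

theorem B_single (a x : Fin 4 → ℤ) : B a x = x 0 * B a (Pi.single 0 1) + x 1 * B a (Pi.single 1 1) +
    x 2 * B a (Pi.single 2 1) + x 3 * B a (Pi.single 3 1) := by
  unfold B; simp; ring

theorem even_B {a : Fin 4 → ℤ} (ha : a ∈ rts) (h : B a a = 4) (x : Fin 4 → ℤ) : ∃ m, B a x = 2 * m := by
  have h0 := even_long a ha h 0
  have h1 := even_long a ha h 1
  have h2 := even_long a ha h 2
  have h3 := even_long a ha h 3
  obtain ⟨m0, h0⟩ := Int.dvd_of_emod_eq_zero h0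
  obtain ⟨m1, h1⟩ := Int.dvd_of_emod_eq_zero h1
  obtain ⟨m2, h2⟩ := Int.dvd_of_emod_eq_zero h2
  obtain ⟨m3, h3⟩ := Int.dvd_of_emod_eq_zero h3
  refine ⟨x 0 * m0 + x 1 * m1 + x 2 * m2 + x 3 * m3, ?_⟩
  rw [B_single, h0, h1, h2, h3]
  ring

/-- the Cartan integer -/
theorem coef {a : Fin 4 → ℤ} (ha : a ∈ rts) (x : Fin 4 → ℤ) : (2 * B a x / B a a) * B a a = 2 * B a x := by
  apply Int.ediv_mul_cancel
  rcases norm a ha with h | h
  · rw [h]; exact ⟨B a x, rfl⟩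
  · obtain ⟨m, hm⟩ := even_B ha h x
    rw [h, hm]; exact ⟨m, by ring⟩

theorem norm_ne {a : Fin 4 → ℤ} (ha : a ∈ rts) : B a a ≠ 0 := by
  rcases norm a ha with h | h <;> omega

theorem rfl_add {a : Fin 4 → ℤ} (ha : a ∈ rts) (x y : Fin 4 → ℤ) : rfl' a (x + y) = rfl' a x + rfl' a y := by
  have h1 : 2 * B a (x + y) / B a a = 2 * B a x / B a a + 2 * B a y / B a a := by
    apply Int.eq_of_mul_eq_mul_right (norm_ne ha)
    rw [add_mul, coef ha, coef ha, coef ha, B_add_right]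
    ring
  unfold rfl'
  rw [h1, add_smul]
  abel

theorem B_rfl {a : Fin 4 → ℤ} (ha : a ∈ rts) (x y : Fin 4 → ℤ) : B (rfl' a x) (rfl' a y) = B x y := by
  have hx := coef ha x
  have hy := coef ha y
  unfold rfl'
  obtain ⟨m, hm⟩ : ∃ m, m = 2 * B a x / B a a := ⟨_, rfl⟩
  obtain ⟨n, hn⟩ : ∃ n, n = 2 * B a y / B a a := ⟨_, rfl⟩
  rw [← hm] at hx ⊢
  rw [← hn] at hy ⊢
  rw [B_sub, B_smul, B_symm x, B_sub, B_smul, B_symm a (y - n • a), B_sub, B_smul, B_symm y x, B_symm y a]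
  have h1 : m * (n * B a a) = n * (m * B a a) := by ring
  rw [hy, hx] at h1
  have h2 : m * B a y = n * B a x := by linarith
  have h3 : m * (n * B a a) = 2 * (m * B a y) := by rw [hy]; ring
  linarith

theorem rfl_rfl {a : Fin 4 → ℤ} (ha : a ∈ rts) (x : Fin 4 → ℤ) : rfl' a (rfl' a x) = x := by
  have hx := coef ha x
  have hne := norm_ne ha
  have h1 : 2 * B a (rfl' a x) / B a a = -(2 * B a x / B a a) := by
    apply Int.eq_of_mul_eq_mul_right hne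
    rw [coef ha, neg_mul, hx]
    unfold rfl'
    rw [B_symm, B_sub, B_smul, B_symm x]
    linarith
  unfold rfl' at h1 ⊢
  rw [h1, neg_smul]
  abel

theorem rfl_mem : ∀ a ∈ rts, ∀ b ∈ rts, rfl' a b ∈ rts := by
  intro a ha b hb
  have h1 := Coroot.isRoot_refl csF isType.isCartan (mem_rts.2 hb) (mem_rts.2 ha)
  rw [cpr_eq hb ha, B_symm b a] at h1
  exact mem_rts.1 h1

theorem rfl_orth {a x : Fin 4 → ℤ} (h : B a x = 0) : rfl' a x = x := by
  unfold rfl'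
  rw [h, mul_zero, Int.zero_ediv, zero_smul, sub_zero]

variable {F : Type*} [Field F] {G : Type*} [Group G] {E : (Fin 4 → ℤ) → F → G} {T : (Fin 4 → Fˣ) →* G}

/-- `k` acts on the root elements as the isometry `w`. -/
structure WeyE (E : (Fin 4 → ℤ) → F → G) (w : (Fin 4 → ℤ) → (Fin 4 → ℤ)) (k : G) : Prop where
  mem : ∀ a ∈ rts, w a ∈ rts
  surj : ∀ b ∈ rts, ∃ a ∈ rts, w a = b
  iso : ∀ a ∈ rts, ∀ b ∈ rts, B (w a) (w b) = B a b
  add : ∀ x y, w (x + y) = w x + w y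
  act : ∀ a ∈ rts, ∀ u, k * E a u * k⁻¹ = E (w a) u

theorem WeyE.one : WeyE E (fun x => x) 1 where
  mem _ h := h
  surj b hb := ⟨b, hb, rfl⟩
  iso _ _ _ _ := rfl
  add _ _ := rfl
  act a _ u := by rw [one_mul, inv_one, mul_one]

theorem WeyE.mul {w w' : (Fin 4 → ℤ) → (Fin 4 → ℤ)} {k k' : G} (h : WeyE E w k) (h' : WeyE E w' k') :
    WeyE E (fun x => w (w' x)) (k * k') where
  mem a ha := h.mem _ (h'.mem a ha)
  surj b hb := by
    obtain ⟨c, hc, rfl⟩ := h.surj b hb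
    obtain ⟨a, ha, rfl⟩ := h'.surj c hc
    exact ⟨a, ha, rfl⟩
  iso a ha b hb := by
    rw [h.iso _ (h'.mem a ha) _ (h'.mem b hb), h'.iso a ha b hb]
  add x y := by rw [h'.add, h.add]
  act a ha u := by
    have e : k * k' * E a u * (k * k')⁻¹ = k * (k' * E a u * k'⁻¹) * k⁻¹ := by group
    rw [e, h'.act a ha, h.act _ (h'.mem a ha)]

/-- the standard basis consists of roots -/
theorem single_mem : ∀ i : Fin 4, Pi.single i 1 ∈ rts := by decide +kernel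

theorem WeyE.inv {w : (Fin 4 → ℤ) → (Fin 4 → ℤ)} {k : G} (h : WeyE E w k) :
    ∃ w', WeyE E w' k⁻¹ ∧ (∀ x, w' (w x) = x) ∧ ∀ x, w (w' x) = x := by
  obtain ⟨φ, hφ⟩ : ∃ φ : (Fin 4 → ℤ) →ₗ[ℤ] (Fin 4 → ℤ), ∀ x, φ x = w x :=
    ⟨(AddMonoidHom.mk' w h.add).toIntLinearMap, fun _ => rfl⟩
  have hsurj : Function.Surjective φ := by
    intro x
    choose c hc hc' using fun i => h.surj _ (single_mem i)
    refine ⟨∑ i, x i • c i, ?_⟩
    rw [map_sum]
    conv_rhs => rw [← Finset.univ_sum_single x]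
    refine Finset.sum_congr rfl fun i _ => ?_
    rw [map_smul, hφ, hc']
    ext j
    rw [Pi.smul_apply, smul_eq_mul, Pi.single_apply, Pi.single_apply]
    split_ifs <;> simp
  have hinj : Function.Injective φ := IsNoetherian.injective_of_surjective_endomorphism φ hsurj
  obtain ⟨w', hw'⟩ : ∃ w' : (Fin 4 → ℤ) → (Fin 4 → ℤ), ∀ x, w (w' x) = x := by
    choose w' hw' using hsurj
    exact ⟨w', fun x => by rw [← hφ, hw']⟩
  have hinj' : ∀ x y, w x = w y → x = y := fun x y hxy => hinj (by rw [hφ, hφ, hxy])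
  have hw'' : ∀ x, w' (w x) = x := fun x => hinj' _ _ (hw' _)
  refine ⟨w', ⟨?_, ?_, ?_, ?_, ?_⟩, hw'', hw'⟩
  · intro b hb
    obtain ⟨a, ha, rfl⟩ := h.surj b hb
    rwa [hw'']
  · intro a ha
    exact ⟨w a, h.mem a ha, hw'' a⟩
  · intro b hb c hc
    obtain ⟨a, ha, rfl⟩ := h.surj b hb
    obtain ⟨a', ha', rfl⟩ := h.surj c hc
    rw [hw'', hw'', h.iso a ha a' ha']
  · intro x y
    apply hinj'
    rw [h.add, hw', hw', hw']
  · intro b hb u
    obtain ⟨a, ha, rfl⟩ := h.surj b hb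
    rw [hw'', ← h.act a ha]
    group

theorem WeyE.of_nE (C : Chart E T) {a : Fin 4 → ℤ} (ha : a ∈ rts) : WeyE E (rfl' a) (nE E a) where
  mem b hb := rfl_mem a ha b hb
  surj b hb := ⟨rfl' a b, rfl_mem a ha b hb, rfl_rfl ha b⟩
  iso x _ y _ := B_rfl ha x y
  add := rfl_add ha
  act b hb u := C.nrf a ha b hb u

/-! ### Transitivity -/

theorem k_t1 : ∀ s ∈ rts, B s s = 2 → ∃ a ∈ rts, rfl' a s0 = s ∨ rfl' a (rfl' s s0) = s := by decide +kernel

theorem k_t2 : ∀ s ∈ rts, B s s = 2 → B s0 s = 1 → ∃ i : Sp, s = rz i := by decide +kernel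

theorem k_t2' : ∀ (i : Sp) (k : Fin 3), rfl' (rc (k, true)) (rz i) = rz (fl i k) := by decide +kernel

theorem k_t2'' : ∀ k : Fin 3, B (rc (k, true)) s0 = 0 := by decide +kernel

theorem k_t3 : ∀ s ∈ rts, B s s = 2 → B s0 s = 0 → ∃ a ∈ rts, B a s0 = 0 ∧ rfl' a (rc (0, true)) = s := by
  decide +kernel

theorem fl_ind {A : Sp → Prop} (h0 : A (fun _ => true)) (h : ∀ i k, A i → A (fl i k)) (i : Sp) : A i := by
  have h1 : ∀ b : Bool, ∀ j : Sp, A j → A (if b then j else fl j 0) := by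
    intro b j hj
    cases b
    · exact h _ _ hj
    · exact hj
  have h2 : ∀ b : Bool, ∀ j : Sp, A j → A (if b then j else fl j 1) := by
    intro b j hj
    cases b
    · exact h _ _ hj
    · exact hj
  have h3 : ∀ b : Bool, ∀ j : Sp, A j → A (if b then j else fl j 2) := by
    intro b j hj
    cases b
    · exact h _ _ hj
    · exact hj
  have h4 := h3 (i 2) _ (h2 (i 1) _ (h1 (i 0) _ h0))
  have key : ∀ i : Sp, (if i 2 then (if i 1 then (if i 0 then (fun _ => true : Sp) else fl (fun _ => true) 0) else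
      fl (if i 0 then (fun _ => true : Sp) else fl (fun _ => true) 0) 1) else
      fl (if i 1 then (if i 0 then (fun _ => true : Sp) else fl (fun _ => true) 0) else
        fl (if i 0 then (fun _ => true : Sp) else fl (fun _ => true) 0) 1) 2) = i := by decide
  rw [key i] at h4
  exact h4

/-- the group generated by the root elements -/
def EG (E : (Fin 4 → ℤ) → F → G) : Subgroup G := Subgroup.closure {g | ∃ a ∈ rts, ∃ u, g = E a u}

theorem nE_mem {a : Fin 4 → ℤ} (ha : a ∈ rts) :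
    nE E a ∈ Subgroup.closure {g | ∃ a ∈ rts, ∃ u, g = E a u} := by
  have h1 : ∀ a ∈ rts, ∀ u, E a u ∈ Subgroup.closure {g | ∃ a ∈ rts, ∃ u, g = E a u} := fun a ha u =>
    Subgroup.subset_closure ⟨a, ha, u, rfl⟩
  have h2 := (k_neg a ha).1
  exact mul_mem (mul_mem (h1 a ha 1) (h1 _ h2 1)) (h1 a ha 1)

/-- **Transitivity on the short roots.** -/
theorem exists_wey (C : Chart E T) : ∀ s ∈ rts, B s s = 2 → ∃ w k, WeyE E w k ∧ w s0 = s ∧
    k ∈ Subgroup.closure {g | ∃ a ∈ rts, ∃ u, g = E a u} := by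
  intro s hs h2
  obtain ⟨a, ha, e | e⟩ := k_t1 s hs h2
  · exact ⟨_, _, WeyE.of_nE C ha, e, nE_mem ha⟩
  · exact ⟨_, _, (WeyE.of_nE C ha).mul (WeyE.of_nE C hs), e, mul_mem (nE_mem ha) (nE_mem hs)⟩

/-- **Transitivity on the pairs of short roots at 60°.** -/
theorem exists_wey60 (C : Chart E T) : ∀ s ∈ rts, ∀ s' ∈ rts, B s s = 2 → B s' s' = 2 → B s s' = 1 →
    ∃ w k, WeyE E w k ∧ w s0 = s ∧ w (rz fun _ => true) = s' ∧
      k ∈ Subgroup.closure {g | ∃ a ∈ rts, ∃ u, g = E a u} := by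
  intro s hs s' hs' h2 h2' h1
  obtain ⟨w, k, hw, e, hk⟩ := exists_wey C s hs h2
  obtain ⟨w', hw', e1, e2⟩ := hw.inv
  have h3 : B s0 (w' s') = 1 := by
    rw [← e1 s0, hw'.iso _ (hw.mem _ s0_mem) _ hs', e, h1]
  have h4 : B (w' s') (w' s') = 2 := by rw [hw'.iso _ hs' _ hs', h2']
  obtain ⟨i, hi⟩ := k_t2 _ (hw'.mem _ hs') h4 h3
  have h5 : ∃ w k, WeyE E w k ∧ w s0 = s0 ∧ w (rz fun _ => true) = rz i ∧
      k ∈ Subgroup.closure {g | ∃ a ∈ rts, ∃ u, g = E a u} := by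
    clear hi
    induction i using fl_ind with
    | h0 => exact ⟨_, _, WeyE.one, rfl, rfl, one_mem _⟩
    | h i j ih =>
      obtain ⟨v, m, hv, v1, v2, hm⟩ := ih
      refine ⟨_, _, (WeyE.of_nE C (rc_mem (j, true))).mul hv, ?_, ?_, mul_mem (nE_mem (rc_mem (j, true))) hm⟩
      · show rfl' _ (v s0) = s0
        rw [v1, rfl_orth (k_t2'' j)]
      · show rfl' _ (v _) = _
        rw [v2, k_t2']
  obtain ⟨v, m, hv, v1, v2, hm⟩ := h5
  refine ⟨_, _, hw.mul hv, ?_, ?_, mul_mem hk hm⟩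
  · show w (v s0) = s
    rw [v1, e]
  · show w (v (rz fun _ => true)) = s'
    rw [v2, ← hi, e2]

/-- **Transitivity on the orthogonal pairs of short roots.** -/
theorem exists_wey90 (C : Chart E T) : ∀ s ∈ rts, ∀ s' ∈ rts, B s s = 2 → B s' s' = 2 → B s s' = 0 →
    ∃ w k, WeyE E w k ∧ w s0 = s ∧ w (rc (0, true)) = s' ∧
      k ∈ Subgroup.closure {g | ∃ a ∈ rts, ∃ u, g = E a u} := by
  intro s hs s' hs' h2 h2' h1
  obtain ⟨w, k, hw, e, hk⟩ := exists_wey C s hs h2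
  obtain ⟨w', hw', e1, e2⟩ := hw.inv
  have h3 : B s0 (w' s') = 0 := by
    rw [← e1 s0, hw'.iso _ (hw.mem _ s0_mem) _ hs', e, h1]
  have h4 : B (w' s') (w' s') = 2 := by rw [hw'.iso _ hs' _ hs', h2']
  obtain ⟨a, ha, ha', e3⟩ := k_t3 _ (hw'.mem _ hs') h4 h3
  refine ⟨_, _, hw.mul (WeyE.of_nE C ha), ?_, ?_, mul_mem hk (nE_mem ha)⟩
  · show w (rfl' a s0) = s
    rw [rfl_orth ha', e]
  · show w (rfl' a (rc (0, true))) = s'
    rw [e3, e2]

/-! ### The torus -/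

theorem dualH_surj {rt : F ≃+* F} (hrt : ∀ u, rt u ^ 2 = u) : Function.Surjective (dualH (F := F) rt) := by
  intro y
  have hr : ∀ z : Fˣ, Units.map (rt : F →* F) (z * z) = z := by
    intro z
    apply Units.ext
    have := rt_sq rt hrt (z : F)
    rw [pow_two] at this
    exact this
  refine ⟨![y 0 * y 1, y 0 * (y 1)⁻¹, y 2 * y 3, y 2 * (y 3)⁻¹], ?_⟩
  funext i
  fin_cases i
  · show Units.map (rt : F →* F) (y 0 * y 1 * (y 0 * (y 1)⁻¹)) = y 0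
    rw [mul_mul_mul_comm, mul_inv_cancel, mul_one, hr]
  · show Units.map (rt : F →* F) (y 0 * y 1 * (y 0 * (y 1)⁻¹)⁻¹) = y 1
    rw [mul_inv, inv_inv, mul_mul_mul_comm, mul_inv_cancel, one_mul, hr]
  · show Units.map (rt : F →* F) (y 2 * y 3 * (y 2 * (y 3)⁻¹)) = y 2
    rw [mul_mul_mul_comm, mul_inv_cancel, mul_one, hr]
  · show Units.map (rt : F →* F) (y 2 * y 3 * (y 2 * (y 3)⁻¹)⁻¹) = y 3
    rw [mul_inv, inv_inv, mul_mul_mul_comm, mul_inv_cancel, one_mul, hr]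

theorem unit_sqrt [Finite F] [CharP F 2] (a : Fˣ) : ∃ b : Fˣ, b ^ 2 = a := by
  have hinj : Function.Injective (fun b : Fˣ => b ^ 2) := by
    intro b c hbc
    apply Units.ext
    have h4 : (b : F) ^ 2 = (c : F) ^ 2 := by
      have := congrArg (Units.val) hbc
      simpa using this
    have h3 : ((b : F) + c) ^ 2 = 0 := by rw [CharTwo.add_sq, h4, CharTwo.add_self_eq_zero]
    exact CharTwo.add_eq_zero.1 (pow_eq_zero_iff two_ne_zero |>.1 h3)
  exact Finite.surjective_of_injective hinj a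

/-- every character of the lattice comes from the torus -/
theorem exists_nu [Finite F] [CharP F 2] (χ : (Fin 4 → ℤ) →+ Additive Fˣ) :
    ∃ ν : Fin 4 → Fˣ, ∀ x, χ x = Additive.ofMul (chd ν x) := by
  obtain ⟨c, hc⟩ : ∃ c : Fin 4 → Fˣ, ∀ i, χ (Pi.single i 1) = Additive.ofMul (c i) :=
    ⟨fun i => (χ (Pi.single i 1)).toMul, fun _ => rfl⟩
  obtain ⟨n3, h3⟩ := unit_sqrt (c 1)
  obtain ⟨n2, h2⟩ := unit_sqrt (c 2 * c 1)
  obtain ⟨n1, h1⟩ := unit_sqrt (c 3 * c 2 * c 1)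
  obtain ⟨ν, hν⟩ : ∃ ν : Fin 4 → Fˣ, ν = ![c 0 * n1 * n2 * n3, n1, n2, n3] := ⟨_, rfl⟩
  refine ⟨ν, fun x => ?_⟩
  have key : χ = chH ν := by
    apply AddMonoidHom.functions_ext
    intro i m
    have e : (Pi.single i m : Fin 4 → ℤ) = m • Pi.single i 1 := by
      ext j
      rw [Pi.smul_apply, smul_eq_mul, Pi.single_apply, Pi.single_apply]
      split_ifs <;> simp
    rw [e, map_zsmul, map_zsmul, hc]
    congr 1
    show Additive.ofMul (c i) = Additive.ofMul (chd ν (Pi.single i 1))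
    congr 1
    have k0 : ∀ a b c d : Fˣ, a * b * c * d * b⁻¹ * c⁻¹ * d⁻¹ = a := by
      intro a b c d
      rw [mul_right_comm _ d b⁻¹, mul_right_comm _ c b⁻¹, mul_inv_cancel_right, mul_right_comm _ d c⁻¹,
        mul_inv_cancel_right, mul_inv_cancel_right]
    rw [chd_eq, hν]
    fin_cases i
    · simp [dd]
      rw [k0]
    · simp [dd]
      rw [h3]
    · simp [dd]
      rw [h2, h3, mul_inv_cancel_right]
    · simp [dd]
      rw [h1, h2, mul_assoc (c 3), mul_inv_cancel_right]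
  rw [key]
  rfl

section Tor

variable {F : Type u} [Field F] [Finite F] [CharP F 2]

theorem range_TH : (TH (F := F)).range = TF F := by
  apply le_antisymm
  · rintro _ ⟨ν, rfl⟩
    exact tH_mem ν
  · intro t ht
    obtain ⟨χ, hχ⟩ := (sysF (K := F) csF).chi t ht
    obtain ⟨ν, hν⟩ := exists_nu χ
    refine ⟨ν, eq_of_conj csF fun x hx u => ?_⟩
    rw [hχ x hx u, hν, TH_conj ν (mem_rts.1 hx)]
    rfl

theorem range_TH_dual {rt : F ≃+* F} (hrt : ∀ u, rt u ^ 2 = u) : (TH.comp (dualH (F := F) rt)).range = TF F := by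
  rw [← range_TH]
  apply le_antisymm
  · rintro _ ⟨ν, rfl⟩
    exact ⟨_, rfl⟩
  · rintro _ ⟨ν, rfl⟩
    obtain ⟨ν', rfl⟩ := dualH_surj hrt ν
    exact ⟨ν', rfl⟩

theorem TH_norm (hq : ∃ μ : Fˣ, μ ≠ 1) {a : Fin 4 → ℤ} (ha : a ∈ rts) (ν : Fin 4 → Fˣ) :
    ∃ ν', nE (eF F) a * TH ν * (nE (eF F) a)⁻¹ = TH ν' := by
  have hw := WeyE.of_nE (chartY hq) ha
  obtain ⟨ν', hν'⟩ := exists_nu ((chH ν).comp (AddMonoidHom.mk' (rfl' a) (rfl_add ha)))
  refine ⟨ν', eq_of_conj csF fun x hx u => ?_⟩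
  have hx' := mem_rts.1 hx
  have h1 : (nE (eF F) a)⁻¹ * eF F x u * nE (eF F) a = eF F (rfl' a x) u := by
    rw [← rfl_rfl ha x, ← hw.act _ (hw.mem x hx'), rfl_rfl ha]
    group
  have h2 : chd ν' x = chd ν (rfl' a x) := (hν' x).symm
  rw [TH_conj ν' hx', h2]
  calc nE (eF F) a * TH ν * (nE (eF F) a)⁻¹ * eF F x u * (nE (eF F) a * TH ν * (nE (eF F) a)⁻¹)⁻¹ =
      nE (eF F) a * (TH ν * ((nE (eF F) a)⁻¹ * eF F x u * nE (eF F) a) * (TH ν)⁻¹) * (nE (eF F) a)⁻¹ := by group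
    _ = _ := by rw [h1, TH_conj ν (hw.mem x hx'), hw.act _ (hw.mem x hx'), rfl_rfl ha]

theorem TH_norm_dual (hq : ∃ μ : Fˣ, μ ≠ 1) {rt : F ≃+* F} (hrt : ∀ u, rt u ^ 2 = u) {a : Fin 4 → ℤ} (ha : a ∈ rts)
    (ν : Fin 4 → Fˣ) : ∃ ν', nE (dualE rt (eF F)) a * (TH.comp (dualH rt)) ν * (nE (dualE rt (eF F)) a)⁻¹ =
      (TH.comp (dualH rt)) ν' := by
  rw [nE_dual rt ha]
  obtain ⟨ν', h1⟩ := TH_norm hq (dual_mem a ha) (dualH rt ν)
  obtain ⟨ν'', rfl⟩ := dualH_surj hrt ν'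
  exact ⟨ν'', h1⟩

end Tor

end Cfsg.Agent.OddHalf.D7F4Ex

end

-- merged: Cfsg.Agent.OddHalf.D7F4Ex.DbsEx
section

/-!
# Existence of the doubled root groups of all short roots of a chart

`dbl_le` : uniqueness of the doubled root group; `exists_dbs` : `Dbs` from `GData` at `s0` and `Moved t X_{s0}`;
`exists_dbs_frame` : for a frame `f : F₄(q) → C_G(t)` and a chart with its K-facts.
-/

set_option autoImplicit false
set_option linter.unusedSectionVars false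
set_option linter.style.haveILetI false

namespace Cfsg.Agent.OddHalf.D7F4Ex

open Subgroup Cfsg.Lie Cfsg.Agent.OddHalf.D7F4 Cfsg.Agent.OddHalf.D7F4.Model

section Uniq

variable {G : Type*} [Group G] {t : G} {X P W W' : Subgroup G}

/-- **Uniqueness of the doubled root group.** -/
theorem dbl_le (tt : t * t = 1) (XP : X ≤ P) (tP : ∀ p ∈ P, t * p = p * t)
    (cP : ∀ c, t * c = c * t → (∀ p ∈ P, c * p = p * c) → c ∈ X ∨ t * c ∈ X)
    (hW : D7Ex.IsDbl t X P W) (hW' : D7Ex.IsDbl t X P W') {h : G} (ht : t * h = h * t)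
    (hX : ∀ x ∈ X, h * x * h⁻¹ ∈ X) (hs : ∀ x ∈ X, ∃ y ∈ X, h * y * h⁻¹ * y⁻¹ = x)
    (hn : ∀ w ∈ W, h * w * h⁻¹ ∈ W) (hn' : ∀ w ∈ W', h * w * h⁻¹ ∈ W') : W ≤ W' := by
  have ti : t⁻¹ = t := inv_eq_of_mul_eq_one_left tt
  have hit : h⁻¹ * t = t * h⁻¹ := by
    rw [inv_mul_eq_iff_eq_mul, ← mul_assoc, ← ht, mul_inv_cancel_right]
  intro w hw
  obtain ⟨x, hx⟩ : ∃ x, x = w⁻¹ * (t * w * t) := ⟨_, rfl⟩
  have hxX : x ∈ X := hx ▸ hW.brk w hw
  obtain ⟨y, hy, hyx⟩ := hs x hxX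
  obtain ⟨a, ha, hay⟩ := hW.surj y hy
  obtain ⟨b, hb, hby⟩ := hW'.surj y hy
  have ew : t * w * t = w * x := by rw [hx]; group
  have ea : t * a * t = a * y := by rw [← hay]; group
  have eb : t * b * t = b * y := by rw [← hby]; group
  have inv_t : ∀ {g g' : G}, t * g * t = g' → t * g⁻¹ * t = g'⁻¹ := by
    intro g g' hg
    rw [← hg, mul_inv_rev, mul_inv_rev, ti]; group
  have mul_t : ∀ {g g' k k' : G}, t * g * t = g' → t * k * t = k' → t * (g * k) * t = g' * k' := by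
    intro g g' k k' hg hk
    rw [← hg, ← hk]
    calc t * (g * k) * t = t * g * 1 * k * t := by group
      _ = t * g * (t * t) * k * t := by rw [tt]
      _ = _ := by group
  have comm_of : ∀ {g : G}, t * g * t = g → t * g = g * t := by
    intro g hg
    calc t * g = t * g * (t * t) := by rw [tt, mul_one]
      _ = t * g * t * t := by group
      _ = g * t := by rw [hg]
  -- `b a⁻¹`
  obtain ⟨c, hc⟩ : ∃ c, c = b * a⁻¹ := ⟨_, rfl⟩
  have hct : t * c = c * t := by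
    apply comm_of
    rw [hc, mul_t eb (inv_t ea), mul_inv_rev]; group
  have hcP : ∀ p ∈ P, c * p = p * c := by
    intro p hp
    have h1 := hW'.WP b hb p hp
    have h2 := hW.WP a ha p hp
    have h3 : a⁻¹ * p = p * a⁻¹ := by rw [inv_mul_eq_iff_eq_mul, ← mul_assoc, h2, mul_inv_cancel_right]
    rw [hc, mul_assoc, h3, ← mul_assoc, h1, mul_assoc]
  obtain ⟨d, hd⟩ : ∃ d, d = h * a * h⁻¹ * a⁻¹ := ⟨_, rfl⟩
  have hdW : d ∈ W := hd ▸ mul_mem (hn a ha) (inv_mem ha)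
  -- `d ^ t = d x`
  have hha : t * (h * a * h⁻¹) * t = h * a * h⁻¹ * (h * y * h⁻¹) := by
    calc t * (h * a * h⁻¹) * t = (t * h) * a * (h⁻¹ * t) := by group
      _ = h * (t * a * t) * h⁻¹ := by rw [ht, hit]; group
      _ = _ := by rw [ea]; group
  have ed : t * d * t = d * x := by
    rw [hd, mul_t hha (inv_t ea), mul_inv_rev]
    have h1 := hW.WP a ha x (XP hxX)
    have h2 : x * a⁻¹ = a⁻¹ * x := by rw [eq_inv_mul_iff_mul_eq, ← mul_assoc, h1, mul_inv_cancel_right]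
    calc h * a * h⁻¹ * (h * y * h⁻¹) * (y⁻¹ * a⁻¹) = h * a * h⁻¹ * (h * y * h⁻¹ * y⁻¹) * a⁻¹ := by group
      _ = h * a * h⁻¹ * (x * a⁻¹) := by rw [hyx]; group
      _ = _ := by rw [h2]; group
  have hbW : h * b * h⁻¹ * b⁻¹ ∈ W' := mul_mem (hn' b hb) (inv_mem hb)
  have hb' : b = c * a := by rw [hc]; group
  have hdW' : d ∈ W' := by
    rcases cP c hct hcP with hcX | hcX
    · have e1 : d = (h * c * h⁻¹)⁻¹ * (h * b * h⁻¹ * b⁻¹) * c := by rw [hd, hb']; group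
      rw [e1]
      exact mul_mem (mul_mem (inv_mem (hW'.XW (hX c hcX))) hbW) (hW'.XW hcX)
    · obtain ⟨x1, hx1⟩ : ∃ x1, x1 = t * c := ⟨_, rfl⟩
      rw [← hx1] at hcX
      have hc1 : c = t * x1 := by rw [hx1, ← mul_assoc, tt, one_mul]
      have htx := tP x1 (XP hcX)
      have hthx := tP _ (XP (hX x1 hcX))
      have e0 : h * b * h⁻¹ * b⁻¹ = (h * x1 * h⁻¹) * (d * x) * x1⁻¹ := by
        have e1 : h * b * h⁻¹ = t * (h * x1 * h⁻¹) * (h * a * h⁻¹) := by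
          rw [hb', hc1]
          calc h * (t * x1 * a) * h⁻¹ = (h * t) * x1 * a * h⁻¹ := by group
            _ = t * (h * x1 * h⁻¹) * (h * a * h⁻¹) := by rw [← ht]; group
        have e2 : b⁻¹ = a⁻¹ * x1⁻¹ * t := by rw [hb', hc1, mul_inv_rev, mul_inv_rev, ti]; group
        have e3 : x1⁻¹ * t = t * x1⁻¹ := by
          rw [inv_mul_eq_iff_eq_mul, ← mul_assoc, ← htx, mul_inv_cancel_right]
        rw [e1, e2]
        calc t * (h * x1 * h⁻¹) * (h * a * h⁻¹) * (a⁻¹ * x1⁻¹ * t)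
            = (t * (h * x1 * h⁻¹)) * (h * a * h⁻¹ * a⁻¹) * (x1⁻¹ * t) := by group
          _ = (h * x1 * h⁻¹) * (t * d * t) * x1⁻¹ := by rw [hthx, ← hd, e3]; group
          _ = _ := by rw [ed]
      have e1 : d = (h * x1 * h⁻¹)⁻¹ * (h * b * h⁻¹ * b⁻¹) * x1 * x⁻¹ := by rw [e0]; group
      rw [e1]
      exact mul_mem (mul_mem (mul_mem (inv_mem (hW'.XW (hX x1 hcX))) hbW) (hW'.XW hcX)) (inv_mem (hW'.XW hxX))
  have hwd : w * d⁻¹ ∈ X := by
    apply hW.cent _ (mul_mem hw (inv_mem hdW))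
    apply comm_of
    rw [mul_t ew (inv_t ed), mul_inv_rev]; group
  have e2 : w = w * d⁻¹ * d := by group
  rw [e2]
  exact mul_mem (hW'.XW hwd) hdW'

/-- transport -/
theorem isDbl_conj (hW : D7Ex.IsDbl t X P W) {k : G} (hk : k * t = t * k) {X' P' : Subgroup G}
    (hX : ∀ x ∈ X, k * x * k⁻¹ ∈ X') (hX' : ∀ x ∈ X', k⁻¹ * x * k ∈ X) (hP : ∀ p ∈ P', k⁻¹ * p * k ∈ P) :
    D7Ex.IsDbl t X' P' (W.map (MulAut.conj k).toMonoidHom) := by
  have hki : k⁻¹ * t = t * k⁻¹ := by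
    rw [inv_mul_eq_iff_eq_mul, ← mul_assoc, hk, mul_inv_cancel_right]
  have key : ∀ w : G, (k * w * k⁻¹)⁻¹ * (t * (k * w * k⁻¹) * t) = k * (w⁻¹ * (t * w * t)) * k⁻¹ := by
    intro w
    calc (k * w * k⁻¹)⁻¹ * (t * (k * w * k⁻¹) * t) = k * w⁻¹ * k⁻¹ * (t * k) * w * (k⁻¹ * t) := by group
      _ = k * w⁻¹ * k⁻¹ * (k * t) * w * (t * k⁻¹) := by rw [hk, hki]
      _ = _ := by group
  refine ⟨?_, ?_, ?_, ?_, ?_⟩
  · intro x hx
    refine ⟨k⁻¹ * x * k, hW.XW (hX' x hx), ?_⟩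
    show k * (k⁻¹ * x * k) * k⁻¹ = x
    group
  · rintro _ ⟨w, hw, rfl⟩ p hp
    show k * w * k⁻¹ * p = p * (k * w * k⁻¹)
    have h1 := hW.WP w hw _ (hP p hp)
    calc k * w * k⁻¹ * p = k * (w * (k⁻¹ * p * k)) * k⁻¹ := by group
      _ = k * ((k⁻¹ * p * k) * w) * k⁻¹ := by rw [h1]
      _ = _ := by group
  · rintro _ ⟨w, hw, rfl⟩
    show (k * w * k⁻¹)⁻¹ * (t * (k * w * k⁻¹) * t) ∈ X'
    rw [key]
    exact hX _ (hW.brk w hw)
  · rintro _ ⟨w, hw, rfl⟩ h1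
    have h1' : t * (k * w * k⁻¹) = k * w * k⁻¹ * t := h1
    refine hX _ (hW.cent w hw ?_)
    calc t * w = k⁻¹ * (k * t) * w := by group
      _ = k⁻¹ * (t * (k * w * k⁻¹)) * k := by rw [hk]; group
      _ = w * (k⁻¹ * t) * k := by rw [h1']; group
      _ = w * t := by rw [hki]; group
  · intro x hx
    obtain ⟨w, hw, h1⟩ := hW.surj _ (hX' x hx)
    refine ⟨_, ⟨w, hw, rfl⟩, ?_⟩
    show (k * w * k⁻¹)⁻¹ * (t * (k * w * k⁻¹) * t) = x
    rw [key, h1]; group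

end Uniq

variable {F : Type*} [Field F] {G : Type*} [Group G] {t : G} {E : (Fin 4 → ℤ) → F → G} {T : (Fin 4 → Fˣ) →* G}

/-- `k ∈ C(t)` acts on the chart as `w` -/
structure WK (t : G) (E : (Fin 4 → ℤ) → F → G) (T : (Fin 4 → Fˣ) →* G) (w : (Fin 4 → ℤ) → (Fin 4 → ℤ)) (k : G) :
    Prop where
  wey : WeyE E w k
  kt : k * t = t * k
  tor : ∀ ν, ∃ ν', k * T ν * k⁻¹ = T ν'
  torI : ∀ ν, ∃ ν', k⁻¹ * T ν * k = T ν'

theorem Chart.eq_of (C : Chart E T) {a : Fin 4 → ℤ} (ha : a ∈ rts) {u v : F} (h : E a u = E a v) : u = v := by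
  have h1 : E a (u + v) = 1 := by rw [C.add a ha, h, C.sq ha]
  have h2 := C.inj a ha _ h1
  calc u = (u + v) + v := by rw [add_assoc, C.two, add_zero]
    _ = v := by rw [h2, zero_add]

/-- `n_a ^ 2 = 1` -/
theorem Chart.nE_sq (C : Chart E T) {a : Fin 4 → ℤ} (ha : a ∈ rts) : nE E a * nE E a = 1 := by
  have hn : -a ∈ rts := (k_neg a ha).1
  have h0 : rfl' a a = -a := by
    unfold rfl'
    have : 2 * B a a / B a a = 2 := by
      rcases Model.norm a ha with h | h <;> rw [h] <;> norm_num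
    rw [this, two_smul]; abel
  have h0' : rfl' a (-a) = a := by rw [← h0, rfl_rfl ha]
  have h1 := C.nrf a ha a ha 1
  have h2 := C.nrf a ha (-a) hn 1
  rw [h0] at h1
  rw [h0'] at h2
  have h3 : nE E a = E (-a) 1 * E a 1 * E (-a) 1 := by
    calc nE E a = nE E a * nE E a * (nE E a)⁻¹ := by group
      _ = nE E a * (E a 1 * E (-a) 1 * E a 1) * (nE E a)⁻¹ := rfl
      _ = (nE E a * E a 1 * (nE E a)⁻¹) * (nE E a * E (-a) 1 * (nE E a)⁻¹) * (nE E a * E a 1 * (nE E a)⁻¹) := by group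
      _ = _ := by rw [h1, h2]
  have h4 := C.sq ha 1
  have h5 := C.sq hn 1
  calc nE E a * nE E a = (E a 1 * E (-a) 1 * E a 1) * nE E a := rfl
    _ = E a 1 * E (-a) 1 * E a 1 * (E (-a) 1 * E a 1 * E (-a) 1) := by rw [h3]
    _ = E a 1 * E (-a) 1 * (E a 1 * E (-a) 1 * E a 1) * E (-a) 1 := by group
    _ = E a 1 * E (-a) 1 * nE E a * E (-a) 1 := rfl
    _ = E a 1 * E (-a) 1 * (E (-a) 1 * E a 1 * E (-a) 1) * E (-a) 1 := by rw [h3]
    _ = E a 1 * (E (-a) 1 * E (-a) 1) * E a 1 * (E (-a) 1 * E (-a) 1) := by group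
    _ = 1 := by rw [h5, mul_one, mul_one, h4]

theorem WK.mul {w w' : (Fin 4 → ℤ) → (Fin 4 → ℤ)} {k k' : G} (h : WK t E T w k) (h' : WK t E T w' k') :
    WK t E T (fun x => w (w' x)) (k * k') where
  wey := h.wey.mul h'.wey
  kt := by rw [mul_assoc, h'.kt, ← mul_assoc, h.kt, mul_assoc]
  tor := by
    intro ν
    obtain ⟨ν1, h1⟩ := h'.tor ν
    obtain ⟨ν2, h2⟩ := h.tor ν1
    refine ⟨ν2, ?_⟩
    rw [← h2, ← h1]; group
  torI := by
    intro ν
    obtain ⟨ν1, h1⟩ := h.torI ν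
    obtain ⟨ν2, h2⟩ := h'.torI ν1
    refine ⟨ν2, ?_⟩
    rw [← h2, ← h1]; group

theorem WK.inv {w : (Fin 4 → ℤ) → (Fin 4 → ℤ)} {k : G} (h : WK t E T w k) :
    ∃ w', WK t E T w' k⁻¹ ∧ (∀ x, w' (w x) = x) ∧ ∀ x, w (w' x) = x := by
  obtain ⟨w', h1, h2, h3⟩ := h.wey.inv
  refine ⟨w', ⟨h1, ?_, ?_, ?_⟩, h2, h3⟩
  · rw [inv_mul_eq_iff_eq_mul, ← mul_assoc, h.kt, mul_inv_cancel_right]
  · intro ν
    obtain ⟨ν', e⟩ := h.torI ν
    exact ⟨ν', by rw [inv_inv]; exact e⟩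
  · intro ν
    obtain ⟨ν', e⟩ := h.tor ν
    exact ⟨ν', by rw [inv_inv]; exact e⟩

theorem WK.of_nE (C : Chart E T) (tE : ∀ a ∈ rts, ∀ u, t * E a u = E a u * t)
    (torN : ∀ a ∈ rts, ∀ ν, ∃ ν', nE E a * T ν * (nE E a)⁻¹ = T ν') {a : Fin 4 → ℤ} (ha : a ∈ rts) :
    WK t E T (rfl' a) (nE E a) where
  wey := WeyE.of_nE C ha
  kt := by
    have h1 := tE a ha 1
    have h2 := tE (-a) (k_neg a ha).1 1
    unfold nE
    calc E a 1 * E (-a) 1 * E a 1 * t = E a 1 * E (-a) 1 * (E a 1 * t) := by group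
      _ = E a 1 * (E (-a) 1 * t) * E a 1 := by rw [← h1]; group
      _ = (E a 1 * t) * E (-a) 1 * E a 1 := by rw [← h2]; group
      _ = _ := by rw [← h1]; group
  tor := torN a ha
  torI := by
    intro ν
    obtain ⟨ν', h⟩ := torN a ha ν
    have e : (nE E a)⁻¹ = nE E a := inv_eq_of_mul_eq_one_left (C.nE_sq ha)
    refine ⟨ν', ?_⟩
    rw [← h, e]

theorem WK.chd (C : Chart E T) {w : (Fin 4 → ℤ) → (Fin 4 → ℤ)} {k : G} (h : WK t E T w k) {a : Fin 4 → ℤ} (ha : a ∈ rts)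
    {ν ν' : Fin 4 → Fˣ} (hν : k * T ν * k⁻¹ = T ν') : D7F4Ex.chd ν' (w a) = D7F4Ex.chd ν a := by
  apply Units.ext
  apply C.eq_of (h.wey.mem a ha)
  have h1 := C.tor _ (h.wey.mem a ha) ν' 1
  have h2 := C.tor a ha ν 1
  rw [mul_one] at h1 h2
  rw [← h1, ← hν, ← h.wey.act a ha, ← h.wey.act a ha, ← h2]
  group

theorem WK.XE (C : Chart E T) {w : (Fin 4 → ℤ) → (Fin 4 → ℤ)} {k : G} (h : WK t E T w k) {a : Fin 4 → ℤ} (ha : a ∈ rts)
    {x : G} (hx : x ∈ XE E a) : k * x * k⁻¹ ∈ D7F4Ex.XE E (w a) := by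
  obtain ⟨u, rfl⟩ := (C.mem_XE ha).1 hx
  rw [h.wey.act a ha]
  exact mem_XE' _ _ _

theorem WK.PT (C : Chart E T) {w : (Fin 4 → ℤ) → (Fin 4 → ℤ)} {k : G} (h : WK t E T w k) {s : Fin 4 → ℤ} (hs : s ∈ rts)
    {x : G} (hx : x ∈ PT E T s) : k * x * k⁻¹ ∈ D7F4Ex.PT E T (w s) := by
  have hle : D7F4Ex.PT E T s ≤ (D7F4Ex.PT E T (w s)).comap (MulAut.conj k).toMonoidHom := by
    rw [D7F4Ex.PT, closure_le]
    rintro g (⟨a, ha, hc, u, rfl⟩ | ⟨ν, hν, rfl⟩)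
    · show k * E a u * k⁻¹ ∈ D7F4Ex.PT E T (w s)
      rw [h.wey.act a ha]
      refine subset_closure (Or.inl ⟨w a, h.wey.mem a ha, ?_, u, rfl⟩)
      unfold Cs at hc ⊢
      rw [h.wey.iso a ha a ha, h.wey.iso a ha s hs]
      exact hc
    · show k * T ν * k⁻¹ ∈ D7F4Ex.PT E T (w s)
      obtain ⟨ν', hν'⟩ := h.tor ν
      rw [hν']
      exact subset_closure (Or.inr ⟨ν', by rw [h.chd C hs hν', hν], rfl⟩)
  exact hle hx

/-! ### The centraliser of `P~_s` -/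

theorem k_c : ∀ d ∈ rts, B d d = 2 → B d s0 = 0 → ∃ j, d = rc j := by decide +kernel
theorem k_rs : ∀ a ∈ rts, ∀ s ∈ rts, B (rfl' a s) (rfl' a s) = B s s := fun _ ha s _ => B_rfl ha s s

/-- the data of the transport -/
structure Base (t : G) (E : (Fin 4 → ℤ) → F → G) (T : (Fin 4 → Fˣ) →* G) : Prop where
  chart : Chart E T
  tt : t * t = 1
  tE : ∀ a ∈ rts, ∀ u, t * E a u = E a u * t
  tT : ∀ ν, t * T ν = T ν * t
  torN : ∀ a ∈ rts, ∀ ν, ∃ ν', nE E a * T ν * (nE E a)⁻¹ = T ν'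
  cP : ∀ g, t * g = g * t → (∀ p ∈ PT E T s0, g * p = p * g) → g ∈ XE E s0 ∨ t * g ∈ XE E s0

namespace Base

variable (H : Base t E T)

include H

theorem exists_wk {s : Fin 4 → ℤ} (hs : s ∈ rts) (h2 : B s s = 2) : ∃ w k, WK t E T w k ∧ w s0 = s := by
  obtain ⟨a, ha, e | e⟩ := k_t1 s hs h2
  · exact ⟨_, _, WK.of_nE H.chart H.tE H.torN ha, e⟩
  · exact ⟨_, _, (WK.of_nE H.chart H.tE H.torN ha).mul (WK.of_nE H.chart H.tE H.torN hs), e⟩

theorem cPs {s : Fin 4 → ℤ} (hs : s ∈ rts) (h2 : B s s = 2) {g : G} (hg : t * g = g * t)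
    (hp : ∀ p ∈ PT E T s, g * p = p * g) : g ∈ XE E s ∨ t * g ∈ XE E s := by
  obtain ⟨w, k, hk, hws⟩ := H.exists_wk hs h2
  have hki : k⁻¹ * t = t * k⁻¹ := by rw [inv_mul_eq_iff_eq_mul, ← mul_assoc, hk.kt, mul_inv_cancel_right]
  have h1 : t * (k⁻¹ * g * k) = k⁻¹ * g * k * t := by
    calc t * (k⁻¹ * g * k) = (t * k⁻¹) * g * k := by group
      _ = k⁻¹ * (t * g) * k := by rw [← hki]; group
      _ = k⁻¹ * g * (t * k) := by rw [hg]; group
      _ = _ := by rw [← hk.kt]; group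
  have back : ∀ {x : G}, x ∈ XE E s0 → k * x * k⁻¹ ∈ XE E s := fun hx => hws ▸ hk.XE H.chart s0_mem hx
  rcases H.cP _ h1 (fun p hp' => by
    have h3 := hk.PT H.chart s0_mem hp'
    rw [hws] at h3
    have h4 := hp _ h3
    calc k⁻¹ * g * k * p = k⁻¹ * (g * (k * p * k⁻¹)) * k := by group
      _ = k⁻¹ * ((k * p * k⁻¹) * g) * k := by rw [h4]
      _ = _ := by group) with h3 | h3
  · left
    have := back h3
    rwa [show k * (k⁻¹ * g * k) * k⁻¹ = g by group] at this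
  · right
    have := back h3
    rwa [show k * (t * (k⁻¹ * g * k)) * k⁻¹ = k * t * k⁻¹ * g by group, hk.kt, mul_inv_cancel_right] at this

theorem XP {s : Fin 4 → ℤ} (hs : s ∈ rts) (h2 : B s s = 2) : XE E s ≤ PT E T s := by
  rw [XE, closure_le]
  rintro _ ⟨u, rfl⟩
  exact subset_closure (Or.inl ⟨s, hs, Or.inr ⟨h2, by rw [h2]; norm_num⟩, u, rfl⟩)

theorem tP {s : Fin 4 → ℤ} {p : G} (hp : p ∈ PT E T s) : t * p = p * t := by
  have hle : PT E T s ≤ centralizer {t} := by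
    rw [PT, closure_le]
    intro g hg
    rw [SetLike.mem_coe, mem_centralizer_singleton_iff]
    rcases hg with ⟨a, ha, -, u, rfl⟩ | ⟨ν, -, rfl⟩
    · exact (H.tE a ha u).symm
    · exact (H.tT ν).symm
  exact (mem_centralizer_singleton_iff.1 (hle hp)).symm

theorem tor_X {s : Fin 4 → ℤ} (hs : s ∈ rts) (ν : Fin 4 → Fˣ) {x : G} (hx : x ∈ XE E s) : T ν * x * (T ν)⁻¹ ∈ XE E s := by
  obtain ⟨u, rfl⟩ := (H.chart.mem_XE hs).1 hx
  rw [H.chart.tor s hs]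
  exact mem_XE' _ _ _

/-- `T ν` acts without fixed points on `X_s`. -/
theorem tor_surj {s : Fin 4 → ℤ} (hs : s ∈ rts) {ν : Fin 4 → Fˣ} (hν : chd ν s ≠ 1) :
    ∀ x ∈ XE E s, ∃ y ∈ XE E s, T ν * y * (T ν)⁻¹ * y⁻¹ = x := by
  intro x hx
  obtain ⟨u, rfl⟩ := (H.chart.mem_XE hs).1 hx
  have h0 : ((chd ν s : Fˣ) : F) + 1 ≠ 0 := by
    intro h
    apply hν
    apply Units.ext
    rw [Units.val_one]
    have h2 := H.chart.two (1 : F)
    calc ((chd ν s : Fˣ) : F) = (((chd ν s : Fˣ) : F) + 1) + 1 := by rw [add_assoc, h2, add_zero]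
      _ = 1 := by rw [h, zero_add]
  refine ⟨E s ((((chd ν s : Fˣ) : F) + 1)⁻¹ * u), mem_XE' _ _ _, ?_⟩
  rw [H.chart.tor s hs, H.chart.inv hs, ← H.chart.add s hs]
  congr 1
  field_simp

theorem exists_nu {s : Fin 4 → ℤ} (hs : s ∈ rts) (h2 : B s s = 2) : ∃ ν : Fin 4 → Fˣ, chd ν s ≠ 1 := by
  obtain ⟨μ, hμ⟩ := H.chart.big
  obtain ⟨w, k, hk, hws⟩ := H.exists_wk hs h2
  obtain ⟨ν', hν'⟩ := hk.tor (oneH μ)
  refine ⟨ν', ?_⟩
  have h3 := hk.chd H.chart s0_mem hν'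
  rw [hws, chd_oneH, d_s0] at h3
  rw [h3]
  show μ ^ (2 : ℤ) ≠ 1
  intro h4
  have h5 : (μ : F) ^ 2 = 1 := by
    have := congrArg (fun u : Fˣ => (u : F)) h4
    simpa using this
  apply hμ
  apply Units.ext
  rw [Units.val_one]
  have h6 : ((μ : F) + 1) * ((μ : F) + 1) = 0 := by
    calc _ = (μ : F) ^ 2 + ((μ : F) + (μ : F)) + 1 := by ring
      _ = 0 := by rw [h5, H.chart.two, add_zero, H.chart.two]
  have h7 := mul_self_eq_zero.1 h6
  calc (μ : F) = ((μ : F) + 1) + 1 := by rw [add_assoc, H.chart.two, add_zero]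
    _ = 1 := by rw [h7, zero_add]

/-- **Transport of doubled root groups, by uniqueness.** -/
theorem map_le {W : (Fin 4 → ℤ) → Subgroup G}
    (dbl : ∀ s ∈ rts, B s s = 2 → D7Ex.IsDbl t (XE E s) (PT E T s) (W s))
    (torW : ∀ s ∈ rts, B s s = 2 → ∀ ν, ∀ w ∈ W s, T ν * w * (T ν)⁻¹ ∈ W s) {s s' : Fin 4 → ℤ} (hs : s ∈ rts)
    (h2 : B s s = 2) (hs' : s' ∈ rts) (h2' : B s' s' = 2) {k : G} (hk : k * t = t * k)
    (tor : ∀ ν, ∃ ν', k * T ν * k⁻¹ = T ν') (hX : ∀ x, x ∈ XE E s ↔ k * x * k⁻¹ ∈ XE E s')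
    (hP : ∀ x, x ∈ PT E T s ↔ k * x * k⁻¹ ∈ PT E T s') : ∀ w ∈ W s, k * w * k⁻¹ ∈ W s' := by
  have hX' : ∀ x ∈ XE E s', k⁻¹ * x * k ∈ XE E s := fun x hx => (hX _).2 (by
    rwa [show k * (k⁻¹ * x * k) * k⁻¹ = x by group])
  have hP' : ∀ x ∈ PT E T s', k⁻¹ * x * k ∈ PT E T s := fun x hx => (hP _).2 (by
    rwa [show k * (k⁻¹ * x * k) * k⁻¹ = x by group])
  obtain ⟨ν, hν⟩ := H.exists_nu hs h2
  obtain ⟨ν', hν'⟩ := tor ν
  have hne : chd ν' s' ≠ 1 := by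
    intro h
    apply hν
    apply Units.ext
    apply H.chart.eq_of hs
    have h3 := H.chart.tor s hs ν 1
    rw [mul_one] at h3
    rw [← h3, Units.val_one]
    obtain ⟨v, hv⟩ := (H.chart.mem_XE hs').1 ((hX _).1 (mem_XE' E s (1 : F)))
    have h4 := H.chart.tor_comm hs' h v
    have h5 : T ν = k⁻¹ * T ν' * k := by rw [← hν']; group
    have h6 : E s 1 = k⁻¹ * E s' v * k := by rw [hv]; group
    rw [h5, h6]
    calc k⁻¹ * T ν' * k * (k⁻¹ * E s' v * k) * (k⁻¹ * T ν' * k)⁻¹ = k⁻¹ * (T ν' * E s' v) * (T ν')⁻¹ * k := by group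
      _ = _ := by rw [h4]; group
  have hd := isDbl_conj (dbl s hs h2) hk (fun x hx => (hX x).1 hx) hX' hP'
  have key := dbl_le H.tt (H.XP hs' h2') (fun p hp => H.tP hp) (fun c h1 h3 => H.cPs hs' h2' h1 h3) hd
    (dbl s' hs' h2') (h := T ν') (H.tT ν') (fun x hx => H.tor_X hs' ν' hx) (H.tor_surj hs' hne) ?_
    (torW s' hs' h2' ν')
  · intro w hw
    exact key ⟨w, hw, rfl⟩
  · rintro _ ⟨w, hw, rfl⟩
    refine ⟨T ν * w * (T ν)⁻¹, torW s hs h2 ν w hw, ?_⟩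
    show k * (T ν * w * (T ν)⁻¹) * k⁻¹ = T ν' * (k * w * k⁻¹) * (T ν')⁻¹
    rw [← hν']; group

/-- **All doubled root groups from one.** -/
theorem exists_dbs {W0 : Subgroup G} {κ c0 : F}
    (dbl : D7Ex.IsDbl t (XE E s0) (PT E T s0) W0) (comm : ∀ w ∈ W0, ∀ w' ∈ W0, w * w' = w' * w)
    (sq : ∀ w ∈ W0, ∀ a, w⁻¹ * (t * w * t) = E s0 a → w * w = E s0 (c0 * a))
    (typ : ∀ w ∈ W0, ∀ a, w⁻¹ * (t * w * t) = E s0 a → ∀ k u, w * E (rc k) u * w⁻¹ =
      E (rv k) (κ * a * u) * E (rc k) u)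
    (tor : ∀ ν, ∀ w ∈ W0, T ν * w * (T ν)⁻¹ ∈ W0) (tX : ∀ a ∈ rts, ∀ u, t ≠ E a u) :
    ∃ W, Dbs t E T W κ c0 := by
  classical
  have hex : ∀ s, ∃ w k, s ∈ rts → B s s = 2 → WK t E T w k ∧ w s0 = s := by
    intro s
    by_cases h : s ∈ rts ∧ B s s = 2
    · obtain ⟨w, k, h1, h2⟩ := H.exists_wk h.1 h.2
      exact ⟨w, k, fun _ _ => ⟨h1, h2⟩⟩
    · exact ⟨id, 1, fun h1 h2 => absurd ⟨h1, h2⟩ h⟩
  choose w k hwk using hex
  obtain ⟨W, hW⟩ : ∃ W : (Fin 4 → ℤ) → Subgroup G, ∀ s, W s = W0.map (MulAut.conj (k s)).toMonoidHom := ⟨_, fun _ => rfl⟩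
  have mem : ∀ {s : Fin 4 → ℤ} {g : G}, g ∈ W s ↔ ∃ w0 ∈ W0, k s * w0 * (k s)⁻¹ = g := by
    intro s g
    rw [hW]
    rfl
  -- `D` under conjugation
  have keyD : ∀ {s : Fin 4 → ℤ}, s ∈ rts → B s s = 2 → ∀ {w0 : G} {a : F},
      (k s * w0 * (k s)⁻¹)⁻¹ * (t * (k s * w0 * (k s)⁻¹) * t) = E s a → w0⁻¹ * (t * w0 * t) = E s0 a := by
    intro s hs h2 w0 a h
    obtain ⟨h3, h4⟩ := hwk s hs h2
    have hki : (k s)⁻¹ * t = t * (k s)⁻¹ := by
      rw [inv_mul_eq_iff_eq_mul, ← mul_assoc, h3.kt, mul_inv_cancel_right]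
    have h5 := h3.wey.act s0 s0_mem a
    rw [h4, ← h] at h5
    have h6 : (k s * w0 * (k s)⁻¹)⁻¹ * (t * (k s * w0 * (k s)⁻¹) * t) = k s * (w0⁻¹ * (t * w0 * t)) * (k s)⁻¹ := by
      calc (k s * w0 * (k s)⁻¹)⁻¹ * (t * (k s * w0 * (k s)⁻¹) * t)
          = k s * w0⁻¹ * (k s)⁻¹ * (t * k s) * w0 * ((k s)⁻¹ * t) := by group
        _ = k s * w0⁻¹ * (k s)⁻¹ * (k s * t) * w0 * (t * (k s)⁻¹) := by rw [h3.kt, hki]
        _ = _ := by group
    rw [h6] at h5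
    exact (mul_left_cancel (mul_right_cancel h5)).symm
  have hdbl : ∀ s ∈ rts, B s s = 2 → D7Ex.IsDbl t (XE E s) (PT E T s) (W s) := by
    intro s hs h2
    obtain ⟨h3, h4⟩ := hwk s hs h2
    obtain ⟨w', h5, h6, h7⟩ := h3.inv
    have h8 : w' s = s0 := by rw [← h6 s0, h4]
    rw [hW]
    refine isDbl_conj dbl h3.kt (fun x hx => ?_) (fun x hx => ?_) (fun x hx => ?_)
    · have := h3.XE H.chart s0_mem hx
      rwa [h4] at this
    · have := h5.XE H.chart hs hx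
      rwa [h8, inv_inv] at this
    · have := h5.PT H.chart hs hx
      rwa [h8, inv_inv] at this
  have htor : ∀ s ∈ rts, B s s = 2 → ∀ ν, ∀ g ∈ W s, T ν * g * (T ν)⁻¹ ∈ W s := by
    intro s hs h2 ν g hg
    obtain ⟨w0, hw0, rfl⟩ := mem.1 hg
    obtain ⟨h3, h4⟩ := hwk s hs h2
    obtain ⟨ν', hν'⟩ := h3.torI ν
    refine mem.2 ⟨T ν' * w0 * (T ν')⁻¹, tor ν' w0 hw0, ?_⟩
    rw [← hν']; group
  have heqv : ∀ s ∈ rts, B s s = 2 → ∀ s' ∈ rts, B s' s' = 2 → ∀ k, k * t = t * k → (∀ ν, ∃ ν', k * T ν * k⁻¹ = T ν') →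
    (∀ x, x ∈ XE E s ↔ k * x * k⁻¹ ∈ XE E s') → (∀ x, x ∈ PT E T s ↔ k * x * k⁻¹ ∈ PT E T s') →
    ∀ w ∈ W s, k * w * k⁻¹ ∈ W s' := fun s hs h2 s' hs' h2' k hk h3 h4 h5 =>
    H.map_le hdbl htor hs h2 hs' h2' hk h3 h4 h5
  refine ⟨W, ⟨H.chart, H.tt, tX, H.tE, H.tT, hdbl, ?_, ?_, ?_, htor, ?_, heqv⟩⟩
  · intro s hs h2 g hg g' hg'
    obtain ⟨w0, hw0, rfl⟩ := mem.1 hg
    obtain ⟨w1, hw1, rfl⟩ := mem.1 hg'
    have := comm w0 hw0 w1 hw1
    calc k s * w0 * (k s)⁻¹ * (k s * w1 * (k s)⁻¹) = k s * (w0 * w1) * (k s)⁻¹ := by group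
      _ = k s * (w1 * w0) * (k s)⁻¹ := by rw [this]
      _ = _ := by group
  · intro s hs h2 g hg a ha
    obtain ⟨w0, hw0, rfl⟩ := mem.1 hg
    have h1 := sq w0 hw0 a (keyD hs h2 ha)
    obtain ⟨h3, h4⟩ := hwk s hs h2
    have h5 := h3.wey.act s0 s0_mem (c0 * a)
    rw [h4] at h5
    rw [← h5, ← h1]; group
  · intro s hs h2 g hg a ha d hd hd2 hds u
    obtain ⟨w0, hw0, rfl⟩ := mem.1 hg
    obtain ⟨h3, h4⟩ := hwk s hs h2
    obtain ⟨d0, hd0, rfl⟩ := h3.wey.surj d hd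
    rw [h3.wey.iso d0 hd0 d0 hd0] at hd2
    have hds' : B (w s d0) (w s s0) = 0 := by rw [h4]; exact hds
    rw [h3.wey.iso d0 hd0 s0 s0_mem] at hds'
    obtain ⟨j, rfl⟩ := k_c d0 hd0 hd2 hds'
    have h1 := typ w0 hw0 a (keyD hs h2 ha) j u
    have h5 := h3.wey.act (rv j) (rv_mem j) (κ * a * u)
    have h6 : w s (rv j) = s + w s (rc j) := by
      show w s (s0 + rc j) = _
      rw [h3.wey.add, h4]
    have h7 := h3.wey.act (rc j) (rc_mem j) u
    rw [h6] at h5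
    calc k s * w0 * (k s)⁻¹ * E (w s (rc j)) u * (k s * w0 * (k s)⁻¹)⁻¹
        = k s * w0 * (k s)⁻¹ * (k s * E (rc j) u * (k s)⁻¹) * (k s * w0 * (k s)⁻¹)⁻¹ := by rw [h7]
      _ = k s * (w0 * E (rc j) u * w0⁻¹) * (k s)⁻¹ := by group
      _ = (k s * E (rv j) (κ * a * u) * (k s)⁻¹) * (k s * E (rc j) u * (k s)⁻¹) := by rw [h1]; group
      _ = _ := by rw [h5, h7]
  · intro s hs h2 a ha g hg
    have h3 := WK.of_nE H.chart H.tE H.torN ha
    obtain ⟨w', h5, h6, h7⟩ := h3.inv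
    have hs' := h3.wey.mem s hs
    have h2' : B (rfl' a s) (rfl' a s) = 2 := by rw [k_rs a ha s hs, h2]
    refine heqv s hs h2 _ hs' h2' _ h3.kt h3.tor (fun x => ⟨fun hx => h3.XE H.chart hs hx, fun hx => ?_⟩)
      (fun x => ⟨fun hx => h3.PT H.chart hs hx, fun hx => ?_⟩) g hg
    · have := h5.XE H.chart hs' hx
      rw [h6, inv_inv] at this
      rwa [show (nE E a)⁻¹ * (nE E a * x * (nE E a)⁻¹) * nE E a = x by group] at this
    · have := h5.PT H.chart hs' hx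
      rw [h6, inv_inv] at this
      rwa [show (nE E a)⁻¹ * (nE E a * x * (nE E a)⁻¹) * nE E a = x by group] at this

end Base

/-! ### Frames -/

section Frame

universe u

variable {F : Type u} [Field F] [Finite F] {G : Type*} [Group G] [Finite G] {E : (Fin 4 → ℤ) → F → ↥(chevF4.group F)}
  {T : (Fin 4 → Fˣ) →* ↥(chevF4.group F)} {t : G} {f : ↥(chevF4.group F) →* G}

theorem base_of (C : KC E T) (R : Frame t f)
    (torN : ∀ a ∈ rts, ∀ ν, ∃ ν', nE E a * T ν * (nE E a)⁻¹ = T ν') : Base t (fun a u => f (E a u)) (f.comp T) := by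
  have C' := C.chart.map f R.inj
  have D := gdata C R
  have hPT : Loc.Pt (fun u => f (E s0 u)) (fun j u => f (E (rv j) u)) (fun i u => f (E (rz i) u))
      (fun j k u => f (E (rl j k) u)) (f.comp (T.comp consH)) = PT (fun a u => f (E a u)) (f.comp T) s0 := by
    rw [← T_eq C']
    rfl
  refine ⟨C', R.tt, fun a ha u => (R.ft _).symm, fun ν => (R.ft _).symm, ?_, ?_⟩
  · intro a ha ν
    obtain ⟨ν', h⟩ := torN a ha ν
    refine ⟨ν', ?_⟩
    have h1 : nE (fun a u => f (E a u)) a = f (nE E a) := by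
      unfold nE
      rw [map_mul, map_mul]
    rw [h1]
    show f (nE E a) * f (T ν) * (f (nE E a))⁻¹ = f (T ν')
    rw [← h, map_mul, map_mul, map_inv]
  · intro g hg hp
    rw [← hPT] at hp
    exact D.cP g hg hp

theorem Base.tor_PT {G : Type*} [Group G] {E : (Fin 4 → ℤ) → F → G} {T : (Fin 4 → Fˣ) →* G} {t : G}
    (H : Base t E T) (s : Fin 4 → ℤ) (ν : Fin 4 → Fˣ) {p : G} (hp : p ∈ PT E T s) : T ν * p * (T ν)⁻¹ ∈ PT E T s := by
  have hle : PT E T s ≤ (PT E T s).comap (MulAut.conj (T ν)).toMonoidHom := by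
    rw [PT, closure_le]
    rintro g (⟨a, ha, hc, u, rfl⟩ | ⟨ν', hν', rfl⟩)
    · show T ν * E a u * (T ν)⁻¹ ∈ PT E T s
      rw [H.chart.tor a ha]
      exact subset_closure (Or.inl ⟨a, ha, hc, _, rfl⟩)
    · show T ν * T ν' * (T ν)⁻¹ ∈ PT E T s
      rw [← map_mul, mul_comm, map_mul, mul_inv_cancel_right]
      exact subset_closure (Or.inr ⟨ν', hν', rfl⟩)
  exact hle hp

theorem Base.nice {G : Type*} [Group G] {E : (Fin 4 → ℤ) → F → G} {T : (Fin 4 → Fˣ) →* G} {t : G}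
    (H : Base t E T) (ν : Fin 4 → Fˣ) (μ : Fˣ) : D7Ex.Nice t (XE E s0) (PT E T s0) (T (oneH μ)) (T ν) := by
  refine ⟨(H.tT ν).symm, fun x => ⟨fun hx => H.tor_X s0_mem ν hx, fun hx => ?_⟩,
    fun p => ⟨fun hp => H.tor_PT s0 ν hp, fun hp => ?_⟩, ?_⟩
  · have := H.tor_X s0_mem ν⁻¹ hx
    rw [map_inv, inv_inv] at this
    rwa [show (T ν)⁻¹ * (T ν * x * (T ν)⁻¹) * T ν = x by group] at this
  · have := H.tor_PT s0 ν⁻¹ hp
    rw [map_inv, inv_inv] at this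
    rwa [show (T ν)⁻¹ * (T ν * p * (T ν)⁻¹) * T ν = p by group] at this
  · rw [← map_mul, mul_comm ν, map_mul, mul_inv_cancel_right, mul_inv_cancel]
    exact one_mem _

/-- **The doubled root groups of a frame.** -/
theorem exists_dbs_frame (C : KC E T) (R : Frame t f)
    (torN : ∀ a ∈ rts, ∀ ν, ∃ ν', nE E a * T ν * (nE E a)⁻¹ = T ν')
    (hM : Fusion.Moved t (XE (fun a u => f (E a u)) s0)) :
    ∃ W κ c0, Dbs t (fun a u => f (E a u)) (f.comp T) W κ c0 := by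
  have C' := C.chart.map f R.inj
  have L' : Loc (fun u => f (E s0 u)) (fun j u => f (E (rv j) u)) (fun i u => f (E (rz i) u))
    (fun j u => f (E (rc j) u)) (fun j k u => f (E (rl j k) u)) (f.comp (T.comp consH)) := C'.loc
  have hPT : Loc.Pt (fun u => f (E s0 u)) (fun j u => f (E (rv j) u)) (fun i u => f (E (rz i) u))
      (fun j k u => f (E (rl j k) u)) (f.comp (T.comp consH)) = PT (fun a u => f (E a u)) (f.comp T) s0 := by
    rw [← T_eq C']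
    rfl
  have H := base_of C R torN
  obtain ⟨n, hn1, hn2, hn3, hn4⟩ := hM
  obtain ⟨μ, W0, κ, c0, hW, hN⟩ := L'.exists_W (gdata C R) (n := n) hn1 hn2 hn3 hn4
  obtain ⟨dbl, comm, sq, typ, -⟩ := hW
  rw [hPT] at dbl
  have hN' : ∀ ν, ∀ w ∈ W0, (f.comp T) ν * w * ((f.comp T) ν)⁻¹ ∈ W0 := by
    intro ν w hw
    refine hN _ ?_ w hw
    rw [hPT]
    exact H.nice ν μ
  obtain ⟨W, hD⟩ := H.exists_dbs (W0 := W0) (κ := κ) (c0 := c0) dbl comm sq typ hN'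
    (fun a _ u h => R.not_mem_range C.cen _ h.symm)
  exact ⟨W, κ, c0, hD⟩

theorem dual_s0 : dual s0 = ![2, 4, 3, 2] := by decide +kernel

open Cfsg.Agent.KFacts.F4Pair (eF)

variable [CharP F 2]

theorem XE_eq_XG {δ : (Fin 4 → ℤ) → (Fin 4 → ℤ)} (h : Tw δ E) (C : Chart E T) (R : Frame t f) {a : Fin 4 → ℤ} (ha : a ∈ rts) :
    XE (fun a u => f (E a u)) a = XG f (δ a) := by
  ext x
  rw [(C.map f R.inj).mem_XE ha]
  constructor
  · rintro ⟨u, rfl⟩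
    exact ⟨E a u, (h.X a ha _).2 ⟨u, rfl⟩, rfl⟩
  · rintro ⟨y, hy, rfl⟩
    obtain ⟨u, rfl⟩ := (h.X a ha y).1 hy
    exact ⟨u, rfl⟩

/-- **The short root groups.** -/
theorem dbs_short (hq : ∃ μ : Fˣ, μ ≠ 1) (R : Frame t f) (hM : Fusion.Moved t (XG f s0)) :
    ∃ W κ c0, Dbs t (fun a u => f (eF F a u)) (f.comp TH) W κ c0 := by
  refine exists_dbs_frame (kc_short hq) R (fun a ha ν => TH_norm hq ha ν) ?_
  rw [XE_eq_XG tw_id (chartY hq) R s0_mem]
  exact hM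

/-- **The long root groups.** -/
theorem dbs_long (hq : ∃ μ : Fˣ, μ ≠ 1) {rt : F ≃+* F} (hrt : ∀ u, rt u ^ 2 = u) (R : Frame t f)
    (hM : Fusion.Moved t (XG f (dual s0))) :
    ∃ W κ c0, Dbs t (fun a u => f (dualE rt (eF F) a u)) (f.comp (TH.comp (dualH rt))) W κ c0 := by
  refine exists_dbs_frame (kc_long hq rt hrt) R (fun a ha ν => TH_norm_dual hq hrt ha ν) ?_
  rw [XE_eq_XG (tw_dual rt) (Chart.dual rt hrt (chartY hq)) R s0_mem]
  exact hM

end Frame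

end Cfsg.Agent.OddHalf.D7F4Ex

end

-- merged: Cfsg.Agent.OddHalf.D7F4Ex.XOf
section

/-!
# Root groups of a chart after a relabelling
-/

set_option autoImplicit false

namespace Cfsg.Agent.OddHalf.D7F4Ex

open Cfsg.Agent.OddHalf.D7F4.Model

/-- `X (d a) = {E a u}` -/
def XOf {F : Type*} {G : Type*} [Group G] (d : (Fin 4 → ℤ) → (Fin 4 → ℤ)) (E : (Fin 4 → ℤ) → F → G)
    (X : (Fin 4 → ℤ) → Subgroup G) : Prop :=
  ∀ a ∈ rts, ∀ g, g ∈ X (d a) ↔ ∃ u, E a u = g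

end Cfsg.Agent.OddHalf.D7F4Ex

end

-- merged: Cfsg.Agent.OddHalf.D7F4Ex.DbsTy
section

/-!
# Types and torus of the doubled root groups, both charts
-/

set_option autoImplicit false
set_option linter.unusedSectionVars false

namespace Cfsg.Agent.OddHalf.D7F4Ex

open Subgroup Cfsg.Lie Cfsg.Agent.OddHalf.D7F4 Cfsg.Agent.OddHalf.D7F4.Model Cfsg.Agent.OddHalf.D7F4.TypeCModel

variable {F : Type*} [Field F] {G : Type*} [Group G] {t : G} {E : (Fin 4 → ℤ) → F → G} {T : (Fin 4 → Fˣ) →* G}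
  {W X : (Fin 4 → ℤ) → Subgroup G} {κ c0 : F}

namespace Dbs

variable (D : Dbs t E T W κ c0)

include D

theorem exists_a {s : Fin 4 → ℤ} (hs : s ∈ rts) (h2 : B s s = 2) {w : G} (hw : w ∈ W s) :
    ∃ a, w⁻¹ * (t * w * t) = E s a := by
  obtain ⟨a, ha⟩ := (D.chart.mem_XE hs).1 ((D.dbl s hs h2).brk w hw)
  exact ⟨a, ha.symm⟩

theorem mem_of_zero {s : Fin 4 → ℤ} (hs : s ∈ rts) (h2 : B s s = 2) {w : G} (hw : w ∈ W s)
    (h : w⁻¹ * (t * w * t) = E s 0) : ∃ u, E s u = w := by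
  refine (D.chart.mem_XE hs).1 ((D.dbl s hs h2).cent w hw ?_)
  rw [D.chart.zero hs, inv_mul_eq_one] at h
  have ht : t⁻¹ = t := inv_eq_of_mul_eq_one_left D.tt
  calc t * w = t * w * t * t⁻¹ := by group
    _ = w * t := by rw [← h, ht]

/-- type C -/
theorem commC (h0 : κ = 0) {s d : Fin 4 → ℤ} (hs : s ∈ rts) (hd : d ∈ rts) (h2 : B s s = 2) (h2' : B d d = 2)
    (h3 : B s d = 0) (hsd : s + d ∈ rts) {w : G} (hw : w ∈ W s) (u : F) : w * E d u = E d u * w := by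
  obtain ⟨a, ha⟩ := D.exists_a hs h2 hw
  have h4 := D.typ s hs h2 w hw a ha d hd h2' (by rw [B_symm]; exact h3) u
  rw [h0, zero_mul, zero_mul, D.chart.zero hsd, one_mul] at h4
  exact mul_inv_eq_iff_eq_mul.1 h4

/-- type O -/
theorem commO (h0 : κ ≠ 0) {s d : Fin 4 → ℤ} (hs : s ∈ rts) (hd : d ∈ rts) (h2 : B s s = 2) (h2' : B d d = 2)
    (h3 : B s d = 0) (hsd : s + d ∈ rts) {w : G} (hw : w ∈ W s) (hwx : ¬ ∃ u, E s u = w) {u : F} (hu : u ≠ 0) :
    w * E d u ≠ E d u * w := by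
  obtain ⟨a, ha⟩ := D.exists_a hs h2 hw
  have h4 := D.typ s hs h2 w hw a ha d hd h2' (by rw [B_symm]; exact h3) u
  intro h
  rw [h, mul_inv_cancel_right] at h4
  have h5 : E (s + d) (κ * a * u) = 1 := (mul_eq_right.1 h4.symm)
  have h6 := D.chart.inj _ hsd _ h5
  rcases mul_eq_zero.1 h6 with h7 | h7
  · rcases mul_eq_zero.1 h7 with h8 | h8
    · exact h0 h8
    · exact hwx (D.mem_of_zero hs h2 hw (h8 ▸ ha))
  · exact hu h7

/-- `T ν` centralising `X_s` centralises `W_s`. -/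
theorem torHX {s : Fin 4 → ℤ} (hs : s ∈ rts) (h2 : B s s = 2) {ν : Fin 4 → Fˣ}
    (h : ∀ u, T ν * E s u = E s u * T ν) {w : G} (hw : w ∈ W s) : T ν * w = w * T ν := by
  have h1 : chd ν s = 1 := by
    apply Units.ext
    apply D.chart.eq_of hs
    have h3 := D.chart.tor s hs ν 1
    rw [h 1, mul_inv_cancel_right, mul_one] at h3
    rw [← h3, Units.val_one]
  exact ((D.dbl s hs h2).WP w hw _ (subset_closure (Or.inr ⟨ν, h1, rfl⟩))).symm

end Dbs

theorem k_sum : ∀ s ∈ rts, ∀ d ∈ rts, B s s = 2 → B d d = 2 → B s d = 0 → s + d ∈ rts := by decide +kernel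
theorem k_dual0 : ∀ s ∈ rts, ∀ d ∈ rts, B s s = 4 → B d d = 4 → B s d = 0 → B (dual s) (dual d) = 0 := by
  decide +kernel

/-- **The type of the short root groups.** -/
theorem Dbs.ty_short (D : Dbs t E T W κ c0) (hX : XOf (fun a => a) E X) : TyC X W 2 ∨ TyO X W 2 := by
  by_cases h0 : κ = 0
  · left
    intro a ha d hd h2 h2' h3 w hw x hx
    obtain ⟨u, rfl⟩ := (hX d hd x).1 hx
    exact D.commC h0 ha hd h2 h2' h3 (k_sum a ha d hd h2 h2' h3) hw u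
  · right
    intro a ha d hd h2 h2' h3 w hw hwx x hx hx1
    obtain ⟨u, rfl⟩ := (hX d hd x).1 hx
    refine D.commO h0 ha hd h2 h2' h3 (k_sum a ha d hd h2 h2' h3) hw (fun h => hwx ((hX a ha w).2 h)) ?_
    rintro rfl
    exact hx1 (D.chart.zero hd)

theorem XOf.dual (hX : XOf Model.dual E X) {a : Fin 4 → ℤ} (ha : a ∈ rts) (g : G) :
    g ∈ X a ↔ ∃ u, E (Model.dual a) u = g := by
  have h := hX (Model.dual a) (dual_mem a ha) g
  rwa [dual_dual a ha] at h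

/-- **The type of the long root groups.** -/
theorem Dbs.ty_long (D : Dbs t E T W κ c0) (hX : XOf Model.dual E X) :
    TyC X (fun a => W (Model.dual a)) 4 ∨ TyO X (fun a => W (Model.dual a)) 4 := by
  by_cases h0 : κ = 0
  · left
    intro a ha d hd h2 h2' h3 w hw x hx
    obtain ⟨u, rfl⟩ := (hX.dual hd x).1 hx
    exact D.commC h0 (dual_mem a ha) (dual_mem d hd) (dn4 a ha h2) (dn4 d hd h2') (k_dual0 a ha d hd h2 h2' h3)
      (k_sum _ (dual_mem a ha) _ (dual_mem d hd) (dn4 a ha h2) (dn4 d hd h2') (k_dual0 a ha d hd h2 h2' h3)) hw u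
  · right
    intro a ha d hd h2 h2' h3 w hw hwx x hx hx1
    obtain ⟨u, rfl⟩ := (hX.dual hd x).1 hx
    refine D.commO h0 (dual_mem a ha) (dual_mem d hd) (dn4 a ha h2) (dn4 d hd h2') (k_dual0 a ha d hd h2 h2' h3)
      (k_sum _ (dual_mem a ha) _ (dual_mem d hd) (dn4 a ha h2) (dn4 d hd h2') (k_dual0 a ha d hd h2 h2' h3)) hw
      (fun h => hwx ((hX.dual ha w).2 h)) ?_
    rintro rfl
    exact hx1 (D.chart.zero (dual_mem d hd))

/-- **The torus on the short root groups.** -/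
theorem Dbs.torN_short (D : Dbs t E T W κ c0) (hX : XOf (fun a => a) E X) : TorN X W T.range 2 where
  HW := by
    rintro _ ⟨ν, rfl⟩ a ha h2 w hw
    exact D.torW a ha h2 ν w hw
  HX := by
    rintro _ ⟨ν, rfl⟩ a ha h2 h w hw
    exact D.torHX ha h2 (fun u => h _ ((hX a ha _).2 ⟨u, rfl⟩)) hw

/-- **The torus on the long root groups.** -/
theorem Dbs.torN_long (D : Dbs t E T W κ c0) (hX : XOf Model.dual E X) :
    TorN X (fun a => W (Model.dual a)) T.range 4 where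
  HW := by
    rintro _ ⟨ν, rfl⟩ a ha h2 w hw
    exact D.torW _ (dual_mem a ha) (dn4 a ha h2) ν w hw
  HX := by
    rintro _ ⟨ν, rfl⟩ a ha h2 h w hw
    exact D.torHX (dual_mem a ha) (dn4 a ha h2) (fun u => h _ ((hX.dual ha _).2 ⟨u, rfl⟩)) hw

/-! ### Frames -/

section Frame

open Cfsg.Agent.KFacts.F4Pair (eF) 
open Cfsg.Agent.KFacts.F4Torus (TF)

universe u

variable {F : Type u} [Field F] [Finite F] [CharP F 2] {G : Type*} [Group G] {f : ↥(chevF4.group F) →* G}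

theorem xof_short (f : ↥(chevF4.group F) →* G) : XOf (fun a => a) (fun a u => f (eF F a u)) (XG f) := by
  intro a ha g
  constructor
  · rintro ⟨y, hy, rfl⟩
    obtain ⟨u, rfl⟩ := (tw_id.X a ha y).1 hy
    exact ⟨u, rfl⟩
  · rintro ⟨u, rfl⟩
    exact ⟨_, (tw_id.X a ha _).2 ⟨u, rfl⟩, rfl⟩

theorem xof_long (rt : F ≃+* F) (f : ↥(chevF4.group F) →* G) :
    XOf Model.dual (fun a u => f (dualE rt (eF F) a u)) (XG f) := by
  intro a ha g
  constructor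
  · rintro ⟨y, hy, rfl⟩
    obtain ⟨u, rfl⟩ := ((tw_dual rt).X a ha y).1 hy
    exact ⟨u, rfl⟩
  · rintro ⟨u, rfl⟩
    exact ⟨_, ((tw_dual rt).X a ha _).2 ⟨u, rfl⟩, rfl⟩

theorem range_short (f : ↥(chevF4.group F) →* G) : (f.comp (TH (F := F))).range = (TF F).map f := by
  rw [MonoidHom.range_comp, range_TH]

theorem range_long {rt : F ≃+* F} (hrt : ∀ u, rt u ^ 2 = u) (f : ↥(chevF4.group F) →* G) :
    (f.comp (TH.comp (dualH (F := F) rt))).range = (TF F).map f := by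
  rw [MonoidHom.range_comp, range_TH_dual hrt]

end Frame

end Cfsg.Agent.OddHalf.D7F4Ex

end

-- merged: Cfsg.Agent.OddHalf.D7F4Ex.DbsOut
section

/-!
# The doubled root groups of a chart in the form of `D7F4.Dual`, `D7F4.TypeCModel` (S1765, node D7; F4)

* `Dbs.ws`, `Dbs.wl` : `Dbs` with `c0 = 0` gives `WS`, `WL`;
* `ws_XG`, `wl_XG` : the same for the root groups `XG f`.
-/

set_option autoImplicit false

namespace Cfsg.Agent.OddHalf.D7F4Ex

open Cfsg.Agent.OddHalf.D7F4 Cfsg.Agent.OddHalf.D7F4.Model Cfsg.Agent.OddHalf.D7F4.TypeCModel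

variable {F : Type*} [Field F] {G : Type*} [Group G]

section

variable {t : G} {E : (Fin 4 → ℤ) → F → G} {T : (Fin 4 → Fˣ) →* G} {W X : (Fin 4 → ℤ) → Subgroup G} {κ c0 : F}

namespace Dbs

/-- the commutator with `t` -/
theorem exists_D (D : Dbs t E T W κ c0) {s : Fin 4 → ℤ} (hs : s ∈ rts) (h2 : B s s = 2) {w : G} (hw : w ∈ W s) :
    ∃ a, w⁻¹ * (t * w * t) = E s a := by
  obtain ⟨a, ha⟩ := (D.chart.mem_XE hs).1 ((D.dbl s hs h2).brk w hw)
  exact ⟨a, ha.symm⟩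

/-- `W s` commutes with the root elements of `P~_s`. -/
theorem comm_E (D : Dbs t E T W κ c0) {s : Fin 4 → ℤ} (hs : s ∈ rts) (h2 : B s s = 2) {w : G} (hw : w ∈ W s)
    {a : Fin 4 → ℤ} (ha : a ∈ rts) (h : Cs s a) (u : F) : w * E a u = E a u * w :=
  (D.dbl s hs h2).WP w hw _ (Subgroup.subset_closure (Or.inl ⟨a, ha, h, u, rfl⟩))

theorem comm_T (D : Dbs t E T W κ c0) {s : Fin 4 → ℤ} (hs : s ∈ rts) (h2 : B s s = 2) {w : G} (hw : w ∈ W s)
    {ν : Fin 4 → Fˣ} (h : chd ν s = 1) : w * T ν = T ν * w :=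
  (D.dbl s hs h2).WP w hw _ (Subgroup.subset_closure (Or.inr ⟨ν, h, rfl⟩))

/-- the commutator with a short root element at 90 degrees -/
theorem typ' (D : Dbs t E T W κ c0) {s : Fin 4 → ℤ} (hs : s ∈ rts) (h2 : B s s = 2) {w : G} (hw : w ∈ W s) {a' : F}
    (ha' : w⁻¹ * (t * w * t) = E s a') {d : Fin 4 → ℤ} (hd : d ∈ rts) (h2' : B d d = 2) (h0 : B d s = 0) (u : F) :
    w * E d u * w⁻¹ * (E d u)⁻¹ = E (s + d) (κ * a' * u) := by
  rw [D.typ s hs h2 w hw a' ha' d hd h2' h0 u, mul_inv_cancel_right]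

theorem sq_zero (D : Dbs t E T W κ 0) {s : Fin 4 → ℤ} (hs : s ∈ rts) (h2 : B s s = 2) {w : G} (hw : w ∈ W s) :
    w * w = 1 := by
  obtain ⟨a, ha⟩ := D.exists_D hs h2 hw
  rw [D.sq s hs h2 w hw a ha, zero_mul]
  have h := D.chart.add s hs 0 0
  rw [add_zero] at h
  exact (mul_eq_left.1 h.symm)

/-- `w` outside `X_s` has a nontrivial commutator with `t`. -/
theorem D_ne (D : Dbs t E T W κ c0) {s : Fin 4 → ℤ} (hs : s ∈ rts) (h2 : B s s = 2) {w : G} (hw : w ∈ W s)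
    {a : F} (ha : w⁻¹ * (t * w * t) = E s a) (hn : w ∉ XE E s) : a ≠ 0 := by
  rintro rfl
  apply hn
  refine (D.dbl s hs h2).cent w hw ?_
  have h0 : E s 0 = 1 := by
    have h := D.chart.add s hs 0 0
    rw [add_zero] at h
    exact (mul_eq_left.1 h.symm)
  rw [h0, inv_mul_eq_one] at ha
  calc t * w = t * w * (t * t) := by rw [D.tt, mul_one]
    _ = t * w * t * t := by group
    _ = w * t := by rw [← ha]

/-- **The short root groups.** -/
theorem ws (D : Dbs t E T W κ 0) (hX : XOf (fun a => a) E X) : WS t X W := by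
  have hE : ∀ s ∈ rts, ∀ g, g ∈ XE E s ↔ g ∈ X s := fun s hs g => by
    rw [D.chart.mem_XE hs]; exact (hX s hs g).symm
  refine ⟨fun s hs h2 x hx => (D.dbl s hs h2).XW ((hE s hs x).2 hx), fun s hs h2 w hw => D.sq_zero hs h2 hw,
    fun s hs h2 w hw => (hE s hs _).1 ((D.dbl s hs h2).brk w hw),
    fun s hs h2 w hw h => (hE s hs _).1 ((D.dbl s hs h2).cent w hw h),
    fun s hs h2 x hx => (D.dbl s hs h2).surj x ((hE s hs x).2 hx), ?_, ?_⟩
  · intro s hs h2 a ha h w hw x hx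
    obtain ⟨u, rfl⟩ := (hX a ha x).1 hx
    exact D.comm_E hs h2 hw ha h u
  · intro s hs h2 a ha h2' h0 w hw x hx
    obtain ⟨u, rfl⟩ := (hX a ha x).1 hx
    obtain ⟨a', ha'⟩ := D.exists_D hs h2 hw
    rw [D.typ' hs h2 hw ha' ha h2' h0 u]
    exact (hX (s + a) (add0 s hs a ha h2 h2' (by rw [B_symm]; exact h0)) _).2 ⟨_, rfl⟩

/-- **The long root groups.** -/
theorem wl (D : Dbs t E T W κ 0) (hX : XOf dual E X) : WL t X (fun a => W (dual a)) := by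
  have hX' : ∀ s ∈ rts, ∀ g, g ∈ X s ↔ ∃ u, E (dual s) u = g := fun s hs g => by
    have h := hX (dual s) (dual_mem s hs) g
    rwa [dual_dual s hs] at h
  have hE : ∀ s ∈ rts, ∀ g, g ∈ XE E (dual s) ↔ g ∈ X s := fun s hs g => by
    rw [D.chart.mem_XE (dual_mem s hs)]; exact (hX' s hs g).symm
  refine ⟨fun s hs h2 x hx => (D.dbl _ (dual_mem s hs) (dn4 s hs h2)).XW ((hE s hs x).2 hx),
    fun s hs h2 w hw => D.sq_zero (dual_mem s hs) (dn4 s hs h2) hw,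
    fun s hs h2 w hw => (hE s hs _).1 ((D.dbl _ (dual_mem s hs) (dn4 s hs h2)).brk w hw),
    fun s hs h2 w hw h => (hE s hs _).1 ((D.dbl _ (dual_mem s hs) (dn4 s hs h2)).cent w hw h),
    fun s hs h2 x hx => (D.dbl _ (dual_mem s hs) (dn4 s hs h2)).surj x ((hE s hs x).2 hx), ?_, ?_⟩
  · intro s hs h2 a ha h w hw x hx
    obtain ⟨u, rfl⟩ := (hX' a ha x).1 hx
    refine D.comm_E (dual_mem s hs) (dn4 s hs h2) hw (dual_mem a ha) ?_ u
    obtain ⟨h3, h4, -, -⟩ := dS a ha (dual s) (dual_mem s hs) (dn4 s hs h2)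
    rw [dual_dual s hs] at h3 h4
    rcases h with h | h
    · exact Or.inl (h3 h)
    · exact Or.inr (h4 h)
  · intro s hs h2 a ha h2' h0 m hm hmm w hw x hx
    obtain ⟨u, rfl⟩ := (hX' a ha x).1 hx
    obtain ⟨a', ha'⟩ := D.exists_D (dual_mem s hs) (dn4 s hs h2) hw
    have h5 : B (dual s) (dual a) = 0 := by
      have := dual_ll s hs a ha h2 h2'
      rw [B_symm a s] at h0
      omega
    rw [D.typ' (dual_mem s hs) (dn4 s hs h2) hw ha' (dual_mem a ha) (dn4 a ha h2') (by rw [B_symm]; exact h5) u]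
    have h6 : m = dual (dual s + dual a) := dmid _ (dual_mem s hs) _ (dual_mem a ha) (dn4 s hs h2) (dn4 a ha h2') h5 m hm
      (by rw [dual_dual s hs, dual_dual a ha]; exact hmm)
    rw [h6]
    exact (hX _ (add0 _ (dual_mem s hs) _ (dual_mem a ha) (dn4 s hs h2) (dn4 a ha h2') h5) _).2 ⟨_, rfl⟩

end Dbs

end

/-! ### The root groups of `K` -/

section XG

open Cfsg.Lie Cfsg.Agent.KFacts.F4Pair

universe u

variable {F : Type u} [Field F] [Finite F] [CharP F 2] {G : Type*} [Group G] {t : G} {f : ↥(chevF4.group F) →* G}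
  {W : (Fin 4 → ℤ) → Subgroup G} {κ : F}

/-- **The short root groups of `K`.** -/
theorem ws_XG (D : Dbs t (fun a u => f (eF F a u)) (f.comp TH) W κ 0) : WS t (XG f) W := D.ws (xof_short f)

/-- **The long root groups of `K`.** -/
theorem wl_XG {rt : F ≃+* F} (D : Dbs t (fun a u => f (dualE rt (eF F) a u)) (f.comp (TH.comp (dualH rt))) W κ 0) :
    WL t (XG f) (fun a => W (dual a)) := D.wl (xof_long rt f)

end XG

end Cfsg.Agent.OddHalf.D7F4Ex

end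

-- merged: Cfsg.Agent.OddHalf.D7F4.Row
section

/-!
# K = F4(q), q ≥ 4 even: the row of the node D7 (S1765; helper84)

`Row.node : Node @FamF4'`.
-/

set_option autoImplicit false
set_option Elab.async false
set_option linter.unusedSectionVars false

namespace Cfsg.Agent.OddHalf.D7F4.Row

open Subgroup Cfsg.Lie
open Cfsg.Agent.ChevalleyStructure Cfsg.Agent.ChevalleyStructure.Elts
open Cfsg.Agent.KFacts.ChevTwoTab Cfsg.Agent.KFacts.ChevTwoInst Cfsg.Agent.KFacts.F4Pair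
  Cfsg.Agent.KFacts.F4Torus Cfsg.Agent.KFacts.F4Cent
open Cfsg.Agent.OddHalf.D7F4 Cfsg.Agent.OddHalf.D7F4.Model Cfsg.Agent.OddHalf.D7F4.FrOut
  Cfsg.Agent.OddHalf.D7F4.Fusion Cfsg.Agent.OddHalf.D7F4.Adapted Cfsg.Agent.OddHalf.D7F4.KFront
  Cfsg.Agent.OddHalf.D7F4Ex Cfsg.Agent.OddHalf.D7F4.TypeCModel Cfsg.Agent.OddHalf.D7.Cases
  Cfsg.Agent.OddHalf.Iface

universe u v

/-- the square root -/
theorem exists_rt (F : Type v) [Field F] [Finite F] [CharP F 2] : ∃ rt : F ≃+* F, ∀ u, rt u ^ 2 = u := by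
  have : Fact (Nat.Prime 2) := ⟨Nat.prime_two⟩
  have : ExpChar F 2 := inferInstance
  have : PerfectRing F 2 := inferInstance
  exact ⟨(frobeniusEquiv F 2).symm, fun u => frobeniusEquiv_symm_pow_p F 2 u⟩

variable {G : Type u} [Group G] {F : Type v} [Field F] [Finite F] [CharP F 2] {f : ↥(chevF4.group F) →* G} {t g : G}
  {T : Subgroup G}

/-! ### The centraliser of the common part of two parabolic subgroups -/

theorem tabK1 : ∀ s ∈ rts, ∀ s' ∈ rts, B s s = 2 → B s' s' = 2 → B s s' = 1 →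
    B (dual s) (dual s') = 2 := by decide +kernel

theorem tabK2 : ∀ s ∈ rts, ∀ b ∈ rts, B s s = 2 → (B b b = 2 ∧ 0 ≤ B b (dual s) ∨ B b b = 4 ∧ 0 < B b (dual s)) →
    B (dual b) (dual b) = 4 ∧ 0 ≤ B (dual b) s ∨ B (dual b) (dual b) = 2 ∧ 0 < B (dual b) s := by
  decide +kernel

theorem k2e_short (hK : KF t (XG f)) : K2E t (fun a u => f (eF F a u)) := by
  intro s hs s' hs' h2 h2' h1 c hc h
  obtain ⟨x, hx, y, hy, z, hz, e⟩ := hK.K2s s hs s' hs' h2 h2' (by omega) (by omega) c hc (fun a ha hP x hx => by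
    obtain ⟨u, rfl⟩ := (mem_XG ha).1 hx
    refine h a ha ?_ ?_ u
    · rcases hP with ⟨a1, a2, -⟩ | ⟨a1, a2, -⟩
      · exact Or.inl ⟨a1, a2⟩
      · exact Or.inr ⟨a1, a2⟩
    · rcases hP with ⟨a1, -, a2⟩ | ⟨a1, -, a2⟩
      · exact Or.inl ⟨a1, a2⟩
      · exact Or.inr ⟨a1, a2⟩)
  obtain ⟨u, rfl⟩ := (mem_XG hs).1 hx
  obtain ⟨u', rfl⟩ := (mem_XG hs').1 hy
  rcases hz with ⟨-, rfl⟩ | ⟨h3, -⟩
  · rw [mul_one] at e
    exact ⟨u, u', e⟩
  · omega

theorem k2e_long (hK : KF t (XG f)) {rt : F ≃+* F} : K2E t (fun a u => f (dualE rt (eF F) a u)) := by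
  intro s hs s' hs' h2 h2' h1 c hc h
  have g1 := dual_mem s hs
  have g2 := dual_mem s' hs'
  have n1 := dn2 s hs h2
  have n2 := dn2 s' hs' h2'
  have n3 := tabK1 s hs s' hs' h2 h2' h1
  obtain ⟨x, hx, y, hy, z, hz, e⟩ := hK.K2l _ g1 _ g2 n1 n2 (by omega) (by omega) c hc (fun b hb hP x hx => by
    obtain ⟨u, rfl⟩ := (mem_XG hb).1 hx
    have hb' := dual_mem b hb
    have c1 : Cs s (dual b) := tabK2 s hs b hb h2 (by
      rcases hP with ⟨a1, a2, -⟩ | ⟨a1, a2, -⟩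
      · exact Or.inl ⟨a1, a2⟩
      · exact Or.inr ⟨a1, a2⟩)
    have c2 : Cs s' (dual b) := tabK2 s' hs' b hb h2' (by
      rcases hP with ⟨a1, -, a2⟩ | ⟨a1, -, a2⟩
      · exact Or.inl ⟨a1, a2⟩
      · exact Or.inr ⟨a1, a2⟩)
    rcases norm _ hb' with h3 | h3
    · have h4 := h _ hb' c1 c2 u
      simp only [dualE_short rt h3, dual_dual b hb] at h4
      exact h4
    · have h4 := h _ hb' c1 c2 (rt.symm u)
      simp only [dualE_long rt h3, dual_dual b hb, RingEquiv.apply_symm_apply] at h4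
      exact h4)
  obtain ⟨u, rfl⟩ := (mem_XG g1).1 hx
  obtain ⟨u', rfl⟩ := (mem_XG g2).1 hy
  refine ⟨u, u', ?_⟩
  simp only [dualE_short rt h2, dualE_short rt h2']
  rcases hz with ⟨-, rfl⟩ | ⟨h3, -⟩ | ⟨h3, -⟩
  · rw [mul_one] at e
    exact e
  · omega
  · omega

/-- **One of the two lengths is moved.** -/
theorem not_mem [Finite G] (hF : 2 < Nat.card F) (O : FrO t f T g)
    (hm : Moved t (XG f (v 47)) ∨ Moved t (XG f (v 44))) : t ∉ _root_.commutator G := by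
  have hq := RowOne.exists_unit (F := F) hF
  obtain ⟨rt, hrt⟩ := exists_rt F
  have kf := KInst.kf O.R KInst.innerX hF
  have h44 : v 44 = s0 := by rw [RowOne.v44]; decide +kernel
  have h47 : v 47 = dual s0 := by rw [RowOne.v47]; decide +kernel
  by_cases h1 : Moved t (XG f (v 47))
  · have h1' := h1
    rw [h47] at h1'
    obtain ⟨W2, κ2, c2, D2⟩ := dbs_long hq hrt O.R h1'
    have h0 := D2.c0_eq (k2e_long kf)
    subst h0
    have wl : WL t (XG f) (fun a => W2 (dual a)) := wl_XG D2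
    by_cases h2 : Moved t (XG f (v 44))
    · have h2' := h2
      rw [h44] at h2'
      obtain ⟨W1, κ1, c1, D1⟩ := dbs_short hq O.R h2'
      have h0 := D1.c0_eq (k2e_short kf)
      subst h0
      have ws : WS t (XG f) W1 := ws_XG D1
      have n1 : TorN (XG f) W1 ((TF F).map f) 2 := by
        rw [← range_short f]; exact D1.torN_short (xof_short f)
      have n2 : TorN (XG f) (fun a => W2 (dual a)) ((TF F).map f) 4 := by
        rw [← range_long hrt f]; exact D2.torN_long (xof_long rt f)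
      exact RowCC.row hF O kf (KInst.kg O.R KInst.innerX)
        (wc_comb kf (TypeCInst.kt O.R hF) ws wl n1 n2 (D1.ty_short (xof_short f)) (D2.ty_long (xof_long rt f)))
        (TorW.comb n1 n2)
    · exact RowOne.row_long hF O rt hrt D2 wl h1 h2
  · have h2 := hm.resolve_left h1
    have h2' := h2
    rw [h44] at h2'
    obtain ⟨W1, κ1, c1, D1⟩ := dbs_short hq O.R h2'
    have h0 := D1.c0_eq (k2e_short kf)
    subst h0
    exact RowOne.row_short hF O D1 (ws_XG D1) h2 h1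

/-- **The row.** -/
theorem node : Node.{u} @FamF4'.{u} := by
  refine StartF4.node_of fun G _ _ F _ _ _ hF hG _ t f T _ S => ?_
  obtain ⟨s, -, g, O, -, hX⟩ := exists_frO hF S.frame S.fr.pT S.fr.tc S.fr.max (by rw [S.fr.U_eq]; exact inf_le_left)
  have h : t ∉ _root_.commutator G := by
    refine not_mem hF O ?_
    rw [RowOne.v47, RowOne.v44, hX _ Lead.ρ_mem, hX _ Lead.σ_mem, ← RowOne.v47, ← RowOne.v44]
    exact S.moved
  rw [hG] at h
  exact h (Subgroup.mem_top t)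

end Cfsg.Agent.OddHalf.D7F4.Row

end
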