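import Mathlib
import Cfsg.Agent.KFacts.RgdGraph
import Cfsg.Agent.KFacts.RgdOver
import Cfsg.Agent.KFacts.RgdGraphF4
import Cfsg.Agent.OddHalf.D7F4.KBridge
import Cfsg.Agent.OddHalf.D7F4.Frame

-- merged: Cfsg.Agent.KFacts.RgdGraphPure
section

/-!
# Frame automorphisms of `p`-power order are standard in suitable coordinates, any diagram symmetry

`Sys R e` (characteristic two, root elements without signs).

* `exists_pure_semi` : `β (e' (w α_i) a) = e' (ŵ α_(σ i)) (τ i a)` for `e' r a = e r (d r * a)`;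
* `exists_tor` : if the Cartan matrix is invertible over `ℤ` then `e r (d r * a) = s * e r a * s⁻¹`, `s ∈ T`.
-/

set_option autoImplicit false
set_option linter.unusedSectionVars false

namespace Cfsg.Agent.KFacts.RgdGraphPure

open CoxeterSystem Cfsg.Agent.ChevalleyStructure.CoxeterGeom Cfsg.Agent.Tits.Roots Cfsg.Agent.Tits.Core
  Cfsg.Agent.Tits.Exchange Cfsg.Agent.Nodes.Reps Cfsg.Agent.Nodes.BNOf Cfsg.Agent.Nodes.StabComb
  Cfsg.Agent.Nodes.Bruhat Cfsg.Agent.Nodes.OppDec Cfsg.Agent.Nodes.LeviDec Cfsg.Agent.Nodes.NormalForm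
  Cfsg.Agent.Nodes.Coroot Cfsg.Agent.Nodes.PosPair
  Cfsg.Agent.KFacts.RgdOpp Cfsg.Agent.KFacts.RgdAut Cfsg.Agent.KFacts.RgdDiag Cfsg.Agent.KFacts.RgdRigid
  Cfsg.Agent.KFacts.RgdCent Cfsg.Agent.KFacts.RgdKap Cfsg.Agent.KFacts.RgdField Cfsg.Agent.KFacts.RgdTau
  Cfsg.Agent.KFacts.RgdSys Cfsg.Agent.KFacts.RgdPure Cfsg.Agent.KFacts.ChevTwo

variable {I W Y K : Type*} [Fintype I] [DecidableEq I] [Group W] [Group Y] [Field K] {M : CoxeterMatrix I}
variable {cs : CoxeterSystem M W} {A : I → I → ℤ} {h : IsCartan M A} {e : (I → ℤ) → K → Y}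
  {p : ℕ} {T : Subgroup Y} {n : I → Y} {X : (I → ℤ) → Subgroup Y}

/-- The character of the root lattice with given values at the simple roots. -/
theorem exists_char (dd : I → Kˣ) : ∃ d : (I → ℤ) →+ Additive Kˣ, ∀ i, (d (sr i)).toMul = dd i := by
  refine ⟨{ toFun := fun x => ∑ i, x i • Additive.ofMul (dd i)
            map_zero' := Finset.sum_eq_zero fun i _ => by rw [Pi.zero_apply, zero_smul]
            map_add' := fun x y => by
              rw [← Finset.sum_add_distrib]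
              exact Finset.sum_congr rfl fun i _ => by rw [Pi.add_apply]; exact add_zsmul _ _ _ }, fun i => ?_⟩
  have : (∑ j, (sr i : I → ℤ) j • Additive.ofMul (dd j)) = Additive.ofMul (dd i) := by
    rw [Finset.sum_eq_single i]
    · rw [sr_self, one_smul]
    · intro j _ hj; rw [sr_ne hj, zero_smul]
    · intro hi; exact absurd (Finset.mem_univ i) hi
  show (∑ j, (sr i : I → ℤ) j • Additive.ofMul (dd j)).toMul = dd i
  rw [this, toMul_ofMul]

theorem char_eq (d : (I → ℤ) →+ Additive Kˣ) (r : I → ℤ) : d r = ∑ k, r k • d (sr k) := by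
  have h1 : r = ∑ k, r k • (sr k : I → ℤ) := by
    funext j
    rw [Finset.sum_apply, Finset.sum_eq_single j]
    · rw [Pi.smul_apply, sr_self, smul_eq_mul, mul_one]
    · intro k _ hk
      rw [Pi.smul_apply, sr_ne (Ne.symm hk), smul_zero]
    · intro hj; exact absurd (Finset.mem_univ j) hj
  conv_lhs => rw [h1]
  rw [map_sum]
  exact Finset.sum_congr rfl fun k _ => map_zsmul _ _ _

section

variable {R : RGD cs h p T n X} (S : Sys R e)

include S

/-- **Frame automorphisms of `p`-power order are standard in suitable coordinates.** -/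
theorem exists_pure_semi [Finite W] [Finite Y] [Finite K] [Fact p.Prime] (hG1 : RGD.Sup X {x | IsRoot cs h x} = ⊤)
    {β : MulAut Y} {σ : Equiv.Perm I} (D : Diag T X β σ) {k : ℕ} (hβ : β ^ p ^ k = 1) :
    ∃ (τ : I → K ≃+* K) (d : (I → ℤ) →+ Additive Kˣ), Semi cs h T X e (chS e) β σ (D.matrix R) τ ∧
      ∀ w i a, β (sc e d (rep cs h w (sr i)) a) =
        sc e d (rep cs h (hat cs σ (D.matrix R) w) (sr (σ i))) (τ i a) := by
  have C := coords S hG1
  obtain ⟨τ, hτ⟩ := exists_semi R C D (D.matrix R)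
  obtain ⟨u, hu, hβu⟩ := exists_equivariant R D hβ
  have h1 : ∀ i, ∃ c : Kˣ, e (sr i) (c : K) = u i := by
    intro i
    obtain ⟨c, hc, he⟩ := S.exists_e (isRoot_sr cs h i) (hu i).1 (hu i).2
    exact ⟨Units.mk0 c hc, he⟩
  choose dd hdd using h1
  obtain ⟨d, hd⟩ := exists_char dd
  refine ⟨τ, d, hτ, ?_⟩
  intro w i
  obtain ⟨ω, rfl⟩ := cs.wordProd_surjective w
  induction ω with
  | nil =>
    intro a
    rw [wordProd_nil, map_one, map_one, map_one, Module.End.one_apply, Module.End.one_apply, sc, sc, hd, hd]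
    obtain ⟨c, hc, hs⟩ := hτ.root 1 i
    simp only [map_one, Module.End.one_apply] at hs
    have h2 := hs (dd i : K)
    rw [hdd, hβu, ← hdd] at h2
    have h3 := S.data.injective (isRoot_sr cs h (σ i)) h2
    rw [hs, map_mul, h3, mul_assoc]
  | cons j ω ih =>
    intro a
    have hx : IsRoot cs h (rep cs h (cs.wordProd ω) (sr i)) := ⟨_, _, rfl⟩
    have hσx : IsRoot cs h (rep cs h (hat cs σ (D.matrix R) (cs.wordProd ω)) (sr (σ i))) := ⟨_, _, rfl⟩
    rw [wordProd_cons, map_mul (hat cs σ (D.matrix R)), hat_simple, rep_mul_apply, rep_mul_apply]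
    have h2 := (sc_data S d).refl j _ hx a
    have h3 := (sc_data S d).refl (σ j) _ hσx (τ i a)
    have h4 : β (nel (sc e d) (sr j)) = nel (sc e d) (sr (σ j)) := by
      rw [sc_nel, sc_nel, hd, hd]
      refine apply_nc S hG1 D (Units.ne_zero _) (Units.ne_zero _) ?_
      rw [hdd, hβu, ← hdd]
    rw [← h2, map_mul, map_mul, map_inv, h4, ih, h3]

/-- Products of the elements `h_i(c_i)`. -/
theorem exists_prod [Finite W] (hG1 : RGD.Sup X {x | IsRoot cs h x} = ⊤) (c : I → Additive Kˣ) (l : List I) :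
    ∃ s ∈ T, ∀ r, IsRoot cs h r → ∀ a, s * e r a * s⁻¹ =
      e r ((((l.map fun j => pairing A j r • c j).sum).toMul : Kˣ) * a) := by
  induction l with
  | nil =>
    refine ⟨1, one_mem _, fun r _ a => ?_⟩
    rw [List.map_nil, List.sum_nil, toMul_zero, Units.val_one, one_mul, one_mul, inv_one, mul_one]
  | cons j l ih =>
    obtain ⟨s, hs, hsr⟩ := ih
    refine ⟨hel e (sr j) ((c j).toMul : Kˣ) * s,
      mul_mem (hel_mem S hG1 (isRoot_sr cs h j) (Units.ne_zero _)) hs, fun r hr a => ?_⟩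
    rw [List.map_cons, List.sum_cons, toMul_add, toMul_zsmul, Units.val_mul, Units.val_zpow_eq_zpow_val]
    have h1 := S.data.tor j r hr _ (Units.ne_zero ((c j).toMul : Kˣ))
      ((((l.map fun j => pairing A j r • c j).sum).toMul : Kˣ) * a)
    rw [mul_assoc ((((c j).toMul : Kˣ) : K) ^ pairing A j r), ← h1, ← hsr r hr]
    group

/-- **Every scaling is induced by the torus** if the Cartan matrix is invertible. -/
theorem exists_tor [Finite W] (hG1 : RGD.Sup X {x | IsRoot cs h x} = ⊤) (B : I → I → ℤ)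
    (hB : ∀ k i, ∑ j, B k j * A j i = if k = i then 1 else 0) (d : (I → ℤ) →+ Additive Kˣ) :
    ∃ s ∈ T, ∀ r, IsRoot cs h r → ∀ a, s * e r a * s⁻¹ = sc e d r a := by
  obtain ⟨s, hs, h1⟩ := exists_prod S hG1 (fun j => ∑ k, B k j • d (sr k)) Finset.univ.toList
  refine ⟨s, hs, fun r hr a => ?_⟩
  rw [h1 r hr, sc]
  have h2 : ((Finset.univ.toList.map fun j => pairing A j r • ∑ k, B k j • d (sr k)).sum) = d r := by
    rw [Finset.sum_map_toList, char_eq d r]
    calc ∑ j, pairing A j r • ∑ k, B k j • d (sr k) = ∑ j, ∑ k, (pairing A j r * B k j) • d (sr k) := by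
          refine Finset.sum_congr rfl fun j _ => ?_
          rw [← Finset.sum_zsmul]
          exact Finset.sum_congr rfl fun k _ => by rw [mul_zsmul]
      _ = ∑ k, (∑ j, pairing A j r * B k j) • d (sr k) := by
          rw [Finset.sum_comm]
          exact Finset.sum_congr rfl fun k _ =>
            (map_sum (zmultiplesHom (Additive Kˣ) (d (sr k))) (fun j => pairing A j r * B k j) Finset.univ).symm
      _ = _ := by
          refine Finset.sum_congr rfl fun k _ => ?_
          congr 1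
          calc ∑ j, pairing A j r * B k j = ∑ j, ∑ i, B k j * A j i * r i := by
                refine Finset.sum_congr rfl fun j _ => ?_
                rw [pairing, Finset.sum_mul]
                exact Finset.sum_congr rfl fun i _ => by ring
            _ = ∑ i, (∑ j, B k j * A j i) * r i := by
                rw [Finset.sum_comm]
                exact Finset.sum_congr rfl fun i _ => by rw [Finset.sum_mul]
            _ = r k := by
                rw [Finset.sum_eq_single k]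
                · rw [hB, if_pos rfl, one_mul]
                · intro i _ hi
                  rw [hB, if_neg (Ne.symm hi), zero_mul]
                · intro hk; exact absurd (Finset.mem_univ k) hk
  rw [h2]

end

end Cfsg.Agent.KFacts.RgdGraphPure

end

-- merged: Cfsg.Agent.OddHalf.D7F4.Adapted
section

/-!
# `K = F₄(q)`, `q` even: the adapted generator of the outer part (ODD D7, #11796 (4))

`S` a 2-group normalising `K = f(F₄(q))` and `f(U)`, `f(U) ≤ S`. After conjugating `f` by an element of the torus there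
is `g ∈ S` with `S = f(U) C_S(K) ⟨g⟩` and EITHER (F) `g x_r(a) g⁻¹ = x_r(φ a)` for all roots `r` OR (G)
`g x_r(a) g⁻¹ = x_(dual r)(φ a)` for `r` long, `= x_(dual r)((φ a)²)` for `r` short.
-/

set_option autoImplicit false
set_option linter.unusedSectionVars false

namespace Cfsg.Agent.OddHalf.D7F4.Adapted

open CoxeterSystem Cfsg.Agent.ChevalleyStructure.CoxeterGeom Cfsg.Agent.Tits.Roots Cfsg.Agent.Tits.Core
open Cfsg.Lie Cfsg.Agent.ChevalleyStructure Cfsg.Agent.ChevalleyStructure.Elts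
  Cfsg.Agent.ChevalleyStructure.RootVec Cfsg.Agent.ChevalleyStructure.CoxeterGeomTypes
open Cfsg.Agent.Nodes Cfsg.Agent.Nodes.Reps Cfsg.Agent.Nodes.BNOf Cfsg.Agent.Nodes.RGDChev Cfsg.Agent.Nodes.Coroot
  Cfsg.Agent.KFacts.ChevTwo Cfsg.Agent.KFacts.ChevTwoTab Cfsg.Agent.KFacts.ChevTwoInst
  Cfsg.Agent.KFacts.RgdOpp Cfsg.Agent.KFacts.RgdAut Cfsg.Agent.KFacts.RgdDiag Cfsg.Agent.KFacts.RgdRigid
  Cfsg.Agent.KFacts.RgdField Cfsg.Agent.KFacts.RgdTau Cfsg.Agent.KFacts.RgdOver Cfsg.Agent.KFacts.RgdSys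
  Cfsg.Agent.KFacts.RgdPure Cfsg.Agent.KFacts.RgdGraph Cfsg.Agent.KFacts.RgdGraphF4 Cfsg.Agent.KFacts.RgdGraphPure
  Cfsg.Agent.KFacts.F4Pair Cfsg.Agent.Nodes.KindF
open Cfsg.Agent.OddHalf.D7F4 Cfsg.Agent.OddHalf.D7F4.Model

universe u

/-! ### Tables -/

/-- the inverse Cartan matrix -/
def cB : Fin 4 → Fin 4 → ℤ := ![![2, 3, 4, 2], ![3, 6, 8, 4], ![2, 4, 6, 3], ![1, 2, 3, 2]]

theorem cB_mul : ∀ k i, ∑ j, cB k j * cartanOf chevF4 4 j i = if k = i then 1 else 0 := by decide +kernel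

/-- the symmetry of the Coxeter diagram -/
def sw : Equiv.Perm (Fin 4) := Fin.revPerm

theorem dual_sr : ∀ i : Fin 4, dual (sr i) = sr (sw i) := by decide +kernel

theorem dual_refl : ∀ x ∈ rts, ∀ j : Fin 4, dual (x - pairing (cartanOf chevF4 4) j x • sr j) =
    dual x - pairing (cartanOf chevF4 4) (sw j) (dual x) • sr (sw j) := by decide +kernel

theorem B_refl : ∀ x ∈ rts, ∀ j : Fin 4, B (x - pairing (cartanOf chevF4 4) j x • sr j)
    (x - pairing (cartanOf chevF4 4) j x • sr j) = B x x := by decide +kernel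

theorem long_sr : ∀ i : Fin 4, B (sr i) (sr i) = 4 → i = 2 ∨ i = 3 := by decide +kernel

theorem short_sr : ∀ i : Fin 4, B (sr i) (sr i) = 2 → i = 0 ∨ i = 1 := by decide +kernel

variable {W : Type*} [Group W] (cs : CoxeterSystem CoxeterMatrix.F₄ W)

theorem dual_rep (hσ : ∀ i j, CoxeterMatrix.F₄ (sw i) (sw j) = CoxeterMatrix.F₄ i j) (w : W) (i : Fin 4) :
    dual (rep cs isType.isCartan w (sr i)) = rep cs isType.isCartan (hat cs sw hσ w) (sr (sw i)) := by
  obtain ⟨ω, rfl⟩ := cs.wordProd_surjective w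
  induction ω with
  | nil =>
    rw [wordProd_nil, map_one, map_one, map_one, Module.End.one_apply, Module.End.one_apply]
    exact dual_sr i
  | cons j ω ih =>
    have hx : rep cs isType.isCartan (cs.wordProd ω) (sr i) ∈ rts := (KBridge.isRoot_iff' cs).1 ⟨_, _, rfl⟩
    rw [wordProd_cons, map_mul (hat cs sw hσ), hat_simple, rep_mul_apply, rep_mul_apply, ← ih, rep_simple_eq,
      rep_simple_eq]
    exact dual_refl _ hx j

theorem B_rep (w : W) (i : Fin 4) :
    B (rep cs isType.isCartan w (sr i)) (rep cs isType.isCartan w (sr i)) = B (sr i) (sr i) := by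
  obtain ⟨ω, rfl⟩ := cs.wordProd_surjective w
  induction ω with
  | nil => rw [wordProd_nil, map_one, Module.End.one_apply]
  | cons j ω ih =>
    have hx : rep cs isType.isCartan (cs.wordProd ω) (sr i) ∈ rts := (KBridge.isRoot_iff' cs).1 ⟨_, _, rfl⟩
    rw [wordProd_cons, rep_mul_apply, rep_simple_eq, ← ih]
    exact B_refl _ hx j

variable {K : Type u} [Field K] [Finite K] [CharP K 2]

theorem noCent : Cfsg.Agent.KFacts.RgdCent.NoCent cs isType.isCartan ((chevF4.diagonalSubgroup K).subgroupOf (chevF4.group K)) (XF K) := by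
  have : Fact (Nat.Prime 2) := ⟨Nat.prime_two⟩
  have := finite_W isType cs
  exact Cfsg.Agent.KFacts.RgdCent.noCent_of_center (rgd (K := K) isType cs 2) (G1_eq_top isType _)
    (S1077.center_group_eq_bot isType.inList)

/-- Frame automorphisms of 2-power order in adapted coordinates. -/
theorem exists_adapted {β : MulAut ↥(chevF4.group K)}
    (hβ : β ∈ Cfsg.Agent.KFacts.RgdRigid.Frame cs isType.isCartan (XF K)) {k : ℕ}
    (hk : β ^ 2 ^ k = 1) : ∃ s ∈ (chevF4.diagonalSubgroup K).subgroupOf (chevF4.group K),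
      (∃ φ : K ≃+* K, ∀ r ∈ rts, ∀ a, β (s * eF K r a * s⁻¹) = s * eF K r (φ a) * s⁻¹) ∨
      ∃ φ : K ≃+* K, (∀ r ∈ rts, B r r = 4 → ∀ a, β (s * eF K r a * s⁻¹) = s * eF K (dual r) (φ a) * s⁻¹) ∧
        ∀ r ∈ rts, B r r = 2 → ∀ a, β (s * eF K r a * s⁻¹) = s * eF K (dual r) ((φ a) ^ 2) * s⁻¹ := by
  have hW : Finite W := finite_W isType cs
  have : Fact (Nat.Prime 2) := ⟨Nat.prime_two⟩
  have hG1 := G1_eq_top (K := K) isType cs
  have hG := GG_eq_top (T := (chevF4.diagonalSubgroup K).subgroupOf (chevF4.group K)) hG1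
  have R := rgd (K := K) isType cs 2
  have S := sysF (K := K) cs
  have H := coroots S hG1 (noCent cs)
  have hA2 : ∀ i, cartanOf chevF4 4 i i = 2 := by decide +kernel
  obtain ⟨σ, D⟩ := exists_diag (rgd (K := K) isType cs 2) hG hβ.1 hβ.2
  obtain ⟨τ, d, Sm, hd⟩ := exists_pure_semi S hG1 D hk
  obtain ⟨s, hs, hsd⟩ := exists_tor S hG1 cB cB_mul d
  refine ⟨s, hs, ?_⟩
  have hσ := D.matrix (rgd (K := K) isType cs 2)
  rcases hsw_F4' σ hσ with rfl | h1
  · left
    have h2 := Sm.eq_all H D (fun _ _ => rfl) hconn_F4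
    refine ⟨τ 0, fun r hr a => ?_⟩
    obtain ⟨w, i, rfl⟩ := (KBridge.isRoot_iff' cs).2 hr
    have h3 := hd w i a
    have h4 : hat cs 1 hσ = MonoidHom.id W := by
      refine cs.ext_simple fun j => ?_
      rw [hat_simple]
      rfl
    rw [h4, MonoidHom.id_apply, Equiv.Perm.one_apply, h2 i 0] at h3
    rw [hsd _ ⟨_, _, rfl⟩, hsd _ ⟨_, _, rfl⟩]
    exact h3
  · right
    have h1' : σ = sw := h1
    subst h1'
    obtain ⟨fr, hfr, -⟩ := exists_frob (F := K)
    have e12 : τ 1 = fr * τ 2 := semi_double H hA2 D Sm (a := 1) (b := 2) cartan_21 cartan_12 (by decide) (by decide) hfr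
    have e01 : τ 0 = τ 1 := Sm.eq_of_adj H hA2 D (i := 0) (j := 1) (by decide +kernel) (by decide +kernel)
    have e23 : τ 2 = τ 3 := Sm.eq_of_adj H hA2 D (i := 2) (j := 3) (by decide +kernel) (by decide +kernel)
    refine ⟨τ 2, fun r hr hB a => ?_, fun r hr hB a => ?_⟩
    · obtain ⟨w, i, rfl⟩ := (KBridge.isRoot_iff' cs).2 hr
      have h3 := hd w i a
      rw [B_rep] at hB
      rw [hsd _ ⟨_, _, rfl⟩, dual_rep cs hσ, hsd _ ⟨_, _, rfl⟩, h3]
      congr 1
      rcases long_sr i hB with rfl | rfl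
      · rfl
      · rw [e23]
    · obtain ⟨w, i, rfl⟩ := (KBridge.isRoot_iff' cs).2 hr
      have h3 := hd w i a
      rw [B_rep] at hB
      rw [hsd _ ⟨_, _, rfl⟩, dual_rep cs hσ, hsd _ ⟨_, _, rfl⟩, h3]
      congr 1
      rw [← hfr, ← RingAut.mul_apply, ← e12]
      rcases short_sr i hB with rfl | rfl
      · rw [e01]
      · rfl

/-! ### In an overgroup -/

section Over

variable {G : Type*} [Group G]

/-- `f` composed with a conjugation -/
def cf (f : ↥(chevF4.group K) →* G) (s : ↥(chevF4.group K)) : ↥(chevF4.group K) →* G :=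
  f.comp (MulAut.conj s).toMonoidHom

theorem cf_apply (f : ↥(chevF4.group K) →* G) (s y : ↥(chevF4.group K)) : cf f s y = f (s * y * s⁻¹) := rfl

theorem cf_inj {f : ↥(chevF4.group K) →* G} (hf : Function.Injective f) (s : ↥(chevF4.group K)) :
    Function.Injective (cf f s) := hf.comp (MulAut.conj s).injective

theorem cf_map (f : ↥(chevF4.group K) →* G) {s : ↥(chevF4.group K)} {H : Subgroup ↥(chevF4.group K)}
    (hs : s ∈ Subgroup.normalizer (H : Set ↥(chevF4.group K))) : H.map (cf f s) = H.map f := by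
  rw [cf, ← Subgroup.map_map]
  congr 1
  ext y
  constructor
  · rintro ⟨z, hz, rfl⟩
    exact (Subgroup.mem_normalizer_iff.1 hs z).1 hz
  · intro hy
    refine ⟨s⁻¹ * y * s, (Subgroup.mem_normalizer_iff.1 hs _).2 (by
      have : s * (s⁻¹ * y * s) * s⁻¹ = y := by group
      rwa [this]), ?_⟩
    show s * (s⁻¹ * y * s) * s⁻¹ = y
    group

theorem cf_range (f : ↥(chevF4.group K) →* G) (s : ↥(chevF4.group K)) : (cf f s).range = f.range := by
  rw [MonoidHom.range_eq_map, MonoidHom.range_eq_map]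
  exact cf_map f (Subgroup.le_normalizer (Subgroup.mem_top s))

/-- The frame of `cf f s`. -/
theorem cf_frame {f : ↥(chevF4.group K) →* G} {t : G} (R : D7F4.Frame t f) (s : ↥(chevF4.group K)) :
    D7F4.Frame t (cf f s) where
  tt := R.tt
  t1 := R.t1
  inj := cf_inj R.inj s
  ft y := R.ft _
  nK g hg y := by
    obtain ⟨y', hy'⟩ := R.nK g hg (s * y * s⁻¹)
    refine ⟨s⁻¹ * y' * s, ?_⟩
    rw [cf_apply, hy', cf_apply]
    congr 1
    group
  cK g hg h1 := by
    refine R.cK g hg fun y => ?_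
    have h2 := h1 (s⁻¹ * y * s)
    rw [cf_apply] at h2
    have h3 : s * (s⁻¹ * y * s) * s⁻¹ = y := by group
    rwa [h3] at h2
  perf L hL hL1 := by
    rw [cf_range]
    exact R.perf L hL hL1

/-- `s` normalises `U`. -/
theorem norm_U {s : ↥(chevF4.group K)} (hs : s ∈ (chevF4.diagonalSubgroup K).subgroupOf (chevF4.group K)) :
    s ∈ Subgroup.normalizer ((RGD.Sup (XF K) (RGD.Pos cs isType.isCartan) : Subgroup ↥(chevF4.group K)) :
      Set ↥(chevF4.group K)) := by
  have : Fact (Nat.Prime 2) := ⟨Nat.prime_two⟩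
  exact RGD.T_le_normalizer_U (rgd (K := K) isType cs 2) hs

/-- The generator acts as a field automorphism or as a graph automorphism. -/
def Acts (f : ↥(chevF4.group K) →* G) (g : G) : Prop :=
  (∃ φ : K ≃+* K, ∀ r ∈ rts, ∀ a, g * f (eF K r a) * g⁻¹ = f (eF K r (φ a))) ∨
  ∃ φ : K ≃+* K, (∀ r ∈ rts, B r r = 4 → ∀ a, g * f (eF K r a) * g⁻¹ = f (eF K (dual r) (φ a))) ∧
    ∀ r ∈ rts, B r r = 2 → ∀ a, g * f (eF K r a) * g⁻¹ = f (eF K (dual r) ((φ a) ^ 2))

/-- **The adapted generator of the outer part.** -/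
theorem exists_gen [Finite G] {f : ↥(chevF4.group K) →* G} (hf : Function.Injective f)
    {S : Subgroup G} (hSp : IsPGroup 2 ↥S) (hSK : S ≤ Subgroup.normalizer (f.range : Set G))
    (hSU : S ≤ Subgroup.normalizer (((RGD.Sup (XF K) (RGD.Pos cs isType.isCartan)).map f : Subgroup G) : Set G))
    (hUS : (RGD.Sup (XF K) (RGD.Pos cs isType.isCartan)).map f ≤ S) :
    ∃ s ∈ (chevF4.diagonalSubgroup K).subgroupOf (chevF4.group K), ∃ g ∈ S, Acts (cf f s) g ∧
      ∀ x ∈ S, ∃ m : ℤ, ∃ u ∈ RGD.Sup (XF K) (RGD.Pos cs isType.isCartan), ∃ c ∈ S,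
        (∀ y, c * f y = f y * c) ∧ x = cf f s u * c * g ^ m := by
  obtain ⟨g, hg, β, hβ, hgβ, ⟨k, hk⟩, hgen⟩ := gen_F4 cs f hf hSp hSK hSU hUS
  obtain ⟨s, hs, h1⟩ := exists_adapted cs hβ hk
  refine ⟨s, hs, g, hg, ?_, fun x hx => ?_⟩
  · rcases h1 with ⟨φ, h1⟩ | ⟨φ, h1, h2⟩
    · refine Or.inl ⟨φ, fun r hr a => ?_⟩
      rw [cf_apply, cf_apply, ← hgβ, h1 r hr a]
    · refine Or.inr ⟨φ, fun r hr hB a => ?_, fun r hr hB a => ?_⟩
      · rw [cf_apply, cf_apply, ← hgβ, h1 r hr hB a]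
      · rw [cf_apply, cf_apply, ← hgβ, h2 r hr hB a]
  · obtain ⟨m, u, hu, c, hc, hcf, e⟩ := hgen x hx
    have h2 := norm_U (K := K) cs (inv_mem hs)
    refine ⟨m, s⁻¹ * u * s⁻¹⁻¹, (Subgroup.mem_normalizer_iff.1 h2 u).1 hu, c, hc, hcf, ?_⟩
    rw [cf_apply, e]
    congr 3
    group

/-- **The adapted generator of the outer part** of a 2-subgroup `S` of `C(t)`: `S = ⟨t, g⟩ f(U)`. -/
theorem exists_gen_frame [Finite G] {f : ↥(chevF4.group K) →* G} {t : G} (R : D7F4.Frame t f)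
    {S : Subgroup G} (hSp : IsPGroup 2 ↥S) (hSt : ∀ x ∈ S, x * t = t * x)
    (hSU : S ≤ Subgroup.normalizer (((RGD.Sup (XF K) (RGD.Pos cs isType.isCartan)).map f : Subgroup G) : Set G))
    (hUS : (RGD.Sup (XF K) (RGD.Pos cs isType.isCartan)).map f ≤ S) :
    ∃ s ∈ (chevF4.diagonalSubgroup K).subgroupOf (chevF4.group K), D7F4.Frame t (cf f s) ∧
      (RGD.Sup (XF K) (RGD.Pos cs isType.isCartan)).map (cf f s) =
        (RGD.Sup (XF K) (RGD.Pos cs isType.isCartan)).map f ∧
      (∀ r, IsRoot cs isType.isCartan r → (XF K r).map (cf f s) = (XF K r).map f) ∧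
      ∃ g ∈ S, Acts (cf f s) g ∧
        ∀ x ∈ S, ∃ m : ℤ, ∃ u ∈ RGD.Sup (XF K) (RGD.Pos cs isType.isCartan),
          x = cf f s u * g ^ m ∨ x = cf f s u * t * g ^ m := by
  have : Fact (Nat.Prime 2) := ⟨Nat.prime_two⟩
  have hSK : S ≤ Subgroup.normalizer (f.range : Set G) := by
    have key : ∀ g : G, g * t = t * g → ∀ y ∈ f.range, g * y * g⁻¹ ∈ f.range := by
      rintro g hg _ ⟨y, rfl⟩
      obtain ⟨y', e⟩ := R.nK g hg y
      exact ⟨y', e.symm⟩
    intro g hg
    rw [Subgroup.mem_normalizer_iff]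
    intro y
    refine ⟨key g (hSt g hg) y, fun hy => ?_⟩
    have := key g⁻¹ (hSt _ (inv_mem hg)) _ hy
    have h3 : g⁻¹ * (g * y * g⁻¹) * g⁻¹⁻¹ = y := by group
    rwa [h3] at this
  obtain ⟨s, hs, g, hg, hA, hgen⟩ := exists_gen cs R.inj hSp hSK hSU hUS
  refine ⟨s, hs, cf_frame R s, cf_map f (norm_U cs hs), fun r hr => cf_map f (mem_normalizer_iff_cj.2 ((rgd (K := K) isType cs 2).tor r hr s hs)),
    g, hg, hA, fun x hx => ?_⟩
  obtain ⟨m, u, hu, c, hc, hcf, e⟩ := hgen x hx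
  refine ⟨m, u, hu, ?_⟩
  rcases R.cK c (hSt c hc) hcf with rfl | rfl
  · left
    rw [e, mul_one]
  · right
    exact e

end Over

end Cfsg.Agent.OddHalf.D7F4.Adapted

end
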