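import Cfsg.Agent.OddHalf.D7F4.KFront
import Cfsg.Agent.OddHalf.D7F4.XG
import Cfsg.Agent.OddHalf.D7F4.Adapted
import Cfsg.Agent.OddHalf.D7F4.OutO
import Cfsg.Agent.OddHalf.D7F4.Lead
import Cfsg.Agent.KFacts.F4Model

-- merged: Cfsg.Agent.OddHalf.D7F4.FrontF4
section

/-!
# `F₄(q)`, `q ≥ 4` even: start of fusion in the frame (ODD D7; helper588)

`R : Frame t f`, `|F| > 2`. `XG f a := (XF F a).map f`.

* `Frame.ctx` : the hypotheses of `FusionOut`;
* `Frame.moved_or1`, `Frame.moved_or2` : `X_ρ` (`X_σ`) is moved or `t` is not conjugate to `t x`, `1 ≠ x ∈ X_ρ` (`X_σ`);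
* `Frame.exists_moved` : if `t` is conjugate to `t z ≠ t`, `z ∈ Z(U)`, then `X_ρ` or `X_σ` is moved.
-/

set_option autoImplicit false
set_option Elab.async false
set_option linter.unusedSectionVars false

namespace Cfsg.Agent.OddHalf.D7F4

open CoxeterSystem Cfsg.Agent.ChevalleyStructure.CoxeterGeom Cfsg.Agent.Tits.Roots Cfsg.Agent.Tits.Core
open Cfsg.Lie Cfsg.Agent.ChevalleyStructure Cfsg.Agent.ChevalleyStructure.Elts
  Cfsg.Agent.ChevalleyStructure.RootVec Cfsg.Agent.ChevalleyStructure.CoxeterGeomTypes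
open Cfsg.Agent.Nodes Cfsg.Agent.Nodes.Reps Cfsg.Agent.Nodes.BNOf Cfsg.Agent.Nodes.RGDChev Cfsg.Agent.Nodes.Coroot
  Cfsg.Agent.Nodes.KindF Cfsg.Agent.Nodes.Bruhat Cfsg.Agent.KFacts.ChevTwo Cfsg.Agent.KFacts.ChevTwoTab
  Cfsg.Agent.KFacts.ChevTwoInst Cfsg.Agent.KFacts.RgdTI
  Cfsg.Agent.KFacts.F4Star Cfsg.Agent.KFacts.F4Cent Cfsg.Agent.KFacts.F4Pair Cfsg.Agent.KFacts.F4Torus
  Cfsg.Agent.KFacts.F4Perf
open Cfsg.Agent.OddHalf.D7F4.KFront Cfsg.Agent.OddHalf.D7F4.Fusion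
open scoped commutatorElement

universe u

variable {G : Type*} [Group G] {F : Type u} [Field F]

variable [Finite F] [CharP F 2]

theorem tor_conj {h : ↥(chevF4.group F)} (hh : h ∈ TF F) {a : Fin 4 → ℤ} (ha : IsRoot c4 isType.isCartan a) :
    ∀ x ∈ XF F a, h * x * h⁻¹ ∈ XF F a := by
  intro x hx
  obtain ⟨t, rfl⟩ := (mem_XF ha).1 hx
  obtain ⟨χ, hχ⟩ := (sysF (K := F) c4).chi h hh
  rw [hχ a ha t]
  exact e_mem_X ha _

theorem tor_U {h : ↥(chevF4.group F)} (hh : h ∈ TF F) : ∀ x ∈ UK F, h * x * h⁻¹ ∈ UK F := by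
  intro x hx
  have h1 := (rgd (K := F) isType c4 2).T_le_normalizer_U hh
  exact (Subgroup.mem_normalizer_iff.1 h1 x).1 hx

theorem maps_map {f : ↥(chevF4.group F) →* G} {h : ↥(chevF4.group F)} {X : Subgroup ↥(chevF4.group F)}
    (h1 : ∀ x ∈ X, h * x * h⁻¹ ∈ X) (h2 : ∀ x ∈ X, h⁻¹ * x * h⁻¹⁻¹ ∈ X) : Maps (f h) (X.map f) (X.map f) := by
  intro y
  constructor
  · rintro ⟨x, hx, rfl⟩
    refine ⟨_, h2 x hx, ?_⟩
    rw [map_mul, map_mul, map_inv, inv_inv]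
  · rintro ⟨x, hx, hxy⟩
    refine ⟨_, h1 x hx, ?_⟩
    rw [map_mul, map_mul, map_inv, hxy]; group

theorem card_XF {a : Fin 4 → ℤ} (ha : IsRoot c4 isType.isCartan a) : Nat.card (XF F a) = Nat.card F := by
  symm
  refine Nat.card_congr (Equiv.ofBijective (fun t => (⟨eF F a t, e_mem_X ha t⟩ : XF F a)) ⟨?_, ?_⟩)
  · intro s t h
    exact (dat (K := F)).injective ha (congrArg Subtype.val h)
  · rintro ⟨x, hx⟩
    obtain ⟨t, rfl⟩ := (mem_XF ha).1 hx
    exact ⟨t, rfl⟩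

theorem dis12 (hF : 2 < Nat.card F) : ∀ x, x ∈ X1 F → x ∈ X2 F → x = 1 := by
  intro x h1 h2
  have D := dat (K := F)
  obtain ⟨s, rfl⟩ := (mem_XF (rv (by norm_num))).1 h1
  obtain ⟨u, hu⟩ := (mem_XF (rv (by norm_num))).1 h2
  obtain ⟨l, hl, hl2⟩ := exists_zpow_ne hF
  have hl1 : l ≠ 1 := by
    have := hl2 1 one_ne_zero (by norm_num) (by norm_num)
    rwa [zpow_one] at this
  have hne : v 44 ≠ v 47 := fun h => absurd (v_inj (by norm_num) (by norm_num) h) (by norm_num)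
  have hne' : v 44 ≠ -v 47 := by
    rw [← v_neg (by norm_num)]
    exact fun h => absurd (v_inj (by norm_num) (by norm_num) h) (by norm_num)
  obtain ⟨t, ht, h3, h4⟩ := torus_fix (K := F) c4 (rv (r := 47) (by norm_num)) (rv (r := 44) (by norm_num)) hne hne'
    (Units.mk0 l hl)
  have h5 := h3 s
  rw [← hu, h4 u, hu, Units.val_mk0] at h5
  have h6 := D.injective (rv (r := 47) (by norm_num)) h5
  have h7 : (l - 1) * s = 0 := by
    rw [sub_mul, one_mul, ← h6, sub_self]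
  rcases mul_eq_zero.1 h7 with h7 | h7
  · exact absurd (sub_eq_zero.1 h7) hl1
  · rw [h7, D.zero (rv (by norm_num))]

theorem big (hF : 2 < Nat.card F) {r : ℕ} (hr : r < 48) {a : ↥(chevF4.group F)} (ha : a ∈ XF F (v r)) :
    ∃ a' ∈ XF F (v r), a' ≠ 1 ∧ a' ≠ a := by
  classical
  have := Fintype.ofFinite F
  obtain ⟨s, rfl⟩ := (mem_XF (rv hr)).1 ha
  obtain ⟨c, hc⟩ : ∃ c : F, c ∉ ({0, s} : Finset F) := by
    by_contra hcon
    push Not at hcon
    have h1 : (Finset.univ : Finset F) ⊆ {0, s} := fun x _ => hcon x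
    have h2 := Finset.card_le_card h1
    rw [Finset.card_univ, ← Nat.card_eq_fintype_card] at h2
    have h3 : ({0, s} : Finset F).card ≤ 2 := Finset.card_le_two
    omega
  rw [Finset.mem_insert, Finset.mem_singleton, not_or] at hc
  exact ⟨eF F (v r) c, e_mem_X (rv hr) c, (dat (K := F)).ne_one (rv hr) hc.1, fun h =>
    hc.2 ((dat (K := F)).injective (rv hr) h)⟩

namespace Frame

variable {t : G} {f : ↥(chevF4.group F) →* G}

theorem map_comm (f : ↥(chevF4.group F) →* G) (g x : ↥(chevF4.group F)) : ⁅f g, f x⁆ = f ⁅g, x⁆ := by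
  rw [commutatorElement_def, commutatorElement_def, map_mul, map_mul, map_mul, map_inv, map_inv]

theorem com_of {f : ↥(chevF4.group F) →* G} {A B : Subgroup ↥(chevF4.group F)}
    (h : ∀ a ∈ A, ∀ b ∈ B, a * b = b * a) : ∀ a ∈ A.map f, ∀ b ∈ B.map f, a * b = b * a := by
  rintro _ ⟨a, ha, rfl⟩ _ ⟨b, hb, rfl⟩
  rw [← map_mul, h a ha b hb, map_mul]

/-- `N(U)` permutes `X_ρ`, `X_σ` -/
theorem perm [Finite G] (R : Frame t f) (hF : 2 < Nat.card F) (n : G) (hn : Maps n ((UK F).map f) ((UK F).map f)) :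
    (Maps n (XG f (v 47)) (XG f (v 47)) ∧ Maps n (XG f (v 44)) (XG f (v 44))) ∨
      (Maps n (XG f (v 47)) (XG f (v 44)) ∧ Maps n (XG f (v 44)) (XG f (v 47))) := by
  have D := dat (K := F)
  have hX1 := X1_le_U (K := F)
  have hX2 := X2_le_U (K := F)
  have cardm : ∀ X : Subgroup ↥(chevF4.group F), Nat.card (X.map f) = Nat.card X := fun X =>
    (Nat.card_congr (X.equivMapOfInjective f R.inj).toEquiv).symm
  refine perm_of (com_of fun a ha b hb => (L_comm1 (U_le_L hb) ha).symm)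
    (com_of fun a ha b hb => (L_comm2 (U_le_L hb) ha).symm) ?_ ?_ ?_ ?_ ?_ ?_ ?_ ?_ ?_ n hn
  · rintro _ ⟨a, ha, rfl⟩ ⟨b, hb, hab⟩
    rw [R.inj hab] at hb
    rw [dis12 hF a ha hb, map_one]
  · rw [cardm, cardm, card_XF (rv (by norm_num)), card_XF (rv (by norm_num))]
  · refine ⟨f (eF F (v 47) 1), ⟨_, e_mem_X (rv (by norm_num)) 1, rfl⟩, fun h => ?_⟩
    rw [← map_one f] at h
    exact D.ne_one (rv (by norm_num)) one_ne_zero (R.inj h)
  · rw [← Subgroup.map_commutator]; exact Subgroup.map_mono X1_le_der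
  · rw [← Subgroup.map_commutator]; exact Subgroup.map_mono X2_le_der
  · intro z hz hc
    rw [← Subgroup.map_commutator] at hz
    obtain ⟨y, -, rfl⟩ := hz
    have h1 : y ∈ ZK F := mem_Z_of_comm fun u hu => R.inj (by
      rw [map_mul, map_mul, hc _ ⟨u, hu, rfl⟩])
    obtain ⟨a, ha, b, hb, rfl⟩ := mem_ZK.1 h1
    exact ⟨f a, ⟨a, ha, rfl⟩, f b, ⟨b, hb, rfl⟩, map_mul _ _ _⟩
  · refine ⟨f (eF F (v 46) 1), ⟨_, e_mem_U (by norm_num) (by norm_num) 1, rfl⟩, ?_, ?_⟩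
    · rintro _ ⟨u, hu, rfl⟩
      rw [map_comm]
      exact ⟨_, comm46 1 u hu, rfl⟩
    · rintro _ ⟨y, hy, rfl⟩
      obtain ⟨s, rfl⟩ := (mem_XF (rv (by norm_num))).1 hy
      refine ⟨f (eF F (v 24) s), ⟨_, e_mem_U (by norm_num) (by norm_num) s, rfl⟩, ?_⟩
      rw [map_comm, c46_24, one_mul]
  · refine ⟨f (eF F (v 40) 1), ⟨_, e_mem_U (by norm_num) (by norm_num) 1, rfl⟩, ?_, ?_⟩
    · rintro _ ⟨u, hu, rfl⟩
      rw [map_comm]
      exact ⟨_, comm40 1 u hu, rfl⟩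
    · rintro _ ⟨y, hy, rfl⟩
      obtain ⟨s, rfl⟩ := (mem_XF (rv (by norm_num))).1 hy
      refine ⟨f (eF F (v 33) s), ⟨_, e_mem_U (by norm_num) (by norm_num) s, rfl⟩, ?_⟩
      rw [map_comm, c40_33, one_mul]
  · rintro _ ⟨g, hg, rfl⟩ hgZ
    have h1 : ∀ u ∈ UK F, ⁅g, u⁆ ∈ ZK F := by
      intro u hu
      obtain ⟨_, ⟨a, ha, rfl⟩, _, ⟨b, hb, rfl⟩, hab⟩ := hgZ _ ⟨u, hu, rfl⟩
      rw [map_comm, ← map_mul] at hab
      rw [R.inj hab]
      exact mem_ZK.2 ⟨a, ha, b, hb, rfl⟩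
    rcases tri hF h1 with h | h | h
    · left
      rintro _ ⟨u, hu, rfl⟩
      rw [map_comm]
      exact ⟨_, h u hu, rfl⟩
    · right; left
      rintro _ ⟨u, hu, rfl⟩
      rw [map_comm]
      exact ⟨_, h u hu, rfl⟩
    · right; right
      rintro _ ⟨a, ha, rfl⟩ _ ⟨b, hb, rfl⟩
      obtain ⟨u, hu, hx⟩ := h a ha b hb
      exact ⟨f u, ⟨u, hu, rfl⟩, by rw [map_comm, hx, map_mul]⟩

/-- **The hypotheses of the fusion hold in a frame.** -/
theorem ctx [Finite G] (R : Frame t f) (hF : 2 < Nat.card F) :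
    FusionOut.Ctx t f.range ((UK F).map f) (XG f (v 47)) (XG f (v 44)) ((TF F).map f) where
  tt := R.tt
  Kt := by
    rintro _ ⟨y, rfl⟩
    exact R.ft y
  perf := R.perf
  UK := by
    rintro _ ⟨y, -, rfl⟩
    exact ⟨y, rfl⟩
  pU := (kf0 hF).pU.map f
  maxU := by
    intro P hP hU hPK
    have h1 : P.comap f ≤ UK F := (kf0 hF).maxU _ (hP.comap_of_injective f R.inj) (by
      intro x hx
      exact hU ⟨x, hx, rfl⟩)
    intro x hx
    obtain ⟨y, rfl⟩ := hPK hx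
    exact ⟨y, h1 hx, rfl⟩
  X₁U := Subgroup.map_mono X1_le_U
  X₂U := Subgroup.map_mono X2_le_U
  c₁ := com_of fun _ ha _ hb => (L_comm1 (U_le_L hb) ha).symm
  c₂ := com_of fun _ ha _ hb => (L_comm2 (U_le_L hb) ha).symm
  sq₁ := by
    rintro _ ⟨x, hx, rfl⟩
    rw [← map_mul, sq_X (by norm_num) hx, map_one]
  sq₂ := by
    rintro _ ⟨x, hx, rfl⟩
    rw [← map_mul, sq_X (by norm_num) hx, map_one]
  cov := by
    refine ⟨(LK F).map f, ?_, Subgroup.map_mono U_le_L, ?_, ?_, ?_⟩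
    · rw [← Subgroup.map_commutator, LK_perfect hF]
    · rintro _ ⟨y, -, rfl⟩
      exact ⟨y, rfl⟩
    · exact com_of fun _ ha _ hb => (L_comm1 hb ha).symm
    · exact com_of fun _ ha _ hb => (L_comm2 hb ha).symm
  Ht := by
    rintro _ ⟨h, -, rfl⟩
    exact R.ft h
  HU := by
    rintro _ ⟨h, hh, rfl⟩
    exact maps_map (tor_U hh) (tor_U (inv_mem hh))
  H₁ := by
    rintro _ ⟨h, hh, rfl⟩
    exact maps_map (tor_conj hh (rv (by norm_num))) (tor_conj (inv_mem hh) (rv (by norm_num)))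
  H₂ := by
    rintro _ ⟨h, hh, rfl⟩
    exact maps_map (tor_conj hh (rv (by norm_num))) (tor_conj (inv_mem hh) (rv (by norm_num)))
  Htr := by
    rintro _ ⟨a, ha, rfl⟩ _ ⟨b, hb, rfl⟩ _ ⟨a', ha', rfl⟩ _ ⟨b', hb', rfl⟩ h1 h2 h3 h4
    have D := dat (K := F)
    have ne : ∀ {y : ↥(chevF4.group F)}, f y ≠ 1 → y ≠ 1 := fun h h' => h (by rw [h', map_one])
    obtain ⟨a, ha0, rfl⟩ := (sysF (K := F) c4).exists_e (rv (r := 47) (by norm_num)) ha (ne h1)
    obtain ⟨b, hb0, rfl⟩ := (sysF (K := F) c4).exists_e (rv (r := 44) (by norm_num)) hb (ne h2)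
    obtain ⟨a', ha0', rfl⟩ := (sysF (K := F) c4).exists_e (rv (r := 47) (by norm_num)) ha' (ne h3)
    obtain ⟨b', hb0', rfl⟩ := (sysF (K := F) c4).exists_e (rv (r := 44) (by norm_num)) hb' (ne h4)
    have hne : v 44 ≠ v 47 := fun h => absurd (v_inj (by norm_num) (by norm_num) h) (by norm_num)
    have hne' : v 44 ≠ -v 47 := by
      rw [← v_neg (by norm_num)]
      exact fun h => absurd (v_inj (by norm_num) (by norm_num) h) (by norm_num)
    obtain ⟨s, hs, h5, h6⟩ := torus_pair (K := F) c4 (rv (r := 47) (by norm_num)) (rv (r := 44) (by norm_num)) hne hne'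
      (Units.mk0 (a' * a⁻¹) (mul_ne_zero ha0' (inv_ne_zero ha0)))
      (Units.mk0 (b' * b⁻¹) (mul_ne_zero hb0' (inv_ne_zero hb0)))
    have h7 := h5 a
    have h8 := h6 b
    rw [Units.val_mk0, inv_mul_cancel_right₀ ha0] at h7
    rw [Units.val_mk0, inv_mul_cancel_right₀ hb0] at h8
    refine ⟨f s⁻¹, ⟨s⁻¹, inv_mem hs, rfl⟩, ?_, ?_⟩
    · rw [← h7, map_inv, inv_inv, map_mul, map_mul, map_inv]
    · rw [← h8, map_inv, inv_inv, map_mul, map_mul, map_inv]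
  big₁ := by
    rintro _ ⟨a, ha, rfl⟩
    obtain ⟨a', ha', h1, h2⟩ := big hF (by norm_num) ha
    exact ⟨f a', ⟨a', ha', rfl⟩, fun h => h1 (R.inj (by rw [h, map_one])), fun h => h2 (R.inj h)⟩
  big₂ := by
    rintro _ ⟨a, ha, rfl⟩
    obtain ⟨a', ha', h1, h2⟩ := big hF (by norm_num) ha
    exact ⟨f a', ⟨a', ha', rfl⟩, fun h => h1 (R.inj (by rw [h, map_one])), fun h => h2 (R.inj h)⟩
  perm := R.perm hF

/-- `X_ρ` is moved or `t` is not conjugate to `t x`, `1 ≠ x ∈ X_ρ`. -/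
theorem moved_or1 [Finite G] (R : Frame t f) (hF : 2 < Nat.card F) :
    Moved t (XG f (v 47)) ∨ ∀ g : G, ∀ x ∈ XG f (v 47), g⁻¹ * t * g = t * x → x = 1 := (R.ctx hF).moved_or

/-- `X_σ` is moved or `t` is not conjugate to `t x`, `1 ≠ x ∈ X_σ`. -/
theorem moved_or2 [Finite G] (R : Frame t f) (hF : 2 < Nat.card F) :
    Moved t (XG f (v 44)) ∨ ∀ g : G, ∀ x ∈ XG f (v 44), g⁻¹ * t * g = t * x → x = 1 := (R.ctx hF).symm.moved_or

/-- If `t` is conjugate to `t z ≠ t`, `z ∈ Z(U)`, then `X_ρ` or `X_σ` is moved. -/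
theorem exists_moved [Finite G] (R : Frame t f) (hF : 2 < Nat.card F) {g : G} {z : ↥(chevF4.group F)} (hz : z ∈ ZK F)
    (hz1 : z ≠ 1) (hg : g⁻¹ * t * g = t * f z) : Moved t (XG f (v 47)) ∨ Moved t (XG f (v 44)) := by
  obtain ⟨a, ha, b, hb, rfl⟩ := mem_ZK.1 hz
  refine (R.ctx hF).exists_moved (a := f a) (b := f b) ⟨a, ha, rfl⟩ ⟨b, hb, rfl⟩ ?_ (by rw [hg, map_mul])
  rw [← map_mul, ← map_one f]
  exact fun h => hz1 (R.inj h)

end Frame

end Cfsg.Agent.OddHalf.D7F4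

end

-- merged: Cfsg.Agent.OddHalf.D7F4.FrOut
section

/-!
# `K = F₄(q)`, `q` even: the frame with the outer 2-part (S1765, node D7)

`T` a maximal 2-subgroup of `C_G(t)` containing `f(U)`. After a conjugation of `f` by an element of the torus there is
`g ∈ T` with `T = D f(U)`, `D = {g^n, t g^n}`, such that all elements of `D` act in coordinates as field or graph
automorphisms.

* `FrO` : the data; `exists_frO` : existence;
* `FrO.acts_D`, `FrO.disj`, `FrO.fac`, `FrO.ab`, `FrO.hone`, `FrO.hout`, `FrO.k2`, `FrO.outer`, `FrO.fix`, `FrO.td`.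
-/

set_option autoImplicit false
set_option Elab.async false
set_option linter.unusedSectionVars false

namespace Cfsg.Agent.OddHalf.D7F4.FrOut

open CoxeterSystem Cfsg.Agent.ChevalleyStructure.CoxeterGeom Cfsg.Agent.Tits.Roots Cfsg.Agent.Tits.Core
open Cfsg.Lie Cfsg.Agent.ChevalleyStructure Cfsg.Agent.ChevalleyStructure.Elts
  Cfsg.Agent.ChevalleyStructure.RootVec Cfsg.Agent.ChevalleyStructure.CoxeterGeomTypes
open Cfsg.Agent.Nodes Cfsg.Agent.Nodes.Reps Cfsg.Agent.Nodes.BNOf Cfsg.Agent.Nodes.RGDChev Cfsg.Agent.Nodes.Coroot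
  Cfsg.Agent.Nodes.KindF Cfsg.Agent.KFacts.ChevTwo Cfsg.Agent.KFacts.ChevTwoTab
  Cfsg.Agent.KFacts.ChevTwoInst Cfsg.Agent.KFacts.F4Star Cfsg.Agent.KFacts.F4Cent Cfsg.Agent.KFacts.F4Pair
  Cfsg.Agent.KFacts.F4Torus Cfsg.Agent.KFacts.F4Perf Cfsg.Agent.KFacts.RgdGraph
open Cfsg.Agent.OddHalf.D7F4 Cfsg.Agent.OddHalf.D7F4.Model Cfsg.Agent.OddHalf.D7F4.KFront
  Cfsg.Agent.OddHalf.D7F4.Adapted

universe u

variable {G : Type*} [Group G] {F : Type u} [Field F] {f : ↥(chevF4.group F) →* G} {t g : G}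

/-! ### Field and graph automorphisms in coordinates -/

/-- `d` acts as the field automorphism `φ` -/
def Fld (f : ↥(chevF4.group F) →* G) (d : G) (φ : F ≃+* F) : Prop :=
  ∀ r ∈ rts, ∀ a, d * f (eF F r a) * d⁻¹ = f (eF F r (φ a))

/-- `d` acts as a graph automorphism with `φ` -/
def Gra (f : ↥(chevF4.group F) →* G) (d : G) (φ : F ≃+* F) : Prop :=
  (∀ r ∈ rts, B r r = 4 → ∀ a, d * f (eF F r a) * d⁻¹ = f (eF F (dual r) (φ a))) ∧
    ∀ r ∈ rts, B r r = 2 → ∀ a, d * f (eF F r a) * d⁻¹ = f (eF F (dual r) ((φ a) ^ 2))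

theorem acts_iff {d : G} : Acts f d ↔ (∃ φ, Fld f d φ) ∨ ∃ φ, Gra f d φ := Iff.rfl

theorem Fld.one : Fld f (1 : G) (RingEquiv.refl F) := by
  intro r _ a
  rw [one_mul, inv_one, mul_one]
  rfl

theorem Fld.of_comm {d : G} (h : ∀ y, d * f y = f y * d) : Fld f d (RingEquiv.refl F) := by
  intro r _ a
  rw [h, mul_inv_cancel_right]
  rfl

theorem Fld.mul {d e : G} {φ ψ : F ≃+* F} (hd : Fld f d φ) (he : Fld f e ψ) : Fld f (d * e) (ψ.trans φ) := by
  intro r hr a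
  have h1 : d * e * f (eF F r a) * (d * e)⁻¹ = d * (e * f (eF F r a) * e⁻¹) * d⁻¹ := by group
  rw [h1, he r hr, hd r hr]
  rfl

theorem Fld.mul_gra {d e : G} {φ ψ : F ≃+* F} (hd : Fld f d φ) (he : Gra f e ψ) : Gra f (d * e) (ψ.trans φ) := by
  have h1 : ∀ r a, d * e * f (eF F r a) * (d * e)⁻¹ = d * (e * f (eF F r a) * e⁻¹) * d⁻¹ := by
    intro r a; group
  refine ⟨fun r hr hB a => ?_, fun r hr hB a => ?_⟩
  · rw [h1, he.1 r hr hB, hd _ (dual_mem r hr)]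
    rfl
  · rw [h1, he.2 r hr hB, hd _ (dual_mem r hr), map_pow]
    rfl

theorem Gra.mul_fld {d e : G} {φ ψ : F ≃+* F} (hd : Gra f d φ) (he : Fld f e ψ) : Gra f (d * e) (ψ.trans φ) := by
  have h1 : ∀ r a, d * e * f (eF F r a) * (d * e)⁻¹ = d * (e * f (eF F r a) * e⁻¹) * d⁻¹ := by
    intro r a; group
  refine ⟨fun r hr hB a => ?_, fun r hr hB a => ?_⟩
  · rw [h1, he r hr, hd.1 r hr hB]
    rfl
  · rw [h1, he r hr, hd.2 r hr hB]
    rfl

theorem Gra.mul [Finite F] [CharP F 2] {d e : G} {φ ψ : F ≃+* F} (hd : Gra f d φ) (he : Gra f e ψ) :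
    ∃ χ, Fld f (d * e) χ := by
  obtain ⟨fr, hfr, -⟩ := exists_frob (F := F)
  refine ⟨(ψ.trans φ).trans fr, fun r hr a => ?_⟩
  have h1 : d * e * f (eF F r a) * (d * e)⁻¹ = d * (e * f (eF F r a) * e⁻¹) * d⁻¹ := by group
  have h2 : ((ψ.trans φ).trans fr) a = (φ (ψ a)) ^ 2 := hfr _
  rw [h1, h2]
  rcases norm r hr with hB | hB
  · rw [he.2 r hr hB, hd.1 _ (dual_mem r hr) (dn2 r hr hB), dual_dual r hr, map_pow]
  · rw [he.1 r hr hB, hd.2 _ (dual_mem r hr) (dn4 r hr hB), dual_dual r hr]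

theorem Acts.mul' [Finite F] [CharP F 2] {d e : G} (hd : Acts f d) (he : Acts f e) : Acts f (d * e) := by
  rw [acts_iff] at *
  rcases hd with ⟨φ, hd⟩ | ⟨φ, hd⟩ <;> rcases he with ⟨ψ, he⟩ | ⟨ψ, he⟩
  · exact Or.inl ⟨_, hd.mul he⟩
  · exact Or.inr ⟨_, hd.mul_gra he⟩
  · exact Or.inr ⟨_, hd.mul_fld he⟩
  · exact Or.inl (hd.mul he)

theorem acts_pow [Finite F] [CharP F 2] {d : G} (hd : Acts f d) (n : ℕ) : Acts f (d ^ n) := by
  induction n with
  | zero =>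
    rw [pow_zero]
    exact Or.inl ⟨_, Fld.one⟩
  | succ n ih =>
    rw [pow_succ]
    exact Acts.mul' ih hd

section

variable [Finite F] [CharP F 2]

theorem e_inj {r : Fin 4 → ℤ} (hr : r ∈ rts) {a b : F} (h : eF F r a = eF F r b) : a = b :=
  (dat (K := F)).injective ((KBridge.isRoot_iff' c4).2 hr) h

/-- two elements inducing the same automorphism -/
theorem comm_of_fld {d : G} {φ : F ≃+* F} (hd : Fld f d φ) (h : ∀ a, φ a = a) : ∀ y, d * f y = f y * d := by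
  let S : Subgroup ↥(chevF4.group F) :=
    { carrier := {y | d * f y = f y * d}
      one_mem' := by show d * f 1 = f 1 * d; rw [map_one, mul_one, one_mul]
      mul_mem' := by
        intro a b (ha : d * f a = f a * d) (hb : d * f b = f b * d)
        show d * f (a * b) = f (a * b) * d
        rw [map_mul, ← mul_assoc, ha, mul_assoc, hb, mul_assoc]
      inv_mem' := by
        intro a (ha : d * f a = f a * d)
        show d * f a⁻¹ = f a⁻¹ * d
        rw [map_inv]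
        have h1 : Commute d (f a) := ha
        exact h1.inv_right.eq }
  have h1 : (⊤ : Subgroup ↥(chevF4.group F)) ≤ S := by
    rw [← G1_eq_top (K := F) isType c4]
    refine RGD.Sup_le fun x hx y hy => ?_
    obtain ⟨a, rfl⟩ := (mem_XF hx).1 hy
    show d * f (eF F x a) = f (eF F x a) * d
    have h2 := hd x ((KBridge.isRoot_iff' c4).1 hx) a
    rw [h a] at h2
    exact mul_inv_eq_iff_eq_mul.1 h2
  exact fun y => h1 (Subgroup.mem_top y)

end

/-! ### The group `D` -/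

/-- `D = {g^n, t g^n}` -/
def DD (t g : G) (tt : t * t = 1) (gt : g * t = t * g) : Subgroup G where
  carrier := {d | ∃ n : ℤ, d = g ^ n ∨ d = t * g ^ n}
  one_mem' := ⟨0, Or.inl (zpow_zero g).symm⟩
  mul_mem' := by
    have hc : ∀ n : ℤ, g ^ n * t = t * g ^ n := fun n => (show Commute g t from gt).zpow_left n
    rintro a b ⟨m, rfl | rfl⟩ ⟨n, rfl | rfl⟩
    · exact ⟨m + n, Or.inl (zpow_add g m n).symm⟩
    · refine ⟨m + n, Or.inr ?_⟩
      rw [zpow_add, ← mul_assoc, hc, mul_assoc]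
    · refine ⟨m + n, Or.inr ?_⟩
      rw [zpow_add, mul_assoc]
    · refine ⟨m + n, Or.inl ?_⟩
      calc t * g ^ m * (t * g ^ n) = t * (g ^ m * t) * g ^ n := by group
        _ = t * (t * g ^ m) * g ^ n := by rw [hc]
        _ = (t * t) * (g ^ m * g ^ n) := by group
        _ = g ^ (m + n) := by rw [tt, one_mul, zpow_add]
  inv_mem' := by
    have hc : ∀ n : ℤ, g ^ n * t = t * g ^ n := fun n => (show Commute g t from gt).zpow_left n
    have ti : t⁻¹ = t := inv_eq_of_mul_eq_one_left tt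
    rintro a ⟨m, rfl | rfl⟩
    · exact ⟨-m, Or.inl (zpow_neg g m).symm⟩
    · refine ⟨-m, Or.inr ?_⟩
      rw [mul_inv_rev, ti, ← zpow_neg, hc]

/-- The frame with its outer 2-part. -/
structure FrO (t : G) (f : ↥(chevF4.group F) →* G) (T : Subgroup G) (g : G) : Prop where
  R : Frame t f
  T2 : IsPGroup 2 T
  Tc : ∀ d ∈ T, d * t = t * d
  Tmax : ∀ P : Subgroup G, IsPGroup 2 P → T ≤ P → (∀ x ∈ P, x * t = t * x) → P ≤ T
  tT : t ∈ T
  UT : (UK F).map f ≤ T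
  TK : ∀ y, f y ∈ T → y ∈ UK F
  nU : ∀ d ∈ T, ∀ x ∈ (UK F).map f, d * x * d⁻¹ ∈ (UK F).map f
  gT : g ∈ T
  acts : Acts f g
  gen : ∀ x ∈ T, ∃ m : ℤ, ∃ u ∈ UK F, x = f u * g ^ m ∨ x = f u * t * g ^ m

variable [Finite F] [CharP F 2]

/-- **Existence.** -/
theorem exists_frO [Finite G] (hF : 2 < Nat.card F) (R : Frame t f) {T : Subgroup G} (T2 : IsPGroup 2 T)
    (Tc : ∀ d ∈ T, d * t = t * d)
    (Tmax : ∀ P : Subgroup G, IsPGroup 2 P → T ≤ P → (∀ x ∈ P, x * t = t * x) → P ≤ T)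
    (UT : (UK F).map f ≤ T) :
    ∃ s ∈ (chevF4.diagonalSubgroup F).subgroupOf (chevF4.group F), ∃ g, FrO t (cf f s) T g ∧
      (UK F).map (cf f s) = (UK F).map f ∧ ∀ r ∈ rts, XG (cf f s) r = XG f r := by
  have ti := R.tinv
  have tT : t ∈ T := by
    have h1 : IsPGroup 2 (Subgroup.zpowers t) := by
      rw [IsPGroup.iff_card]
      rcases (Nat.dvd_prime Nat.prime_two).1 (orderOf_dvd_of_pow_eq_one (by rw [pow_two]; exact R.tt : t ^ 2 = 1)) with h | h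
      · exact ⟨0, by rw [Nat.card_zpowers, h, pow_zero]⟩
      · exact ⟨1, by rw [Nat.card_zpowers, h, pow_one]⟩
    have h2 : IsPGroup 2 (T ⊔ Subgroup.zpowers t : Subgroup G) := by
      refine IsPGroup.to_sup_of_normal_right' T2 h1 ?_
      intro d hd
      have hdt : ∀ n : ℤ, d * t ^ n * d⁻¹ = t ^ n := fun n => by
        rw [((show Commute d t from Tc d hd).zpow_right n).eq, mul_inv_cancel_right]
      rw [Subgroup.mem_normalizer_iff]
      intro x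
      constructor
      · rintro ⟨n, rfl⟩
        exact ⟨n, (hdt n).symm⟩
      · rintro ⟨n, hn⟩
        have hn' : t ^ n = d * x * d⁻¹ := hn
        refine ⟨n, ?_⟩
        show t ^ n = x
        have h3 : x = d⁻¹ * (d * x * d⁻¹) * d := by group
        have h4 : d⁻¹ * t ^ n * d = t ^ n := by
          calc d⁻¹ * t ^ n * d = d⁻¹ * (d * t ^ n * d⁻¹) * d := by rw [hdt]
            _ = t ^ n := by group
        rw [h3, ← hn', h4]
    refine Tmax _ h2 le_sup_left ?_ (Subgroup.mem_sup_right (Subgroup.mem_zpowers t))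
    have h3 : T ⊔ Subgroup.zpowers t ≤ Subgroup.centralizer ({t} : Set G) := by
      rw [sup_le_iff]
      refine ⟨fun x hx => Subgroup.mem_centralizer_singleton_iff.2 (Tc x hx), ?_⟩
      rw [Subgroup.zpowers_le]
      exact Subgroup.mem_centralizer_singleton_iff.2 rfl
    exact fun x hx => Subgroup.mem_centralizer_singleton_iff.1 (h3 hx)
  have TK : ∀ y, f y ∈ T → y ∈ UK F := by
    intro y hy
    have h1 : IsPGroup 2 (T.comap f) := T2.comap_of_injective f R.inj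
    exact (kf0 hF).maxU (T.comap f) h1 (fun u hu => UT ⟨u, hu, rfl⟩) hy
  have nU : ∀ d ∈ T, ∀ x ∈ (UK F).map f, d * x * d⁻¹ ∈ (UK F).map f := by
    rintro d hd _ ⟨u, hu, rfl⟩
    obtain ⟨y', hy'⟩ := R.nK d (Tc d hd) u
    rw [hy']
    refine ⟨y', TK y' ?_, rfl⟩
    rw [← hy']
    exact mul_mem (mul_mem hd (UT ⟨u, hu, rfl⟩)) (inv_mem hd)
  have hSU : T ≤ Subgroup.normalizer (((UK F).map f : Subgroup G) : Set G) := by
    intro d hd
    rw [Subgroup.mem_normalizer_iff]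
    intro x
    refine ⟨fun hx => nU d hd x hx, fun hx => ?_⟩
    have h1 := nU d⁻¹ (inv_mem hd) _ hx
    have h2 : d⁻¹ * (d * x * d⁻¹) * d⁻¹⁻¹ = x := by group
    rwa [h2] at h1
  obtain ⟨s, hs, hR, hU, hX, g, hg, hA, hgen⟩ := exists_gen_frame c4 R T2 Tc hSU UT
  have hU' : (UK F).map (cf f s) = (UK F).map f := hU
  refine ⟨s, hs, g, ⟨hR, T2, Tc, Tmax, tT, ?_, ?_, ?_, hg, hA, hgen⟩, hU', ?_⟩
  · rw [hU']; exact UT
  · intro y hy
    have h1 : IsPGroup 2 (T.comap (cf f s)) := T2.comap_of_injective (cf f s) hR.inj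
    exact (kf0 hF).maxU (T.comap (cf f s)) h1 (fun u hu => by
      show cf f s u ∈ T
      apply UT
      rw [← hU']
      exact ⟨u, hu, rfl⟩) hy
  · rw [hU']; exact nU
  · intro r hr
    exact hX r ((KBridge.isRoot_iff' c4).2 hr)

namespace FrO

variable {T : Subgroup G}

/-- The group `D`. -/
def D (O : FrO t f T g) : Subgroup G := DD t g O.R.tt (O.Tc g O.gT)

theorem mem_D (O : FrO t f T g) {d : G} : d ∈ O.D ↔ ∃ n : ℤ, d = g ^ n ∨ d = t * g ^ n := Iff.rfl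

theorem D_le (O : FrO t f T g) : O.D ≤ T := by
  rintro d ⟨n, rfl | rfl⟩
  · exact zpow_mem O.gT n
  · exact mul_mem O.tT (zpow_mem O.gT n)

theorem t_mem_D (O : FrO t f T g) : t ∈ O.D := ⟨0, Or.inr (by rw [zpow_zero, mul_one])⟩

theorem D_comm (O : FrO t f T g) {d e : G} (hd : d ∈ O.D) (he : e ∈ O.D) : d * e = e * d := by
  have gt : Commute g t := O.Tc g O.gT
  have h1 : ∀ n : ℤ, Commute t (g ^ n) := fun n => (gt.zpow_left n).symm
  obtain ⟨m, rfl | rfl⟩ := hd <;> obtain ⟨n, rfl | rfl⟩ := he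
  · exact (Commute.zpow_zpow_self g m n).eq
  · exact ((h1 m).symm.mul_right (Commute.zpow_zpow_self g m n)).eq
  · exact ((h1 n).mul_left (Commute.zpow_zpow_self g m n)).eq
  · exact (((Commute.refl t).mul_right (h1 n)).mul_left ((h1 m).symm.mul_right (Commute.zpow_zpow_self g m n))).eq

variable [Finite G]

/-- Every element of `D` acts in coordinates. -/
theorem acts_D (O : FrO t f T g) {d : G} (hd : d ∈ O.D) : Acts f d := by
  have h1 : ∀ n : ℤ, Acts f (g ^ n) := by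
    intro n
    have h2 : g ^ n ∈ Submonoid.powers g :=
      ((isOfFinOrder_of_finite g).mem_powers_iff_mem_zpowers).2 ⟨n, rfl⟩
    obtain ⟨m, hm⟩ := h2
    have hm' : g ^ m = g ^ n := hm
    rw [← hm']
    exact acts_pow O.acts m
  have ht : Acts f t := Or.inl ⟨_, Fld.of_comm fun y => (O.R.ft y).symm⟩
  obtain ⟨n, rfl | rfl⟩ := hd
  · exact h1 n
  · exact Acts.mul' ht (h1 n)

/-- An element of `D` which commutes with `X_ρ` is `1` or `t`. -/
theorem D_cent (O : FrO t f T g) {d : G} (hd : d ∈ O.D) (h : ∀ x ∈ XG f Lead.ρ, d * x = x * d) : d = 1 ∨ d = t := by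
  have hr := (KBridge.isRoot_iff' c4).2 Lead.ρ_mem
  have h0 : ∀ a, d * f (eF F Lead.ρ a) * d⁻¹ = f (eF F Lead.ρ a) := fun a => by
    rw [h _ ⟨_, e_mem_X hr a, rfl⟩, mul_inv_cancel_right]
  rcases O.acts_D hd with ⟨φ, hφ⟩ | ⟨φ, hφ⟩
  · have h1 : ∀ a, φ a = a := by
      intro a
      have h2 := hφ _ Lead.ρ_mem a
      rw [h0] at h2
      exact (e_inj Lead.ρ_mem (O.R.inj h2)).symm
    exact O.R.cK d (O.Tc d (O.D_le hd)) (comm_of_fld hφ h1)
  · exfalso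
    have h1 : B Lead.ρ Lead.ρ = 4 ∧ dual Lead.ρ = Lead.σ := by decide +kernel
    have h2 := hφ.1 _ Lead.ρ_mem h1.1 1
    rw [h0, map_one, h1.2] at h2
    have h3 := O.R.inj h2
    have h4 : eF F Lead.ρ (1 : F) = 1 := by
      refine KFacts.F4Model.ind Lead.ρ_mem Lead.σ_mem (by decide +kernel) _ (e_mem_X hr 1) ?_
      rw [h3]
      exact e_mem_X ((KBridge.isRoot_iff' c4).2 Lead.σ_mem) 1
    exact (dat (K := F)).ne_one hr one_ne_zero h4

/-- `D ∩ U = 1` -/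
theorem disj (O : FrO t f T g) {d : G} (hd : d ∈ O.D) (hU : d ∈ (UK F).map f) : d = 1 := by
  obtain ⟨u, hu, rfl⟩ := hU
  have h1 : ∀ x ∈ XG f Lead.ρ, f u * x = x * f u := by
    rintro _ ⟨x, hx, rfl⟩
    rw [← map_mul, ← map_mul]
    congr 1
    have e : v 47 = Lead.ρ := by rw [KBridge.vv_eq]; decide +kernel
    rw [← e] at hx
    exact L_comm1 (U_le_L hu) hx
  rcases O.D_cent hd h1 with h2 | h2
  · exact h2
  · exfalso
    refine O.R.not_mem_range (fun z hz => eq_one_of_comm c4 fun x _ a => hz _) u h2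

/-- `T = D U` -/
theorem fac (O : FrO t f T g) : ∀ x ∈ T, ∃ d ∈ O.D, ∃ u ∈ (UK F).map f, x = d * u := by
  intro x hx
  obtain ⟨m, u, hu, h⟩ := O.gen x hx
  have key : ∀ d ∈ O.D, x = f u * d → ∃ d ∈ O.D, ∃ u ∈ (UK F).map f, x = d * u := by
    intro d hd e
    refine ⟨d, hd, d⁻¹ * f u * d⁻¹⁻¹, O.nU _ (inv_mem (O.D_le hd)) _ ⟨u, hu, rfl⟩, ?_⟩
    rw [e]; group
  rcases h with h | h
  · exact key _ ⟨m, Or.inl rfl⟩ h
  · exact key _ ⟨m, Or.inr rfl⟩ (by rw [h, mul_assoc])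

/-- `T / U` is abelian. -/
theorem ab (O : FrO t f T g) : ∀ a ∈ T, ∀ b ∈ T, a * b * a⁻¹ * b⁻¹ ∈ (UK F).map f := by
  intro a ha b hb
  obtain ⟨d, hd, u, hu, rfl⟩ := O.fac a ha
  obtain ⟨e, he, v, hv, rfl⟩ := O.fac b hb
  have hc := O.D_comm hd he
  have n := O.nU
  have hdT := O.D_le hd
  have heT := O.D_le he
  -- `[d u, e v] = (d (u (e (v u⁻¹) e⁻¹)) d⁻¹) [d, e] (e v⁻¹ e⁻¹)`
  have h1 : d * u * (e * v) * (d * u)⁻¹ * (e * v)⁻¹ =
      (d * (u * (e * (v * u⁻¹) * e⁻¹)) * d⁻¹) * (d * e * d⁻¹ * e⁻¹) * (e * v⁻¹ * e⁻¹) := by group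
  have h2 : d * e * d⁻¹ * e⁻¹ = 1 := by rw [hc]; group
  rw [h1, h2, mul_one]
  exact mul_mem (n d hdT _ (mul_mem hu (n e heT _ (mul_mem hv (inv_mem hu))))) (n e heT _ (inv_mem hv))

/-- Involutions of `D` outside `⟨t⟩`. -/
theorem hone (O : FrO t f T g) : ∀ e ∈ O.D, ∀ d ∈ O.D, e * e = 1 → d * d = 1 → e ≠ 1 → e ≠ t → d ≠ 1 → d ≠ t →
    d = e ∨ d = t * e := by
  have tt := O.R.tt
  have gt : Commute g t := O.Tc g O.gT
  have hc : ∀ n : ℤ, g ^ n * t = t * g ^ n := fun n => (gt.zpow_left n).eq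
  -- the part in `⟨g⟩`
  have h1 : ∀ e ∈ O.D, e * e = 1 → e ≠ 1 → e ≠ t → ∃ n : ℤ, g ^ n * g ^ n = 1 ∧ g ^ n ≠ 1 ∧ (e = g ^ n ∨ e = t * g ^ n) := by
    rintro e ⟨n, rfl | rfl⟩ he he1 het
    · exact ⟨n, he, he1, Or.inl rfl⟩
    · refine ⟨n, ?_, fun h => het (by rw [h, mul_one]), Or.inr rfl⟩
      calc g ^ n * g ^ n = (t * t) * (g ^ n * g ^ n) := by rw [tt, one_mul]
        _ = t * (t * g ^ n) * g ^ n := by group
        _ = t * (g ^ n * t) * g ^ n := by rw [hc]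
        _ = t * g ^ n * (t * g ^ n) := by group
        _ = 1 := he
  -- at most one involution in `⟨g⟩`
  have h2 : ∀ m n : ℤ, g ^ m * g ^ m = 1 → g ^ m ≠ 1 → g ^ n * g ^ n = 1 → g ^ n ≠ 1 → g ^ m = g ^ n := by
    intro m n hm hm1 hn hn1
    have key : ∀ x : Subgroup.zpowers g, (x : G) * x = 1 → (x : G) ≠ 1 → orderOf x = 2 := by
      intro x hx hx1
      refine orderOf_eq_prime (Subtype.ext ?_) (fun h => hx1 (congrArg Subtype.val h))
      rw [Subgroup.coe_pow, pow_two]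
      exact hx
    have k1 := key ⟨g ^ m, m, rfl⟩ hm hm1
    have k2 := key ⟨g ^ n, n, rfl⟩ hn hn1
    have := Fintype.ofFinite (Subgroup.zpowers g)
    have hcard : (Finset.univ.filter (fun x : Subgroup.zpowers g => orderOf x = 2)).card = 1 := by
      have h3 := IsCyclic.card_orderOf_eq_totient (α := Subgroup.zpowers g) (d := 2) (by
        rw [← k1]; exact orderOf_dvd_card)
      rw [h3]
      decide
    obtain ⟨z, hz⟩ := Finset.card_eq_one.1 hcard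
    have m1 : (⟨g ^ m, m, rfl⟩ : Subgroup.zpowers g) ∈ ({z} : Finset _) := by
      rw [← hz, Finset.mem_filter]; exact ⟨Finset.mem_univ _, k1⟩
    have m2 : (⟨g ^ n, n, rfl⟩ : Subgroup.zpowers g) ∈ ({z} : Finset _) := by
      rw [← hz, Finset.mem_filter]; exact ⟨Finset.mem_univ _, k2⟩
    rw [Finset.mem_singleton] at m1 m2
    exact congrArg Subtype.val (m1.trans m2.symm)
  intro e he d hd hee hdd he1 het hd1 hdt
  obtain ⟨m, m1, m2, m3⟩ := h1 e he hee he1 het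
  obtain ⟨n, n1, n2, n3⟩ := h1 d hd hdd hd1 hdt
  have h3 := h2 m n m1 m2 n1 n2
  rw [← h3] at n3
  rcases m3 with m3 | m3 <;> rcases n3 with n3 | n3
  · left; rw [m3, n3]
  · right; rw [m3, n3]
  · right; rw [m3, n3, ← mul_assoc, tt, one_mul]
  · left; rw [m3, n3]

/-- **(R)** for `T`: an element of `T` commuting with `X_ρ` lies in `⟨t⟩ U`. -/
theorem hout' (O : FrO t f T g) : ∀ c ∈ T, (∀ x ∈ XG f Lead.ρ, c * x = x * c) →
    c ∈ (UK F).map f ∨ t * c ∈ (UK F).map f := by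
  intro c hc h
  obtain ⟨d, hd, u, hu, rfl⟩ := O.fac c hc
  obtain ⟨w, hw, rfl⟩ := hu
  have h1 : ∀ x ∈ XG f Lead.ρ, f w * x = x * f w := by
    rintro _ ⟨x, hx, rfl⟩
    rw [← map_mul, ← map_mul]
    congr 1
    have e : v 47 = Lead.ρ := by rw [KBridge.vv_eq]; decide +kernel
    rw [← e] at hx
    exact L_comm1 (U_le_L hw) hx
  have h2 : ∀ x ∈ XG f Lead.ρ, d * x = x * d := by
    intro x hx
    have h3 : Commute (d * f w) x := h x hx
    have h4 : Commute (f w) x := h1 x hx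
    have h5 := h3.mul_left h4.inv_left
    rw [mul_inv_cancel_right] at h5
    exact h5
  rcases O.D_cent hd h2 with rfl | rfl
  · left; rw [one_mul]; exact ⟨w, hw, rfl⟩
  · right; rw [← mul_assoc, O.R.tt, one_mul]; exact ⟨w, hw, rfl⟩

/-- `U` in the notation of `Lead` and of `OutO`. -/
theorem map_UK (f : ↥(chevF4.group F) →* G) : (UK F).map f = Lead.Ab (XG f) 0 := by
  have hpos : ∀ x ∈ rts, (0 < lv x ↔ ∀ i, 0 ≤ x i) := by decide +kernel
  apply le_antisymm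
  · rw [Subgroup.map_le_iff_le_comap]
    refine RGD.Sup_le fun x hx y hy => ?_
    have h1 := (KBridge.isRoot_iff' c4).1 hx.1
    exact Lead.le_Ab h1 ((hpos x h1).2 hx.2) ⟨y, hy, rfl⟩
  · refine Lead.Ab_le fun b hb hb0 => Subgroup.map_mono (RGD.le_Sup ⟨(KBridge.isRoot_iff' c4).2 hb, (hpos b hb).1 hb0⟩)

theorem hout (O : FrO t f T g) : ∀ c ∈ T, (∀ x ∈ XG f Lead.ρ, c * x = x * c) →
    c ∈ Lead.Ab (XG f) 0 ∨ t * c ∈ Lead.Ab (XG f) 0 := by
  rw [← map_UK]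
  exact O.hout'

/-- **(k2)** -/
theorem k2 (O : FrO t f T g) : ∀ c ∈ T, (∀ z ∈ XG f Lead.ρ ⊔ XG f Lead.σ, c * z = z * c) →
    c ∈ Lead.Ab (XG f) 0 ∨ t * c ∈ Lead.Ab (XG f) 0 :=
  fun c hc h => O.hout c hc fun x hx => h x (Subgroup.mem_sup_left hx)

/-- Elements of `D` outside `⟨t⟩` are outer. -/
theorem outer (O : FrO t f T g) {d : G} (hd : d ∈ O.D) (hd1 : d ≠ 1) (hdt : d ≠ t) : Lead.Outer (XG f) d := by
  have h3 := (KBridge.isRoot_iff' c4).2 Lead.α3_mem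
  have h0 := (KBridge.isRoot_iff' c4).2 Lead.α0_mem
  rcases O.acts_D hd with ⟨φ, hφ⟩ | ⟨φ, hφ⟩
  · left
    obtain ⟨a, ha⟩ : ∃ a, φ a ≠ a := by
      by_contra hcon
      push Not at hcon
      rcases O.R.cK d (O.Tc d (O.D_le hd)) (comm_of_fld hφ hcon) with h | h
      · exact hd1 h
      · exact hdt h
    refine ⟨⟨_, ⟨_, e_mem_X h3 a, rfl⟩, ?_, ?_⟩, _, ⟨_, e_mem_X h0 a, rfl⟩, ?_, ?_⟩
    · rw [hφ _ Lead.α3_mem]; exact ⟨_, e_mem_X h3 _, rfl⟩
    · rw [hφ _ Lead.α3_mem]; exact fun h => ha (e_inj Lead.α3_mem (O.R.inj h))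
    · rw [hφ _ Lead.α0_mem]; exact ⟨_, e_mem_X h0 _, rfl⟩
    · rw [hφ _ Lead.α0_mem]; exact fun h => ha (e_inj Lead.α0_mem (O.R.inj h))
  · right
    have h1 : B Lead.α3 Lead.α3 = 4 ∧ dual Lead.α3 = Lead.α0 := by decide +kernel
    refine ⟨f (eF F Lead.α3 1), ⟨_, e_mem_X h3 1, rfl⟩, fun h => ?_, ?_⟩
    · exact (dat (K := F)).ne_one h3 one_ne_zero (O.R.inj (h.trans (map_one f).symm))
    · rw [hφ.1 _ Lead.α3_mem h1.1, h1.2]
      exact ⟨_, e_mem_X h0 _, rfl⟩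

/-- An involution of `D` of field type: `φ² = 1`, `φ ≠ 1`. -/
theorem fld_sq (O : FrO t f T g) {d : G} {φ : F ≃+* F} (hφ : Fld f d φ) (hdd : d * d = 1) :
    ∀ a, φ (φ a) = a := by
  intro a
  have h1 := (hφ.mul hφ) _ Lead.ρ_mem a
  rw [hdd, one_mul, inv_one, mul_one] at h1
  exact (e_inj Lead.ρ_mem (O.R.inj h1)).symm

theorem fld_ne (O : FrO t f T g) {d : G} {φ : F ≃+* F} (hd : d ∈ O.D) (hφ : Fld f d φ) (hd1 : d ≠ 1)
    (hdt : d ≠ t) : ∃ a, φ a ≠ a := by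
  by_contra hcon
  push Not at hcon
  rcases O.R.cK d (O.Tc d (O.D_le hd)) (comm_of_fld hφ hcon) with h | h
  · exact hd1 h
  · exact hdt h

/-- An involution of `D` of graph type: `2 φ² = 1`. -/
theorem gra_sq (O : FrO t f T g) {d : G} {φ : F ≃+* F} (hφ : Gra f d φ) (hdd : d * d = 1) :
    ∀ a, (φ (φ a)) ^ 2 = a := by
  intro a
  have h1 : B Lead.ρ Lead.ρ = 4 ∧ dual Lead.ρ = Lead.σ ∧ B Lead.σ Lead.σ = 2 ∧ dual Lead.σ = Lead.ρ := by decide +kernel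
  obtain ⟨h1, h2, h3, h4⟩ := h1
  have e1 : d * (d * f (eF F Lead.ρ a) * d⁻¹) * d⁻¹ = f (eF F Lead.ρ a) := by
    calc d * (d * f (eF F Lead.ρ a) * d⁻¹) * d⁻¹ = (d * d) * f (eF F Lead.ρ a) * (d * d)⁻¹ := by group
      _ = f (eF F Lead.ρ a) := by rw [hdd, one_mul, inv_one, mul_one]
  rw [hφ.1 _ Lead.ρ_mem h1, h2, hφ.2 _ Lead.σ_mem h3, h4] at e1
  exact e_inj Lead.ρ_mem (O.R.inj e1)

/-- The frame of `Out.Exclude`. -/
theorem fr (O : FrO t f T g) {Us : Subgroup G} (Us2 : IsPGroup 2 Us) (norm : ∀ d ∈ T, ∀ w ∈ Us, d * w * d⁻¹ ∈ Us)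
    (hU : ∀ w, w ∈ (UK F).map f ↔ w ∈ Us ∧ w * t = t * w) : Out.Exclude.Fr t T ((UK F).map f) Us where
  tt := O.R.tt
  T2 := O.T2
  tT := O.tT
  Tc := O.Tc
  Tmax := O.Tmax
  Us2 := Us2
  norm := norm
  UT := O.UT
  hU := hU
  ab := O.ab

end FrO

end Cfsg.Agent.OddHalf.D7F4.FrOut

end
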