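import Cfsg.Agent.OddHalf.D7F4.Roots
import Cfsg.Agent.OddHalf.D7F4.LevelsEnd

-- merged: Cfsg.Agent.OddHalf.D7F4.PatA
section

/-!
# K = F4(q): the pattern "short roots moved, long roots not moved" (S1765, node D7)

`t` an involution of `G`, `X a` (`a ∈ Φ`) the root groups of `K ≤ C(t)` in characteristic 2, `W s ≥ X s` (`s` short)
elementary abelian doubled root groups. The hypotheses are `PatA`; the conclusions are the relations between the `W s`:

* `sixty` : `[W s, W s'] = 1` at 60°; `X120`, `W120`: `[X d, W s] ≤ W (s + d)`, `[W s, W s'] ≤ W (s + s')` at 120°;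
* `ninety` : `[W s, W s'] ≤ X (s + s')` at 90°; `X135` : `[X r, W s] ≤ W (r + s) X (r + 2 s)` at 135°.

By the duality of F4 in characteristic 2 the same theorem covers "long moved, short not moved".
-/

set_option autoImplicit false

namespace Cfsg.Agent.OddHalf.D7F4

/-- The hypotheses: K-facts, the doubled root groups `W s` (`s` short), long roots not moved. -/
structure PatA {L G : Type*} [AddCommGroup L] [Group G] (t : G) (B : L → L → ℤ) (Φ : Set L)
    (X W : L → Subgroup G) : Prop where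
  roots : Roots B Φ
  tt : t * t = 1
  tX : ∀ a ∈ Φ, ∀ x ∈ X a, t * x = x * t
  Xne : ∀ a ∈ Φ, ∃ x ∈ X a, x ≠ 1
  Xsq : ∀ a ∈ Φ, ∀ x ∈ X a, x * x = 1
  /-- `X a`, `X b` commute for `(a, b) ≥ 0` (characteristic 2: also for orthogonal short roots) -/
  X0 : ∀ a ∈ Φ, ∀ b ∈ Φ, 0 ≤ B a b → ∀ x ∈ X a, ∀ y ∈ X b, x * y = y * x
  X1 : ∀ a ∈ Φ, ∀ b ∈ Φ, B a a = B b b → B a b < 0 → a ≠ -b → ∀ x ∈ X a, ∀ y ∈ X b, x * y * x⁻¹ * y⁻¹ ∈ X (a + b)
  X1nd : ∀ a ∈ Φ, ∀ b ∈ Φ, B a a = B b b → B a b < 0 → a ≠ -b → ∀ x ∈ X a, ∀ y ∈ X b, x * y = y * x →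
    x = 1 ∨ y = 1
  X1surj : ∀ a ∈ Φ, ∀ b ∈ Φ, B a a = B b b → B a b < 0 → a ≠ -b → ∀ y ∈ X b, y ≠ 1 → ∀ z ∈ X (a + b),
    ∃ x ∈ X a, x * y * x⁻¹ * y⁻¹ = z
  X2 : ∀ a ∈ Φ, ∀ b ∈ Φ, B a a = 4 → B b b = 2 → B a b = -2 → ∀ x ∈ X a, ∀ y ∈ X b,
    ∃ z ∈ X (a + b), ∃ w ∈ X (a + b + b), x * y * x⁻¹ * y⁻¹ = z * w
  X2nd : ∀ a ∈ Φ, ∀ b ∈ Φ, B a a = 4 → B b b = 2 → B a b = -2 → ∀ x ∈ X a, ∀ y ∈ X b, x * y = y * x → x = 1 ∨ y = 1
  ind : ∀ a ∈ Φ, ∀ b ∈ Φ, a ≠ b → ∀ x ∈ X a, x ∈ X b → x = 1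
  ind3 : ∀ a ∈ Φ, ∀ b ∈ Φ, B a a = 2 → B b b = 2 → B a b = 0 → ∀ x ∈ X a, ∀ y ∈ X b, ∀ z ∈ X (a + b),
    x * y * z = 1 → x = 1
  -- the doubled root groups
  XW : ∀ s ∈ Φ, B s s = 2 → X s ≤ W s
  Wsq : ∀ s ∈ Φ, B s s = 2 → ∀ w ∈ W s, w * w = 1
  brk : ∀ s ∈ Φ, B s s = 2 → ∀ w ∈ W s, w⁻¹ * (t * w * t) ∈ X s
  cent : ∀ s ∈ Φ, B s s = 2 → ∀ w ∈ W s, t * w = w * t → w ∈ X s
  surj : ∀ s ∈ Φ, B s s = 2 → ∀ x ∈ X s, ∃ w ∈ W s, w⁻¹ * (t * w * t) = x
  /-- `W s` commutes with `X a`: `a` long, `(a, s) ≥ 0` or `a` short, `(a, s) > 0` -/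
  WX : ∀ s ∈ Φ, B s s = 2 → ∀ a ∈ Φ, (B a a = 4 ∧ 0 ≤ B a s ∨ B a a = 2 ∧ 0 < B a s) →
    ∀ w ∈ W s, ∀ x ∈ X a, w * x = x * w
  WX0 : ∀ s ∈ Φ, B s s = 2 → ∀ a ∈ Φ, B a a = 2 → B a s = 0 → ∀ w ∈ W s, ∀ x ∈ X a, w * x * w⁻¹ * x⁻¹ ∈ X (s + a)
  /-- long roots are not moved -/
  NM : ∀ r ∈ Φ, B r r = 4 → ∀ x ∈ X r, ∀ g : G, g⁻¹ * t * g = t * x → x = 1
  /-- the double centraliser -/
  K2 : ∀ s ∈ Φ, ∀ s' ∈ Φ, B s s = 2 → B s' s' = 2 → B s s' < 2 → -2 < B s s' → ∀ c, c * t = t * c →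
    (∀ a ∈ Φ, (B a a = 4 ∧ 0 ≤ B a s ∧ 0 ≤ B a s' ∨ B a a = 2 ∧ 0 < B a s ∧ 0 < B a s') →
      ∀ x ∈ X a, c * x = x * c) →
    ∃ x ∈ X s, ∃ y ∈ X s', ∃ z, (B s s' = 1 ∧ z = 1 ∨ B s s' ≤ 0 ∧ z ∈ X (s + s')) ∧
      (c = x * y * z ∨ c = t * (x * y * z))
  aux90 : ∀ s ∈ Φ, ∀ s' ∈ Φ, B s s = 2 → B s' s' = 2 → B s s' = 0 → ∃ d ∈ Φ, B d d = 2 ∧ B d s = 1 ∧ B d s' = -1
  aux120 : ∀ s ∈ Φ, ∀ s' ∈ Φ, B s s = 2 → B s' s' = 2 → B s s' = -1 →
    ∃ d ∈ Φ, B d d = 2 ∧ B d s = -1 ∧ B d s' = 1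

namespace PatA

variable {L G : Type*} [AddCommGroup L] [Group G]

/-- an equation between products of two factors, in a product -/
theorem ra {x y z : G} (h : x * y = z) (A : G) : x * (y * A) = z * A := by rw [← mul_assoc, h]

theorem inv_of_sq {x : G} (h : x * x = 1) : x⁻¹ = x := inv_eq_of_mul_eq_one_left h

theorem comm_of_sq {x y : G} (hx : x * x = 1) (hy : y * y = 1) (hxy : (x * y) * (x * y) = 1) : x * y = y * x := by
  calc x * y = x * ((x * y) * (x * y)) * y := by rw [hxy, mul_one]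
    _ = (x * x) * (y * x) * (y * y) := by group
    _ = y * x := by rw [hx, hy, one_mul, mul_one]

variable {t : G} {B : L → L → ℤ} {Φ : Set L} {X W : L → Subgroup G}

/-- `W s` is abelian -/
theorem Wab (h : PatA t B Φ X W) {s : L} (hs : s ∈ Φ) (hss : B s s = 2) {v w : G} (hv : v ∈ W s) (hw : w ∈ W s) :
    v * w = w * v :=
  comm_of_sq (h.Wsq s hs hss v hv) (h.Wsq s hs hss w hw) (h.Wsq s hs hss _ (mul_mem hv hw))

/-- The data of an element of `W s`. -/
theorem dat (h : PatA t B Φ X W) {s : L} (hs : s ∈ Φ) (hss : B s s = 2) {w : G} (hw : w ∈ W s) :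
    ∃ a ∈ X s, t * w * t = w * a ∧ a * w = w * a ∧ (a = 1 → w ∈ X s) := by
  refine ⟨w⁻¹ * (t * w * t), h.brk s hs hss w hw, by rw [mul_inv_cancel_left],
    h.Wab hs hss (h.XW s hs hss (h.brk s hs hss w hw)) hw, ?_⟩
  intro h1
  apply h.cent s hs hss w hw
  have h2 : t * w * t = w := (inv_mul_eq_one.1 h1).symm
  calc t * w = t * w * (t * t) := by rw [h.tt, mul_one]
    _ = (t * w * t) * t := by group
    _ = w * t := by rw [h2]

/-- `t w t = w a ⇒ w⁻¹ t w = a t` -/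
theorem inv_conj (h : PatA t B Φ X W) {w a : G} (ha : t * w * t = w * a) : w⁻¹ * t * w = a * t := by
  have h1 : w⁻¹ * t * w = w⁻¹ * (t * w * t) * (t * t) * (t * w * t)⁻¹ * t * w := by
    rw [h.tt]; group
  have h2 : t * w = w * a * t := by rw [← ha, mul_assoc, h.tt, mul_one]
  rw [mul_assoc, h2]; group

/-- `u` commutes with `g⁻¹ (X c) g` for `c` in the cone -/
theorem YD (h : PatA t B Φ X W) {s s' c : L} (hs : s ∈ Φ) (hs' : s' ∈ Φ) (hc : c ∈ Φ) (hss : B s s = 2)
    (hss' : B s' s' = 2) (h1 : B s s' = 1)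
    (hY : B c c = 4 ∧ 0 ≤ B c s ∧ 0 ≤ B c s' ∨ B c c = 2 ∧ 0 < B c s ∧ 0 < B c s')
    {g x u : G} (hg : g ∈ X (s - s')) (hx : x ∈ X c) (hu : u ∈ W s') : u * (g⁻¹ * x * g) = g⁻¹ * x * g * u := by
  have R := h.roots
  obtain ⟨hd, hdd⟩ := R.sub_ss hs hs' hss hss' h1
  have hcd : B c (s - s') = B c s - B c s' := R.sub_right _ _ _
  have hv : B (s - s') s' = -1 := by rw [R.sub_left, h1, hss']; norm_num
  generalize s - s' = δ at hd hdd hcd hv hg
  have hcs' : B c c = 4 ∧ 0 ≤ B c s' ∨ B c c = 2 ∧ 0 < B c s' := by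
    rcases hY with ⟨h2, -, h3⟩ | ⟨h2, -, h3⟩
    · exact Or.inl ⟨h2, h3⟩
    · exact Or.inr ⟨h2, h3⟩
  have hux : u * x = x * u := h.WX s' hs' hss' c hc hcs' u hu x hx
  by_cases h0 : 0 ≤ B c δ
  · have hgx : x * g = g * x := h.X0 c hc _ hd h0 x hx g hg
    have : g⁻¹ * x * g = x := by rw [mul_assoc, hgx, inv_mul_cancel_left]
    rw [this]; exact hux
  · rw [not_le] at h0
    rcases hY with ⟨h2, h3, h4⟩ | ⟨h2, h3, h4⟩
    · -- `c` long
      have h5 := R.ls c hc _ hd h2 hdd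
      have h6 : B c δ = -2 := by omega
      have h7 := R.ls c hc s' hs' h2 hss'
      have h8 : B c s' = 2 := by
        have := R.ls c hc s hs h2 hss
        omega
      obtain ⟨z, hz, w, hw, he⟩ := h.X2 c hc _ hd h2 hdd h6 x hx g⁻¹ (inv_mem hg)
      obtain ⟨hm1, hn1, -, hm2, hn2⟩ := R.add_ls hc hd h2 hdd h6
      have hz' : u * z = z * u := h.WX s' hs' hss' _ hm1 (Or.inr ⟨hn1, by rw [R.add_left, h8, hv]; norm_num⟩) u hu z hz
      have hw' : u * w = w * u := h.WX s' hs' hss' _ hm2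
        (Or.inl ⟨hn2, by rw [R.add_left, R.add_left, h8, hv]; norm_num⟩) u hu w hw
      have he' : g⁻¹ * x * g = (z * w)⁻¹ * x := by
        rw [← he]; group
      rw [he']
      have hzw : Commute u (z * w) := Commute.mul_right hz' hw'
      exact (Commute.mul_right hzw.inv_right hux : Commute u ((z * w)⁻¹ * x))
    · -- `c` short
      have h5 := R.ss c hc s hs h2 hss
      have h6 := R.ss c hc s' hs' h2 hss'
      have h7 : B c δ = -1 := by omega
      obtain ⟨hm1, hn1, hcne⟩ := R.add_ss hc hd h2 hdd h7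
      have he := h.X1 c hc _ hd (by rw [h2, hdd]) h0 hcne x hx g⁻¹ (inv_mem hg)
      have hz' := h.WX s' hs' hss' _ hm1 (Or.inr ⟨hn1, by rw [R.add_left, hv]; omega⟩) u hu _ he
      set z := x * g⁻¹ * x⁻¹ * g⁻¹⁻¹ with hz
      have he' : g⁻¹ * x * g = z⁻¹ * x := by
        rw [hz]; group
      rw [he']
      have hzw : Commute u z := hz'
      exact (Commute.mul_right hzw.inv_right hux : Commute u (z⁻¹ * x))

/-- `u` commutes with `x` and `y`: the neighbours at 60° -/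
theorem WX' (h : PatA t B Φ X W) {s a : L} (hs : s ∈ Φ) (ha : a ∈ Φ) (hss : B s s = 2) (haa : B a a = 2)
    (h1 : 0 < B a s) {w x : G} (hw : w ∈ W s) (hx : x ∈ X a) : w * x = x * w :=
  h.WX s hs hss a ha (Or.inr ⟨haa, h1⟩) w hw x hx

/-- (B) `g u g⁻¹ = τ x y u w` -/
theorem formB (h : PatA t B Φ X W) {s s' : L} (hs : s ∈ Φ) (hs' : s' ∈ Φ) (hss : B s s = 2)
    (hss' : B s' s' = 2) (h1 : B s s' = 1) {g u w a b : G} (hg : g ∈ X (s - s')) (hu : u ∈ W s') (hw : w ∈ W s)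
    (ha : a ∈ X s') (hb : b ∈ X s) (hau : t * u * t = u * a) (hbw : t * w * t = w * b)
    (hgab : g * a * g⁻¹ = a * b) :
    ∃ x ∈ X s, ∃ y ∈ X s', g * u * g⁻¹ = x * y * u * w ∨ g * u * g⁻¹ = t * (x * y) * u * w := by
  have R := h.roots
  obtain ⟨hd, hdd⟩ := R.sub_ss hs hs' hss hss' h1
  have hgt : t * g = g * t := h.tX _ hd g hg
  have htt := h.tt
  have haw : w * a = a * w := h.WX' hs hs' hss hss' (by rw [R.symm, h1]; norm_num) hw ha
  have e1 : u⁻¹ * t * u = a * t := h.inv_conj hau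
  have e2 : w⁻¹ * t * w = b * t := h.inv_conj hbw
  set k := g * u * g⁻¹ * (u * w)⁻¹ with hk
  have hgt' : g⁻¹ * t = t * g⁻¹ := by
    rw [inv_mul_eq_iff_eq_mul, ← mul_assoc, ← hgt, mul_inv_cancel_right]
  have hkt : k * t = t * k := by
    -- `k⁻¹ t k = t`
    have e3 : (g * u * g⁻¹)⁻¹ * t * (g * u * g⁻¹) = a * b * t := by
      calc (g * u * g⁻¹)⁻¹ * t * (g * u * g⁻¹) = g * u⁻¹ * (g⁻¹ * t) * (g * u * g⁻¹) := by group
        _ = g * (u⁻¹ * t * u) * g⁻¹ := by rw [hgt']; group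
        _ = g * (a * t) * g⁻¹ := by rw [e1]
        _ = g * a * g⁻¹ * t := by rw [mul_assoc g (a * t), mul_assoc a t, ← hgt']; group
        _ = a * b * t := by rw [hgab]
    have e4 : (u * w)⁻¹ * t * (u * w) = a * b * t := by
      calc (u * w)⁻¹ * t * (u * w) = w⁻¹ * (u⁻¹ * t * u) * w := by group
        _ = w⁻¹ * (a * t) * w := by rw [e1]
        _ = (w⁻¹ * a * w) * (w⁻¹ * t * w) := by group
        _ = a * (b * t) := by rw [e2, mul_assoc w⁻¹ a w, ← haw]; group
        _ = a * b * t := by group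
    have e5 : k⁻¹ * t * k = t := by
      calc k⁻¹ * t * k = (u * w) * ((g * u * g⁻¹)⁻¹ * t * (g * u * g⁻¹)) * (u * w)⁻¹ := by rw [hk]; group
        _ = (u * w) * ((u * w)⁻¹ * t * (u * w)) * (u * w)⁻¹ := by rw [e3, e4]
        _ = t := by group
    calc k * t = k * (k⁻¹ * t * k) := by rw [e5]
      _ = t * k := by group
  have hY : ∀ c ∈ Φ, (B c c = 4 ∧ 0 ≤ B c s ∧ 0 ≤ B c s' ∨ B c c = 2 ∧ 0 < B c s ∧ 0 < B c s') →
      ∀ x ∈ X c, k * x = x * k := by
    intro c hc hY x hx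
    have h2 := h.YD hs hs' hc hss hss' h1 hY hg hx hu
    have h3 : u * x = x * u := h.WX s' hs' hss' c hc (by
      rcases hY with ⟨h4, -, h5⟩ | ⟨h4, -, h5⟩
      · exact Or.inl ⟨h4, h5⟩
      · exact Or.inr ⟨h4, h5⟩) u hu x hx
    have h4 : w * x = x * w := h.WX s hs hss c hc (by
      rcases hY with ⟨h4, h5, -⟩ | ⟨h4, h5, -⟩
      · exact Or.inl ⟨h4, h5⟩
      · exact Or.inr ⟨h4, h5⟩) w hw x hx
    have h5 : Commute (g * u * g⁻¹) x := by
      show g * u * g⁻¹ * x = x * (g * u * g⁻¹)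
      calc g * u * g⁻¹ * x = g * (u * (g⁻¹ * x * g)) * g⁻¹ := by group
        _ = x * (g * u * g⁻¹) := by rw [h2]; group
    have h6 : Commute (u * w) x := Commute.mul_left h3 h4
    exact Commute.mul_left h5 h6.inv_left
  obtain ⟨x, hx, y, hy, z, hz, hkk⟩ := h.K2 s hs s' hs' hss hss' (by omega) (by omega) k hkt hY
  have hz1 : z = 1 := by
    rcases hz with hz | hz
    · exact hz.2
    · omega
  rw [hz1, mul_one] at hkk
  refine ⟨x, hx, y, hy, ?_⟩
  have e6 : g * u * g⁻¹ = k * u * w := by rw [hk]; group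
  rw [e6]
  rcases hkk with hkk | hkk
  · left; rw [hkk]
  · right; rw [hkk]

/-- (B'') `g² = 1` : the `X s'`-component is trivial; `g u g⁻¹ = τ x u w`. -/
theorem formB' (h : PatA t B Φ X W) {s s' : L} (hs : s ∈ Φ) (hs' : s' ∈ Φ) (hss : B s s = 2)
    (hss' : B s' s' = 2) (h1 : B s s' = 1) {g u w a b : G} (hg : g ∈ X (s - s')) (hg1 : g ≠ 1) (hu : u ∈ W s')
    (hw : w ∈ W s) (ha : a ∈ X s') (hb : b ∈ X s) (hau : t * u * t = u * a) (hbw : t * w * t = w * b)
    (hgab : g * a * g⁻¹ = a * b) :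
    ∃ x ∈ X s, g * u * g⁻¹ = x * u * w ∨ g * u * g⁻¹ = t * x * u * w := by
  have R := h.roots
  obtain ⟨hd, hdd⟩ := R.sub_ss hs hs' hss hss' h1
  obtain ⟨x, hx, y, hy, hA⟩ := h.formB hs hs' hss hss' h1 hg hu hw ha hb hau hbw hgab
  have hgg := h.Xsq _ hd g hg
  have hgi := inv_of_sq hgg
  have hww := h.Wsq s hs hss w hw
  have hgw : g * w = w * g := (h.WX' hs hd hss hdd (by rw [R.sub_left, hss, R.symm, h1]; norm_num) hw hg).symm
  have hgx : g * x = x * g := h.X0 _ hd s hs (by rw [R.sub_left, hss, R.symm, h1]; norm_num) g hg x hx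
  have hgt : t * g = g * t := h.tX _ hd g hg
  have hxt := h.tX s hs x hx
  have hyt := h.tX s' hs' y hy
  have hxx := h.Xsq s hs x hx
  have hyy := h.Xsq s' hs' y hy
  have hxy : x * y = y * x := h.X0 s hs s' hs' (by omega) x hx y hy
  have hvne : s - s' ≠ -s' := R.ne_neg (by rw [R.sub_left, h1, hss']; norm_num)
  -- `[g, y]` lies in `X s`
  have hgy := h.X1 _ hd s' hs' (by rw [hdd, hss']) (by rw [R.sub_left, h1, hss']; norm_num) hvne g hg y hy
  rw [sub_add_cancel] at hgy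
  set q := g * y * g⁻¹ * y⁻¹ with hq
  have hgy' : g * y * g⁻¹ = q * y := by rw [hq]; group
  have hqt := h.tX s hs q hgy
  have hqx : q * x = x * q := h.X0 s hs s hs (by omega) q hgy x hx
  have hqy : q * y = y * q := h.X0 s hs s' hs' (by omega) q hgy y hy
  have hwx : w * x = x * w := h.WX' hs hs hss hss (by omega) hw hx
  have hwy : w * y = y * w := h.WX' hs hs' hss hss' (by rw [R.symm]; omega) hw hy
  have hux : u * x = x * u := h.WX' hs' hs hss' hss (by omega) hu hx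
  have huy : u * y = y * u := h.WX' hs' hs' hss' hss' (by omega) hu hy
  have key : q = 1 := by
    -- `u = g (g u g⁻¹) g⁻¹`
    have e0 : g * (g * u * g⁻¹) * g⁻¹ = u := by
      rw [hgi]
      calc g * (g * u * g) * g = (g * g) * u * (g * g) := by group
        _ = u := by rw [hgg, one_mul, mul_one]
    have gt' : g * t * g⁻¹ = t := by rw [← hgt, mul_inv_cancel_right]
    have gx' : g * x * g⁻¹ = x := by rw [hgx, mul_inv_cancel_right]
    have gw' : g * w * g⁻¹ = w := by rw [hgw, mul_inv_cancel_right]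
    rcases hA with hA | hA
    · have e1 : g * (g * u * g⁻¹) * g⁻¹ = x * (q * y) * (x * y * u * w) * w := by
        calc g * (g * u * g⁻¹) * g⁻¹ = g * (x * y * u * w) * g⁻¹ := by rw [hA]
          _ = (g * x * g⁻¹) * (g * y * g⁻¹) * (g * u * g⁻¹) * (g * w * g⁻¹) := by group
          _ = x * (q * y) * (x * y * u * w) * w := by rw [gx', hgy', gw', hA]
      rw [e0] at e1
      have e2 : x * (q * y) * (x * y * u * w) * w = q * ((x * x) * (y * y)) * u * (w * w) := by
        calc x * (q * y) * (x * y * u * w) * w = (x * q) * (y * x) * y * u * (w * w) := by group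
          _ = (q * x) * (x * y) * y * u * (w * w) := by rw [hqx, hxy]
          _ = _ := by group
      rw [e2, hxx, hyy, hww, mul_one, mul_one, mul_one] at e1
      exact (mul_eq_right.1 e1.symm)
    · have e1 : g * (g * u * g⁻¹) * g⁻¹ = t * (x * (q * y)) * (t * (x * y) * u * w) * w := by
        calc g * (g * u * g⁻¹) * g⁻¹ = g * (t * (x * y) * u * w) * g⁻¹ := by rw [hA]
          _ = (g * t * g⁻¹) * ((g * x * g⁻¹) * (g * y * g⁻¹)) * (g * u * g⁻¹) * (g * w * g⁻¹) := by group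
          _ = _ := by rw [gt', gx', hgy', gw', hA]
      rw [e0] at e1
      have e2 : t * (x * (q * y)) * (t * (x * y) * u * w) * w = q * ((x * x) * (y * y)) * u * (w * w) := by
        have hc : Commute t (x * (q * y)) := Commute.mul_right hxt (Commute.mul_right hqt hyt)
        calc t * (x * (q * y)) * (t * (x * y) * u * w) * w = t * (x * (q * y) * t) * ((x * y) * u * w) * w := by group
          _ = (t * t) * x * q * (y * x) * y * u * (w * w) := by rw [← hc.eq]; group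
          _ = (x * q) * (x * y) * y * u * (w * w) := by rw [h.tt, ← hxy]; group
          _ = _ := by rw [← hqx]; group
      rw [e2, hxx, hyy, hww, mul_one, mul_one, mul_one] at e1
      exact (mul_eq_right.1 e1.symm)
  have hy1 : y = 1 := by
    have h2 : g * y = y * g := by
      rw [key, one_mul] at hgy'
      exact mul_inv_eq_iff_eq_mul.1 hgy'
    rcases h.X1nd _ hd s' hs' (by rw [hdd, hss']) (by rw [R.sub_left, h1, hss']; norm_num) hvne g hg y hy h2 with h3 | h3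
    · exact absurd h3 hg1
    · exact h3
  rw [hy1, mul_one] at hA
  exact ⟨x, hx, hA⟩

/-- the existence of `g ∈ X (s - s')` with `[g, a] = b` -/
theorem exists_g (h : PatA t B Φ X W) {s s' : L} (hs : s ∈ Φ) (hs' : s' ∈ Φ) (hss : B s s = 2)
    (hss' : B s' s' = 2) (h1 : B s s' = 1) {a b : G} (ha : a ∈ X s') (ha1 : a ≠ 1) (hb : b ∈ X s) :
    ∃ g ∈ X (s - s'), g * a * g⁻¹ = a * b := by
  have R := h.roots
  obtain ⟨hd, hdd⟩ := R.sub_ss hs hs' hss hss' h1
  have hvne : s - s' ≠ -s' := R.ne_neg (by rw [R.sub_left, h1, hss']; norm_num)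
  have hb' : b ∈ X (s - s' + s') := by rw [sub_add_cancel]; exact hb
  obtain ⟨g, hg, he⟩ := h.X1surj _ hd s' hs' (by rw [hdd, hss']) (by rw [R.sub_left, h1, hss']; norm_num) hvne
    a ha ha1 b hb'
  refine ⟨g, hg, ?_⟩
  have hab : a * b = b * a := h.X0 s' hs' s hs (by rw [R.symm]; omega) a ha b hb
  rw [hab, ← he]; group

/-- squares of (B'') -/
theorem sq_or (h : PatA t B Φ X W) {s s' : L} (hs : s ∈ Φ) (hs' : s' ∈ Φ) (hss : B s s = 2)
    (hss' : B s' s' = 2) (h1 : B s s' = 1) {u w a b : G} (hu : u ∈ W s')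
    (hw : w ∈ W s) (ha : a ∈ X s') (hb : b ∈ X s) (hau : t * u * t = u * a) (hbw : t * w * t = w * b) :
    (u * w) * (u * w) = 1 ∨ (u * w) * (u * w) = a * b := by
  have R := h.roots
  have hww := h.Wsq s hs hss w hw
  have huu := h.Wsq s' hs' hss' u hu
  have hbw' : b * w = w * b := (h.WX' hs hs hss hss (by omega) hw hb).symm
  have haw : a * w = w * a := (h.WX' hs hs' hss hss' (by rw [R.symm, h1]; norm_num) hw ha).symm
  have hau' : a * u = u * a := (h.WX' hs' hs' hss' hss' (by omega) hu ha).symm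
  have hbu : b * u = u * b := (h.WX' hs' hs hss' hss (by rw [h1]; norm_num) hu hb).symm
  have hab : a * b = b * a := h.X0 s' hs' s hs (by rw [R.symm]; omega) a ha b hb
  have haa := h.Xsq s' hs' a ha
  have hbb := h.Xsq s hs b hb
  by_cases ha1 : a = 1
  · left
    -- `u ∈ X s'`
    obtain ⟨a', ha', hau'', -, himp⟩ := h.dat hs' hss' hu
    have : a' = a := mul_left_cancel (hau''.symm.trans hau)
    have hux : u ∈ X s' := himp (this.trans ha1)
    have huw : w * u = u * w := h.WX' hs hs' hss hss' (by rw [R.symm, h1]; norm_num) hw hux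
    calc u * w * (u * w) = u * (w * u) * w := by group
      _ = (u * u) * (w * w) := by rw [huw]; group
      _ = 1 := by rw [huu, hww, one_mul]
  by_cases hb1 : b = 1
  · left
    obtain ⟨b', hb', hbw'', -, himp⟩ := h.dat hs hss hw
    have : b' = b := mul_left_cancel (hbw''.symm.trans hbw)
    have hwx : w ∈ X s := himp (this.trans hb1)
    have huw : u * w = w * u := h.WX' hs' hs hss' hss (by rw [h1]; norm_num) hu hwx
    calc u * w * (u * w) = u * (w * u) * w := by group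
      _ = (u * u) * (w * w) := by rw [← huw]; group
      _ = 1 := by rw [huu, hww, one_mul]
  obtain ⟨g, hg, hgab⟩ := h.exists_g hs hs' hss hss' h1 ha ha1 hb
  have hg1 : g ≠ 1 := by
    rintro rfl
    rw [one_mul, inv_one, mul_one] at hgab
    exact hb1 (mul_eq_left.1 hgab.symm)
  obtain ⟨x, hx, hA⟩ := h.formB' hs hs' hss hss' h1 hg hg1 hu hw ha hb hau hbw hgab
  have hAA : (g * u * g⁻¹) * (g * u * g⁻¹) = 1 := by
    calc (g * u * g⁻¹) * (g * u * g⁻¹) = g * (u * u) * g⁻¹ := by group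
      _ = 1 := by rw [huu]; group
  have hxx := h.Xsq s hs x hx
  have hux : u * x = x * u := h.WX' hs' hs hss' hss (by omega) hu hx
  have hwx : w * x = x * w := h.WX' hs hs hss hss (by omega) hw hx
  have hxt := h.tX s hs x hx
  rcases hA with hA | hA
  · left
    rw [hA] at hAA
    have hc : Commute (u * w) x := Commute.mul_left hux hwx
    calc u * w * (u * w) = x * x * (u * w) * (u * w) := by rw [hxx]; group
      _ = x * (u * w * x) * (u * w) := by rw [hc.eq]; group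
      _ = x * u * w * (x * u * w) := by group
      _ = 1 := hAA
  · right
    rw [hA] at hAA
    have hc : Commute (u * w) x := Commute.mul_left hux hwx
    have e1 : t * x * u * w * (t * x * u * w) = (a * b) * ((u * w) * (u * w)) := by
      calc t * x * u * w * (t * x * u * w) = t * x * (u * w) * (t * x) * (u * w) := by group
        _ = t * x * (u * w) * (x * t) * (u * w) := by rw [hxt]
        _ = t * x * ((u * w) * x) * t * (u * w) := by group
        _ = t * (x * x) * (u * w) * t * (u * w) := by rw [hc.eq]; group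
        _ = (t * u * t) * (t * t)⁻¹ * (t * w * t) * (u * w) := by rw [hxx]; group
        _ = (u * a) * (w * b) * (u * w) := by rw [h.tt, hau, hbw]; group
        _ = u * (a * w) * (b * u) * w := by group
        _ = u * w * (a * u) * b * w := by rw [haw, hbu]; group
        _ = u * w * u * a * (b * w) := by rw [hau']; group
        _ = u * w * u * (a * w) * b := by rw [hbw']; group
        _ = (u * w) * (u * w) * (a * b) := by rw [haw]; group
        _ = _ := by
          have hc1 : Commute (a * b) (u * w) :=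
            Commute.mul_left (Commute.mul_right hau' haw) (Commute.mul_right hbu hbw')
          exact (Commute.mul_right hc1 hc1).eq.symm
    rw [e1] at hAA
    have h2 : (a * b) * (a * b) = 1 := by
      calc (a * b) * (a * b) = a * (b * a) * b := by group
        _ = (a * a) * (b * b) := by rw [← hab]; group
        _ = 1 := by rw [haa, hbb, one_mul]
    exact (mul_left_cancel (hAA.trans h2.symm))

/-- **60°**, more than two elements in the root groups -/
theorem sixty_of_big (h : PatA t B Φ X W) (hbig : ∀ s ∈ Φ, B s s = 2 → ∀ x ∈ X s, ∃ y ∈ X s, y ≠ 1 ∧ y ≠ x)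
    {s s' : L} (hs : s ∈ Φ) (hs' : s' ∈ Φ) (hss : B s s = 2)
    (hss' : B s' s' = 2) (h1 : B s s' = 1) {u w : G} (hw : w ∈ W s) (hu : u ∈ W s') : w * u = u * w := by
  have R := h.roots
  obtain ⟨a, ha, hau, hau', himpa⟩ := h.dat hs' hss' hu
  obtain ⟨b, hb, hbw, hbw', himpb⟩ := h.dat hs hss hw
  have hww := h.Wsq s hs hss w hw
  have huu := h.Wsq s' hs' hss' u hu
  by_cases hc : (u * w) * (u * w) = 1
  · exact (comm_of_sq huu hww hc).symm
  exfalso
  have hc1 : (u * w) * (u * w) = a * b := (h.sq_or hs hs' hss hss' h1 hu hw ha hb hau hbw).resolve_left hc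
  have ha1 : a ≠ 1 := by
    intro ha1
    have huw : w * u = u * w := h.WX' hs hs' hss hss' (by rw [R.symm, h1]; norm_num) hw (himpa ha1)
    apply hc
    calc u * w * (u * w) = u * (w * u) * w := by group
      _ = (u * u) * (w * w) := by rw [huw]; group
      _ = 1 := by rw [huu, hww, one_mul]
  obtain ⟨b', hb', hb'1, hb'b⟩ := hbig s hs hss b hb
  obtain ⟨w', hw', hbw2⟩ := h.surj s hs hss b' hb'
  have hbw2' : t * w' * t = w' * b' := by rw [← hbw2, mul_inv_cancel_left]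
  have hcom : ∀ v ∈ W s, ∀ x ∈ X s, v * x = x * v := fun v hv x hx => h.WX' hs hs hss hss (by omega) hv hx
  have hww' : w * w' = w' * w := h.Wab hs hss hw hw'
  have hbb := h.Xsq s hs b hb
  have haa := h.Xsq s' hs' a ha
  have hbb' := h.Xsq s hs b' hb'
  have e1 : t * (w * w') * t = (w * w') * (b * b') := by
    calc t * (w * w') * t = (t * w * t) * (t * t)⁻¹ * (t * w' * t) := by group
      _ = w * (b * w') * b' := by rw [h.tt, hbw, hbw2']; group
      _ = (w * w') * (b * b') := by rw [← hcom w' hw' b hb]; group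
  have hbbm : b * b' ∈ X s := mul_mem hb hb'
  have h2 := h.sq_or hs hs' hss hss' h1 hu hw' ha hb' hau hbw2'
  have h3 := h.sq_or hs hs' hss hss' h1 hu (mul_mem hw hw') ha hbbm hau e1
  have hui : u⁻¹ = u := inv_of_sq huu
  have hww'2 := h.Wsq s hs hss w' hw'
  -- `c(u, w w') = c(u, w) c(u, w')`
  have e2 : (u * (w * w')) * (u * (w * w')) = ((u * w) * (u * w)) * ((u * w') * (u * w')) := by
    rw [hc1]
    have hw'a : w' * a = a * w' := h.WX' hs hs' hss hss' (by rw [R.symm, h1]; norm_num) hw' ha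
    have hw'b : w' * b = b * w' := hcom w' hw' b hb
    have hua : u * a = a * u := h.WX' hs' hs' hss' hss' (by omega) hu ha
    have hub : u * b = b * u := h.WX' hs' hs hss' hss (by omega) hu hb
    have hwi : w⁻¹ = w := inv_of_sq hww
    -- `u w = a b w u`
    have e3 : u * w = (a * b) * (w * u) := by
      have : (u * w) * (u * w) * (w⁻¹ * u⁻¹) = u * w := by group
      rw [← this, hc1, hwi, hui]
    have hcab : Commute (w' * u * w') (a * b) :=
      Commute.mul_left (Commute.mul_left (Commute.mul_right hw'a hw'b) (Commute.mul_right hua hub))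
        (Commute.mul_right hw'a hw'b)
    calc (u * (w * w')) * (u * (w * w')) = (u * w) * (w' * u * (w * w')) := by group
      _ = (u * w) * (w' * u * (w' * w)) := by rw [hww']
      _ = (a * b) * (w * u) * (w' * u * w') * w := by rw [e3]; group
      _ = (a * b) * w * (u * w' * u * w') * w := by group
      _ = (a * b) * w * (u * w' * (u * w')) * w := by group
      _ = (a * b) * ((u * w') * (u * w')) := by
        have hcw : w * ((u * w') * (u * w')) = ((u * w') * (u * w')) * w := by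
          rcases h2 with h2 | h2
          · rw [h2, mul_one, one_mul]
          · rw [h2]
            have h4 : w * a = a * w := h.WX' hs hs' hss hss' (by rw [R.symm, h1]; norm_num) hw ha
            have h5 : w * b' = b' * w := hcom w hw b' hb'
            exact (Commute.mul_right h4 h5 : Commute w (a * b'))
        calc (a * b) * w * (u * w' * (u * w')) * w = (a * b) * (w * (u * w' * (u * w'))) * w := by group
          _ = (a * b) * (u * w' * (u * w')) * (w * w) := by rw [hcw]; group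
          _ = _ := by rw [hww, mul_one]
  rw [e2, hc1] at h3
  have hindX : ∀ x ∈ X s', ∀ y ∈ X s, x * y = 1 → x = 1 ∧ y = 1 := by
    intro x hx y hy hxy
    have hne : s ≠ s' := by rintro rfl; omega
    have h4 : y = x⁻¹ := eq_inv_of_mul_eq_one_right hxy
    have h5 : y = 1 := h.ind s hs s' hs' hne y hy (by rw [h4]; exact inv_mem hx)
    refine ⟨?_, h5⟩
    rwa [h5, mul_one] at hxy
  have hab : a * b = b * a := h.X0 s' hs' s hs (by rw [R.symm]; omega) a ha b hb
  have hbb'c : b * b' = b' * b := h.X0 s hs s hs (by omega) b hb b' hb'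
  have hab' : a * b' = b' * a := h.X0 s' hs' s hs (by rw [R.symm]; omega) a ha b' hb'
  rcases h2 with h2 | h2
  · rw [h2, mul_one] at h3
    rcases h3 with h3 | h3
    · exact hc (hc1.trans h3)
    · -- `b' = 1`
      apply hb'1
      have h4 : a * b * b' = a * b := by rw [mul_assoc]; exact h3.symm
      exact mul_eq_left.1 h4
  · rw [h2] at h3
    -- `a b a b' = b b'`
    have e4 : a * b * (a * b') = b * b' := by
      calc a * b * (a * b') = (a * b) * a * b' := by group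
        _ = b * (a * a) * b' := by rw [hab]; group
        _ = b * b' := by rw [haa, mul_one]
    rw [e4] at h3
    rcases h3 with h3 | h3
    · exact hb'b ((mul_left_cancel (h3.trans hbb.symm)))
    · exact ha1 (mul_eq_right.1 h3.symm)

/-! ### The relations, given the relation at 60° -/

/-- the relation at 60° -/
def Sixty (B : L → L → ℤ) (Φ : Set L) (W : L → Subgroup G) : Prop :=
  ∀ s ∈ Φ, ∀ s' ∈ Φ, B s s = 2 → B s' s' = 2 → B s s' = 1 → ∀ w ∈ W s, ∀ u ∈ W s', w * u = u * w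

/-- **120°**: `[X d, W s] ≤ W (s + d)` -/
theorem X120 (h : PatA t B Φ X W) (h6 : Sixty B Φ W) {s d : L} (hs : s ∈ Φ) (hd : d ∈ Φ) (hss : B s s = 2)
    (hdd : B d d = 2) (h1 : B d s = -1) {g u : G} (hg : g ∈ X d) (hu : u ∈ W s) :
    ∃ w ∈ W (s + d), g * u * g⁻¹ = u * w := by
  have R := h.roots
  obtain ⟨hm, hmm, hne⟩ := R.add_ss hs hd hss hdd (by rw [R.symm]; exact h1)
  have e0 : s + d - s = d := by abel
  have hms : B (s + d) s = 1 := by rw [R.add_left, hss, h1]; norm_num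
  obtain ⟨a, ha, hau, hau', himpa⟩ := h.dat hs hss hu
  have hne' : d ≠ -s := R.ne_neg (by omega)
  have hgau := h.X1 d hd s hs (by omega) (by omega) hne' g hg a ha
  have esd : d + s = s + d := add_comm _ _
  rw [esd] at hgau
  by_cases ha1 : a = 1
  · have hux : u ∈ X s := himpa ha1
    have h2 := h.X1 d hd s hs (by omega) (by omega) hne' g hg u hux
    rw [esd] at h2
    refine ⟨_, h.XW _ hm hmm h2, ?_⟩
    have h3 : u * (g * u * g⁻¹ * u⁻¹) = (g * u * g⁻¹ * u⁻¹) * u :=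
      h.X0 s hs _ hm (by rw [R.symm, hms]; norm_num) u hux _ h2
    rw [h3]; group
  by_cases hg1 : g = 1
  · exact ⟨1, one_mem _, by rw [hg1]; group⟩
  set b := g * a * g⁻¹ * a⁻¹ with hb
  obtain ⟨w, hw, hbw⟩ := h.surj _ hm hmm b hgau
  have hbw' : t * w * t = w * b := by rw [← hbw, mul_inv_cancel_left]
  have hab : a * b = b * a := h.X0 s hs _ hm (by rw [R.symm, hms]; norm_num) a ha b hgau
  have hgab : g * a * g⁻¹ = a * b := by rw [hab, hb]; group
  obtain ⟨x, hx, hA⟩ := h.formB' hm hs hmm hss hms (by rw [e0]; exact hg) hg1 hu hw ha hgau hau hbw' hgab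
  have hww := h.Wsq _ hm hmm w hw
  have huu := h.Wsq s hs hss u hu
  have huw : w * u = u * w := h6 _ hm s hs hmm hss hms w hw u hu
  have hux : u * x = x * u := h.WX' hs hm hss hmm (by rw [hms]; norm_num) hu hx
  have hcc : (u * w) * (u * w) = 1 := by
    calc u * w * (u * w) = u * (w * u) * w := by group
      _ = (u * u) * (w * w) := by rw [huw]; group
      _ = 1 := by rw [huu, hww, one_mul]
  rcases hA with hA | hA
  · refine ⟨x * w, mul_mem (h.XW _ hm hmm hx) hw, ?_⟩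
    rw [hA, ← hux]; group
  · -- `τ = t` is impossible
    exfalso
    have hAA : (g * u * g⁻¹) * (g * u * g⁻¹) = 1 := by
      calc (g * u * g⁻¹) * (g * u * g⁻¹) = g * (u * u) * g⁻¹ := by group
        _ = 1 := by rw [huu]; group
    rw [hA] at hAA
    have hxx := h.Xsq _ hm x hx
    have hwx : w * x = x * w := h.Wab hm hmm hw (h.XW _ hm hmm hx)
    have hxt := h.tX _ hm x hx
    have hc : Commute (u * w) x := Commute.mul_left hux hwx
    have haw : w * a = a * w := h.WX' hm hs hmm hss (by rw [R.symm, hms]; norm_num) hw ha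
    have hub : u * b = b * u := h.WX' hs hm hss hmm (by rw [hms]; norm_num) hu hgau
    have e1 : t * x * u * w * (t * x * u * w) = (u * w) * (u * w) * (a * b) := by
      have hbw2 : w * b = b * w := h.Wab hm hmm hw (h.XW _ hm hmm hgau)
      calc t * x * u * w * (t * x * u * w) = t * x * (u * w) * (t * x) * (u * w) := by group
        _ = t * x * (u * w) * (x * t) * (u * w) := by rw [hxt]
        _ = t * x * ((u * w) * x) * t * (u * w) := by group
        _ = t * (x * x) * (u * w) * t * (u * w) := by rw [hc.eq]; group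
        _ = (t * u * t) * (t * t)⁻¹ * (t * w * t) * (u * w) := by rw [hxx]; group
        _ = (u * a) * (w * b) * (u * w) := by rw [h.tt, hau, hbw']; group
        _ = u * (a * w) * (b * u) * w := by group
        _ = u * (w * a) * (u * b) * w := by rw [← haw, ← hub]
        _ = u * w * (a * u) * (b * w) := by group
        _ = u * w * (u * a) * (w * b) := by rw [hau', hbw2]
        _ = u * w * u * (a * w) * b := by group
        _ = (u * w) * (u * w) * (a * b) := by rw [← haw]; group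
    rw [e1, hcc, one_mul] at hAA
    have hne3 : s ≠ s + d := by
      intro h0
      exact R.ne_zero hd (left_eq_add.1 h0)
    apply ha1
    apply h.ind s hs _ hm hne3 a ha
    have : a = b⁻¹ := eq_inv_of_mul_eq_one_left hAA
    rw [this]
    exact inv_mem hgau

/-- The form used most often: `w⁻¹ x w`, `u x u⁻¹` ... as a commutator in `W (s + d)` -/
theorem X120' (h : PatA t B Φ X W) (h6 : Sixty B Φ W) {s d : L} (hs : s ∈ Φ) (hd : d ∈ Φ) (hss : B s s = 2)
    (hdd : B d d = 2) (h1 : B d s = -1) {g u : G} (hg : g ∈ X d) (hu : u ∈ W s) :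
    g * u * g⁻¹ * u⁻¹ ∈ W (s + d) := by
  obtain ⟨w, hw, he⟩ := h.X120 h6 hs hd hss hdd h1 hg hu
  have R := h.roots
  obtain ⟨hm, hmm, -⟩ := R.add_ss hs hd hss hdd (by rw [R.symm]; exact h1)
  have hms : B (s + d) s = 1 := by rw [R.add_left, hss, h1]; norm_num
  have huw : w * u = u * w := h6 _ hm s hs hmm hss hms w hw u hu
  rw [he, ← huw, mul_inv_cancel_right]
  exact hw

end PatA

end Cfsg.Agent.OddHalf.D7F4

end

-- merged: Cfsg.Agent.OddHalf.D7F4.PatA2
section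

/-!
# K = F4(q): the pattern "short roots moved, long roots not moved", relations at 90°, 135°, 120° (S1765, node D7)
-/

set_option autoImplicit false
set_option linter.unusedSimpArgs false

namespace Cfsg.Agent.OddHalf.D7F4

namespace PatA

variable {L G : Type*} [AddCommGroup L] [Group G]
variable {t : G} {B : L → L → ℤ} {Φ : Set L} {X W : L → Subgroup G}

/-- **90°**: `[W s, W s'] ≤ X (s + s')` -/
theorem ninety (h : PatA t B Φ X W) (h6 : Sixty B Φ W) {s s' : L} (hs : s ∈ Φ) (hs' : s' ∈ Φ) (hss : B s s = 2)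
    (hss' : B s' s' = 2) (h1 : B s s' = 0) {w v : G} (hw : w ∈ W s) (hv : v ∈ W s') :
    w * v * w⁻¹ * v⁻¹ ∈ X (s + s') := by
  have R := h.roots
  obtain ⟨hl, hll⟩ := R.add_90 hs hs' hss hss' h1
  have h1' : B s' s = 0 := by rw [R.symm]; exact h1
  obtain ⟨a, ha, hta, haw, himpa⟩ := h.dat hs hss hw
  obtain ⟨b, hb, htb, hbv, himpb⟩ := h.dat hs' hss' hv
  have hls : B (s + s') s = 2 := by rw [R.add_left, hss, h1']; norm_num
  have hls' : B (s + s') s' = 2 := by rw [R.add_left, hss', h1]; norm_num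
  have hww := h.Wsq s hs hss w hw
  have hvv := h.Wsq s' hs' hss' v hv
  have hwi := inv_of_sq hww
  have hvi := inv_of_sq hvv
  have haa := h.Xsq s hs a ha
  have hbb := h.Xsq s' hs' b hb
  -- elements of `X (s + s')` commute with everything
  have zc : ∀ z ∈ X (s + s'), (z * w = w * z) ∧ (z * v = v * z) ∧ (z * a = a * z) ∧ (z * b = b * z) := by
    intro z hz
    exact ⟨(h.WX s hs hss _ hl (Or.inl ⟨hll, by omega⟩) w hw z hz).symm,
      (h.WX s' hs' hss' _ hl (Or.inl ⟨hll, by omega⟩) v hv z hz).symm,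
      h.X0 _ hl s hs (by omega) z hz a ha, h.X0 _ hl s' hs' (by omega) z hz b hb⟩
  rw [hwi, hvi]
  by_cases hb1 : b = 1
  · have hvx : v ∈ X s' := himpb hb1
    have := h.WX0 s hs hss s' hs' hss' h1' w hw v hvx
    rwa [hwi, hvi] at this
  -- commutators with root elements
  have hz1 := h.WX0 s' hs' hss' s hs hss h1 v hv a ha
  rw [add_comm s' s] at hz1
  set z1 := v * a * v⁻¹ * a⁻¹ with hz1d
  have hz2 := h.WX0 s hs hss s' hs' hss' h1' w hw b hb
  set z2 := w * b * w⁻¹ * b⁻¹ with hz2d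
  obtain ⟨z1w, z1v, z1a, z1b⟩ := zc z1 hz1
  obtain ⟨z2w, z2v, z2a, z2b⟩ := zc z2 hz2
  have z1z1 := h.Xsq _ hl z1 hz1
  have z2z2 := h.Xsq _ hl z2 hz2
  have z12 : z2 * z1 = z1 * z2 := h.X0 _ hl _ hl (by rw [hll]; norm_num) z2 hz2 z1 hz1
  have va : v * a = z1 * (a * v) := by rw [hz1d]; group
  have wb : w * b = z2 * (b * w) := by rw [hz2d]; group
  have hab : a * b = b * a := h.X0 s hs s' hs' (by omega) a ha b hb
  -- `t c t = c z`
  have e1 : t * (w * v * w * v) * t = z1 * z2 * (w * v * w * v) := by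
    have e2 : t * (w * v * w * v) * t = (t * w * t) * (t * t)⁻¹ * (t * v * t) * (t * t)⁻¹ * (t * w * t) *
        (t * t)⁻¹ * (t * v * t) := by group
    rw [e2, h.tt, inv_one, mul_one, mul_one, mul_one, hta, htb]
    -- push `a`, `b` to the left
    have wa : w * a = a * w := haw.symm
    have vb : v * b = b * v := hbv.symm
    simp only [mul_assoc]
    simp only [va, ra va, wb, ra wb, wa, ra wa, vb, ra vb, hab, ra hab, mul_assoc, ← z1w, ra z1w.symm, ← z1v,
      ra z1v.symm, ← z1a, ra z1a.symm, ← z1b, ra z1b.symm, ← z2w, ra z2w.symm, ← z2v, ra z2v.symm, ← z2a,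
      ra z2a.symm, ← z2b, ra z2b.symm, z12, ra z12, haa, ra haa, hbb, ra hbb, one_mul, z1z1, ra z1z1, z2z2, ra z2z2]
  have hz : z1 * z2 ∈ X (s + s') := mul_mem hz1 hz2
  obtain ⟨zw, zv, -, -⟩ := zc _ hz
  set z := z1 * z2 with hzd
  set c := w * v * w * v with hcd
  have zcc : z * c = c * z := by
    have hc1 : Commute z c :=
      Commute.mul_right (Commute.mul_right (Commute.mul_right zw zv) zw) zv
    exact hc1
  have hz1' : z = 1 := by
    apply h.NM _ hl hll z hz c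
    have h2 : t * c = z * c * t := by rw [← e1, mul_assoc, h.tt, mul_one]
    have h3 : t * z = z * t := h.tX _ hl z hz
    rw [mul_assoc, h2, zcc, h3]; group
  have hct : c * t = t * c := by
    rw [hz1', one_mul] at e1
    calc c * t = t * c * t * t := by rw [e1]
      _ = t * c * (t * t) := by group
      _ = t * c := by rw [h.tt, mul_one]
  -- `c⁻¹ = v c v = w c w`
  have hci : c⁻¹ = v * c * v := by
    rw [hcd, mul_inv_rev, mul_inv_rev, mul_inv_rev, hwi, hvi]
    simp only [mul_assoc, hvv, mul_one]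
  have hYc : ∀ a ∈ Φ, (B a a = 4 ∧ 0 ≤ B a s ∧ 0 ≤ B a s' ∨ B a a = 2 ∧ 0 < B a s ∧ 0 < B a s') →
      ∀ x ∈ X a, c * x = x * c := by
    intro e he hY x hx
    have h3 : Commute v x := h.WX s' hs' hss' e he (by
      rcases hY with ⟨h4, -, h5⟩ | ⟨h4, -, h5⟩
      · exact Or.inl ⟨h4, h5⟩
      · exact Or.inr ⟨h4, h5⟩) v hv x hx
    have h4 : Commute w x := h.WX s hs hss e he (by
      rcases hY with ⟨h4, h5, -⟩ | ⟨h4, h5, -⟩
      · exact Or.inl ⟨h4, h5⟩
      · exact Or.inr ⟨h4, h5⟩) w hw x hx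
    exact Commute.mul_left (Commute.mul_left (Commute.mul_left h4 h3) h4) h3
  obtain ⟨x, hx, y, hy, e, he, hcc⟩ := h.K2 s hs s' hs' hss hss' (by omega) (by omega) c hct hYc
  have he : e ∈ X (s + s') := by
    rcases he with ⟨h2, -⟩ | ⟨-, h2⟩
    · omega
    · exact h2
  obtain ⟨ew, ev, -, -⟩ := zc e he
  have ee := h.Xsq _ hl e he
  have xx := h.Xsq s hs x hx
  have yy := h.Xsq s' hs' y hy
  have xe : x * e = e * x := h.X0 s hs _ hl (by rw [R.symm, hls]; norm_num) x hx e he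
  have ye : y * e = e * y := h.X0 s' hs' _ hl (by rw [R.symm, hls']; norm_num) y hy e he
  have xy : x * y = y * x := h.X0 s hs s' hs' (by omega) x hx y hy
  have hvx := h.WX0 s' hs' hss' s hs hss h1 v hv x hx
  rw [add_comm s' s] at hvx
  set f := v * x * v⁻¹ * x⁻¹ with hf
  have vx : v * x = f * (x * v) := by rw [hf]; group
  have vy : v * y = y * v := h.WX' hs' hs' hss' hss' (by omega) hv hy
  obtain ⟨-, fv, -, -⟩ := zc f hvx
  have ff := h.Xsq _ hl f hvx
  have fx : f * x = x * f := h.X0 _ hl s hs (by omega) f hvx x hx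
  have fy : f * y = y * f := h.X0 _ hl s' hs' (by omega) f hvx y hy
  have fe : f * e = e * f := h.X0 _ hl _ hl (by rw [hll]; norm_num) f hvx e he
  have ft : t * f = f * t := h.tX _ hl f hvx
  have xt := h.tX s hs x hx
  have yt := h.tX s' hs' y hy
  have et := h.tX _ hl e he
  rcases hcc with hcc | hcc
  swap
  · -- `τ = t`
    exfalso
    have h2 : c⁻¹ = t * (x * y * e) := by
      rw [hcc, mul_inv_rev, mul_inv_rev, mul_inv_rev, inv_of_sq ee, inv_of_sq xx, inv_of_sq yy, inv_of_sq h.tt]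
      simp only [mul_assoc, ← xt, ra xt.symm, ← yt, ra yt.symm, ← et, ra et.symm, ← xy, ra xy.symm, ← xe, ra xe.symm,
        ← ye, ra ye.symm]
    have h3 : v * c * v = t * (b * (x * y * e) * f) := by
      have vt : v * t = t * (v * b) := by
        rw [← htb]
        simp only [mul_assoc, h.tt, mul_one, ra h.tt, one_mul]
      have vb : v * b = b * v := hbv.symm
      rw [hcc]
      simp only [mul_assoc, vt, ra vt, vb, ra vb, vx, ra vx, vy, ra vy, ← ev, ra ev.symm, hvv, ra hvv, mul_one,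
        fx, ra fx, fy, ra fy, fe, ra fe]
    have h4 : b * f = 1 := by
      have h5 : t * (b * (x * y * e) * f) = t * (x * y * e) := by rw [← h3, ← hci, h2]
      have h6 := mul_left_cancel h5
      have bx : b * x = x * b := h.X0 s' hs' s hs (by omega) b hb x hx
      have by' : b * y = y * b := h.X0 s' hs' s' hs' (by omega) b hb y hy
      have be : b * e = e * b := h.X0 s' hs' _ hl (by rw [R.symm, hls']; norm_num) b hb e he
      have h7 : Commute b (x * y * e) := Commute.mul_right (Commute.mul_right bx by') be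
      rw [h7.eq, mul_assoc] at h6
      exact mul_eq_left.1 h6
    apply hb1
    have h5 : b = f⁻¹ := eq_inv_of_mul_eq_one_left h4
    apply h.ind s' hs' _ hl _ b hb
    · rw [h5]; exact inv_mem hvx
    · intro h0
      rw [← h0] at hll
      omega
  -- the auxiliary roots
  have kill : ∀ p ∈ Φ, ∀ p' ∈ Φ, B p p = 2 → B p' p' = 2 → B p p' = 0 → p + p' = s + s' → ∀ w₀ ∈ W p, ∀ v₀ ∈ W p',
      ∀ x ∈ X p, ∀ y ∈ X p', ∀ e ∈ X (s + s'), w₀ * v₀ * w₀ * v₀ = x * y * e → y = 1 := by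
    intro p hp p' hp' hpp hpp' hpp0 hsum w₀ hw₀ v₀ hv₀ x hx y hy e he hc0
    obtain ⟨d, hd, hdd, hds, hds'⟩ := h.aux90 p hp p' hp' hpp hpp' hpp0
    obtain ⟨g, hg, hg1⟩ := h.Xne d hd
    have hm := R.add_ss hp' hd hpp' hdd (by rw [R.symm]; exact hds')
    obtain ⟨v₁, hv₁, hgv⟩ := h.X120 h6 hp' hd hpp' hdd hds' hg hv₀
    have hgw : g * w₀ = w₀ * g := (h.WX' hp hd hpp hdd (by omega) hw₀ hg).symm
    have hv01 : v₁ * v₀ = v₀ * v₁ :=
      h6 _ hm.1 p' hp' hm.2.1 hpp' (by rw [R.add_left, hpp', hds']; norm_num) v₁ hv₁ v₀ hv₀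
    have hw01 : v₁ * w₀ = w₀ * v₁ :=
      h6 _ hm.1 p hp hm.2.1 hpp (by rw [R.add_left, hds, R.symm p' p, hpp0]; norm_num) v₁ hv₁ w₀ hw₀
    have hv11 := h.Wsq _ hm.1 hm.2.1 v₁ hv₁
    -- `g` commutes with `c`
    have hgc : g * (w₀ * v₀ * w₀ * v₀) * g⁻¹ = w₀ * v₀ * w₀ * v₀ := by
      calc g * (w₀ * v₀ * w₀ * v₀) * g⁻¹ = (g * w₀) * g⁻¹ * (g * v₀ * g⁻¹) * ((g * w₀) * g⁻¹) * (g * v₀ * g⁻¹) := by
            group
        _ = w₀ * (v₀ * v₁) * w₀ * (v₀ * v₁) := by rw [hgv, hgw]; group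
        _ = w₀ * v₀ * w₀ * v₀ * (v₁ * v₁) := by
            simp only [mul_assoc, hv01, ra hv01, hw01, ra hw01]
        _ = _ := by rw [hv11, mul_one]
    rw [hc0] at hgc
    have hgx : g * x = x * g := h.X0 d hd p hp (by omega) g hg x hx
    have hge : g * e = e * g := h.X0 d hd _ hl (by rw [← hsum, R.add_right, hds, hds']; norm_num) g hg e he
    have hgy : g * y = y * g := by
      have h3 : g * (x * y * e) * g⁻¹ = x * (g * y * g⁻¹) * e := by
        calc g * (x * y * e) * g⁻¹ = (g * x) * y * e * g⁻¹ := by group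
          _ = x * (g * y * g⁻¹) * ((g * e) * g⁻¹) := by rw [hgx]; group
          _ = _ := by rw [hge]; group
      rw [h3] at hgc
      have h4 := mul_right_cancel hgc
      exact mul_inv_eq_iff_eq_mul.1 (mul_left_cancel h4)
    rcases h.X1nd d hd p' hp' (by omega) (by omega) (R.ne_neg (by omega)) g hg y hy hgy with h3 | h3
    · exact absurd h3 hg1
    · exact h3
  have hy1 : y = 1 := kill s hs s' hs' hss hss' h1 rfl w hw v hv x hx y hy e he hcc
  have hx1 : x = 1 := by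
    apply kill s' hs' s hs hss' hss h1' (add_comm _ _) v hv w hw y hy x hx e he
    have h2 : v * w * v * w = c⁻¹ := by
      rw [hcd, mul_inv_rev, mul_inv_rev, mul_inv_rev, hwi, hvi]
      simp only [mul_assoc]
    rw [h2, hcc, mul_inv_rev, mul_inv_rev, inv_of_sq ee, inv_of_sq xx, inv_of_sq yy]
    simp only [mul_assoc, ← xy, ra xy.symm, ← xe, ra xe.symm, ← ye, ra ye.symm]
  have hce : c = e := by rw [hcc, hx1, hy1, one_mul, one_mul]
  rw [hce]
  exact he

end PatA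

end Cfsg.Agent.OddHalf.D7F4

end

-- merged: Cfsg.Agent.OddHalf.D7F4.PatA3
section

/-!
# K = F4(q): the pattern "short roots moved, long roots not moved", relations at 135° and 120° (S1765, node D7)
-/

set_option autoImplicit false
set_option linter.unusedSimpArgs false

namespace Cfsg.Agent.OddHalf.D7F4

namespace PatA

variable {L G : Type*} [AddCommGroup L] [Group G]
variable {t : G} {B : L → L → ℤ} {Φ : Set L} {X W : L → Subgroup G}

/-- `w` commutes with `x⁻¹ (X c) x` for `c` in the cone of `s`, `r + s` -/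
theorem YD' (h : PatA t B Φ X W) {r s c : L} (hr : r ∈ Φ) (hs : s ∈ Φ) (hc : c ∈ Φ) (hrr : B r r = 4)
    (hss : B s s = 2) (h1 : B r s = -2)
    (hY : B c c = 4 ∧ 0 ≤ B c s ∧ 0 ≤ B c (r + s) ∨ B c c = 2 ∧ 0 < B c s ∧ 0 < B c (r + s))
    {x y w : G} (hx : x ∈ X r) (hy : y ∈ X c) (hw : w ∈ W s) : w * (x⁻¹ * y * x) = x⁻¹ * y * x * w := by
  have R := h.roots
  have hcr : B c (r + s) = B c r + B c s := R.add_right _ _ _
  have hcs' : B c c = 4 ∧ 0 ≤ B c s ∨ B c c = 2 ∧ 0 < B c s := by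
    rcases hY with ⟨h2, h3, -⟩ | ⟨h2, h3, -⟩
    · exact Or.inl ⟨h2, h3⟩
    · exact Or.inr ⟨h2, h3⟩
  have hwy : w * y = y * w := h.WX s hs hss c hc hcs' w hw y hy
  by_cases h0 : 0 ≤ B c r
  · have hyx : y * x = x * y := h.X0 c hc r hr h0 y hy x hx
    have : x⁻¹ * y * x = y := by rw [mul_assoc, hyx, inv_mul_cancel_left]
    rw [this]; exact hwy
  · rw [not_le] at h0
    rcases hY with ⟨h2, h3, h4⟩ | ⟨h2, h3, h4⟩
    · -- `c` long
      have h5 := R.ll c hc r hr h2 hrr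
      have h6 := R.ls c hc s hs h2 hss
      have h7 : B c r = -2 := by omega
      have h8 : B c s = 2 := by omega
      have hne : c ≠ -r := R.ne_neg (by omega)
      have hm := R.add c hc r hr h0 hne
      have hn : B (c + r) (c + r) = 4 := by rw [R.norm_add, h2, hrr, h7]; norm_num
      have he := h.X1 c hc r hr (by omega) h0 hne y hy x⁻¹ (inv_mem hx)
      have hz := h.WX s hs hss _ hm (Or.inl ⟨hn, by rw [R.add_left]; omega⟩) w hw _ he
      set z := y * x⁻¹ * y⁻¹ * x⁻¹⁻¹ with hzd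
      have he' : x⁻¹ * y * x = z⁻¹ * y := by
        rw [hzd]; group
      rw [he']
      have hzw : Commute w z := hz
      exact (Commute.mul_right hzw.inv_right hwy : Commute w (z⁻¹ * y))
    · -- `c` short
      exfalso
      have h5 := R.ls r hr c hc hrr h2
      rw [R.symm r c] at h5
      have h6 := R.ss c hc s hs h2 hss
      omega

/-- **135°**: `[X r, W s] ≤ W (r + s) X (r + 2 s)` -/
theorem X135 (h : PatA t B Φ X W) (h6 : Sixty B Φ W) {r s : L} (hr : r ∈ Φ) (hs : s ∈ Φ) (hrr : B r r = 4)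
    (hss : B s s = 2) (h1 : B r s = -2) {x w : G} (hx : x ∈ X r) (hw : w ∈ W s) :
    ∃ w' ∈ W (r + s), ∃ z ∈ X (r + s + s), x * w * x⁻¹ = w * w' * z := by
  have R := h.roots
  obtain ⟨hm, hmm, hms, hl, hll⟩ := R.add_ls hr hs hrr hss h1
  have hrm : B r (r + s) = 2 := by rw [R.add_right, hrr, h1]; norm_num
  have hrl : B r (r + s + s) = 0 := by rw [R.add_right, hrm, h1]; norm_num
  have hls : B (r + s + s) s = 2 := by rw [R.add_left, hms, hss]; norm_num
  have hlm : B (r + s + s) (r + s) = 2 := by rw [R.add_left, hmm, R.symm s, hms]; norm_num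
  have hsm : B s (r + s) = 0 := by rw [R.symm]; exact hms
  have emm : s + (r + s) = r + s + s := by abel
  generalize hme : r + s = m at *
  generalize hle : m + s = l at *
  obtain ⟨a, ha, hta, haw, himpa⟩ := h.dat hs hss hw
  obtain ⟨z1, hz1, l1, hl1, hxa⟩ := h.X2 r hr s hs hrr hss h1 x hx a ha
  rw [hme] at hz1 hl1
  rw [hle] at hl1
  -- elements of `X l` commute with everything
  have zw : ∀ z ∈ X l, ∀ v ∈ W s, z * v = v * z := fun z hz v hv =>
    (h.WX s hs hss _ hl (Or.inl ⟨hll, by omega⟩) v hv z hz).symm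
  have zw' : ∀ z ∈ X l, ∀ v ∈ W m, z * v = v * z := fun z hz v hv =>
    (h.WX m hm hmm _ hl (Or.inl ⟨hll, by omega⟩) v hv z hz).symm
  have zx : ∀ z ∈ X l, z * x = x * z := fun z hz => h.X0 _ hl r hr (by rw [R.symm, hrl]) z hz x hx
  have zz : ∀ z ∈ X l, ∀ z' ∈ X l, z * z' = z' * z := fun z hz z' hz' => h.X0 _ hl _ hl (by omega) z hz z' hz'
  have Xs_W : ∀ x ∈ X s, x ∈ W s := fun x hx => h.XW s hs hss hx
  have Xm_W : ∀ x ∈ X m, x ∈ W m := fun x hx => h.XW m hm hmm hx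
  have sm : ∀ y ∈ X s, ∀ z ∈ X m, y * z = z * y := fun y hy z hz => h.X0 s hs m hm (by omega) y hy z hz
  by_cases ha1 : a = 1
  · have hwx : w ∈ X s := himpa ha1
    obtain ⟨z2, hz2, l2, hl2, he⟩ := h.X2 r hr s hs hrr hss h1 x hx w hwx
    rw [hme] at hz2 hl2
    rw [hle] at hl2
    refine ⟨z2, Xm_W z2 hz2, l2, hl2, ?_⟩
    have e1 : x * w * x⁻¹ = (x * w * x⁻¹ * w⁻¹) * w := by group
    rw [e1, he, mul_assoc, zw l2 hl2 w hw, ← mul_assoc, ← sm w hwx z2 hz2]
  by_cases hx1 : x = 1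
  · exact ⟨1, one_mem _, 1, one_mem _, by rw [hx1]; group⟩
  obtain ⟨w', hw', htw'⟩ := h.surj m hm hmm z1 hz1
  have htw : t * w' * t = w' * z1 := by rw [← htw', mul_inv_cancel_left]
  -- commutators
  have hq := h.WX0 m hm hmm s hs hss hsm w'⁻¹ (inv_mem hw') a ha
  rw [hle] at hq
  set q := w'⁻¹ * a * w'⁻¹⁻¹ * a⁻¹ with hqd
  have e1 : w⁻¹ * t * w = a * t := h.inv_conj hta
  have e2 : w'⁻¹ * t * w' = z1 * t := h.inv_conj htw
  have hxt : t * x = x * t := h.tX r hr x hx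
  have hxt' : x⁻¹ * t = t * x⁻¹ := by
    rw [inv_mul_eq_iff_eq_mul, ← mul_assoc, ← hxt, mul_inv_cancel_right]
  set k := x * w * x⁻¹ * (w * w')⁻¹ with hk
  have e3 : (x * w * x⁻¹)⁻¹ * t * (x * w * x⁻¹) = z1 * l1 * a * t := by
    calc (x * w * x⁻¹)⁻¹ * t * (x * w * x⁻¹) = x * w⁻¹ * (x⁻¹ * t) * (x * w * x⁻¹) := by group
      _ = x * (w⁻¹ * t * w) * x⁻¹ := by rw [hxt']; group
      _ = x * (a * t) * x⁻¹ := by rw [e1]
      _ = x * a * x⁻¹ * t := by rw [mul_assoc x (a * t), mul_assoc a t, ← hxt']; group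
      _ = (x * a * x⁻¹ * a⁻¹) * a * t := by group
      _ = _ := by rw [hxa]
  have e4 : (w * w')⁻¹ * t * (w * w') = q * a * z1 * t := by
    calc (w * w')⁻¹ * t * (w * w') = w'⁻¹ * (w⁻¹ * t * w) * w' := by group
      _ = w'⁻¹ * (a * t) * w' := by rw [e1]
      _ = (w'⁻¹ * a * w'⁻¹⁻¹ * a⁻¹) * a * (w'⁻¹ * t * w') := by group
      _ = q * a * (z1 * t) := by rw [e2]
      _ = _ := by group
  have zaz : z1 * a = a * z1 := (sm a ha z1 hz1).symm
  have laz : l1 * a = a * l1 := zw l1 hl1 a (Xs_W a ha)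
  have qaz : q * a = a * q := zw q hq a (Xs_W a ha)
  have qz1 : q * z1 = z1 * q := zw' q hq z1 (Xm_W z1 hz1)
  have l1z1 : l1 * z1 = z1 * l1 := zw' l1 hl1 z1 (Xm_W z1 hz1)
  have tl1 := h.tX _ hl l1 hl1
  have tq := h.tX _ hl q hq
  have hlq : l1 * q⁻¹ ∈ X l := mul_mem hl1 (inv_mem hq)
  have e5 : k⁻¹ * t * k = t * (l1 * q⁻¹) := by
    have e6 : z1 * l1 * a * t = q * a * z1 * t * (l1 * q⁻¹) := by
      have h2 : t * (l1 * q⁻¹) = (l1 * q⁻¹) * t := h.tX _ hl _ hlq
      have h3 : Commute (l1 * q⁻¹) q := by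
        exact (Commute.mul_left (zz l1 hl1 q hq) (Commute.refl q).inv_left)
      calc z1 * l1 * a * t = z1 * (l1 * a) * t := by group
        _ = (z1 * a) * l1 * t := by rw [laz]; group
        _ = (a * z1) * l1 * t := by rw [zaz]
        _ = a * z1 * q * (q⁻¹ * l1) * t := by group
        _ = a * (z1 * q) * (l1 * q⁻¹) * t := by rw [zz q⁻¹ (inv_mem hq) l1 hl1]; group
        _ = (a * q) * z1 * ((l1 * q⁻¹) * t) := by rw [← qz1]; group
        _ = _ := by rw [← qaz, ← h2]; group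
    have hwwl : (w * w') * (l1 * q⁻¹) * (w * w')⁻¹ = l1 * q⁻¹ := by
      have h2 : Commute (w * w') (l1 * q⁻¹) :=
        Commute.mul_left (zw _ hlq w hw).symm (zw' _ hlq w' hw').symm
      rw [h2.eq, mul_inv_cancel_right]
    calc k⁻¹ * t * k = (w * w') * ((x * w * x⁻¹)⁻¹ * t * (x * w * x⁻¹)) * (w * w')⁻¹ := by rw [hk]; group
      _ = (w * w') * ((w * w')⁻¹ * t * (w * w') * (l1 * q⁻¹)) * (w * w')⁻¹ := by rw [e3, e4, e6]
      _ = t * ((w * w') * (l1 * q⁻¹) * (w * w')⁻¹) := by group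
      _ = t * (l1 * q⁻¹) := by rw [hwwl]
  have hlq1 : l1 * q⁻¹ = 1 := h.NM _ hl hll _ hlq k e5
  rw [hlq1, mul_one] at e5
  have hkt : k * t = t * k := by
    calc k * t = k * (k⁻¹ * t * k) := by rw [e5]
      _ = t * k := by group
  have hY : ∀ c ∈ Φ, (B c c = 4 ∧ 0 ≤ B c s ∧ 0 ≤ B c m ∨ B c c = 2 ∧ 0 < B c s ∧ 0 < B c m) →
      ∀ y ∈ X c, k * y = y * k := by
    intro c hc hY y hy
    have h2 := h.YD' hr hs hc hrr hss h1 (by rw [hme]; exact hY) hx hy hw
    have h3 : w' * y = y * w' := h.WX m hm hmm c hc (by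
      rcases hY with ⟨h4, -, h5⟩ | ⟨h4, -, h5⟩
      · exact Or.inl ⟨h4, h5⟩
      · exact Or.inr ⟨h4, h5⟩) w' hw' y hy
    have h4 : w * y = y * w := h.WX s hs hss c hc (by
      rcases hY with ⟨h4, h5, -⟩ | ⟨h4, h5, -⟩
      · exact Or.inl ⟨h4, h5⟩
      · exact Or.inr ⟨h4, h5⟩) w hw y hy
    have h5 : Commute (x * w * x⁻¹) y := by
      show x * w * x⁻¹ * y = y * (x * w * x⁻¹)
      calc x * w * x⁻¹ * y = x * (w * (x⁻¹ * y * x)) * x⁻¹ := by group
        _ = y * (x * w * x⁻¹) := by rw [h2]; group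
    have h6 : Commute (w * w') y := Commute.mul_left h4 h3
    exact Commute.mul_left h5 h6.inv_left
  obtain ⟨e₀, he₀, e₁, he₁, e₂, he₂, hkk⟩ := h.K2 s hs m hm hss hmm (by omega) (by omega) k hkt hY
  have he₂ : e₂ ∈ X l := by
    rcases he₂ with ⟨h2, -⟩ | ⟨-, h2⟩
    · omega
    · rwa [emm] at h2
  have hww := h.Wsq s hs hss w hw
  have hww' := h.Wsq m hm hmm w' hw'
  have hAA : (x * w * x⁻¹) * (x * w * x⁻¹) = 1 := by
    calc (x * w * x⁻¹) * (x * w * x⁻¹) = x * (w * w) * x⁻¹ := by group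
      _ = 1 := by rw [hww]; group
  have hA : x * w * x⁻¹ = k * (w * w') := by rw [hk]; group
  have e0e0 := h.Xsq s hs e₀ he₀
  have e1e1 := h.Xsq m hm e₁ he₁
  have e2e2 := h.Xsq l hl e₂ he₂
  -- `w w'` acts on `X s X m X l` trivially modulo `X l`
  have hBf : ∀ f₀ ∈ X s, ∀ f₁ ∈ X m, ∀ f₂ ∈ X l, ∃ p ∈ X l, (w * w') * (f₀ * f₁ * f₂) = f₀ * f₁ * f₂ * p * (w * w') := by
    intro f₀ hf₀ f₁ hf₁ f₂ hf₂
    have h2 := h.WX0 m hm hmm s hs hss hsm w' hw' f₀ hf₀
    rw [hle] at h2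
    have h3 := h.WX0 s hs hss m hm hmm hms w hw f₁ hf₁
    rw [emm] at h3
    set p₁ := w' * f₀ * w'⁻¹ * f₀⁻¹ with hp₁
    set p₂ := w * f₁ * w⁻¹ * f₁⁻¹ with hp₂
    refine ⟨p₁ * p₂, mul_mem h2 h3, ?_⟩
    have g1 : w' * f₀ = p₁ * (f₀ * w') := by rw [hp₁]; group
    have g2 : w * f₁ = p₂ * (f₁ * w) := by rw [hp₂]; group
    have g3 : w * f₀ = f₀ * w := h.Wab hs hss hw (Xs_W f₀ hf₀)
    have g4 : w' * f₁ = f₁ * w' := h.Wab hm hmm hw' (Xm_W f₁ hf₁)
    have g5 : w * f₂ = f₂ * w := (zw f₂ hf₂ w hw).symm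
    have g6 : w' * f₂ = f₂ * w' := (zw' f₂ hf₂ w' hw').symm
    have g7 : w * p₁ = p₁ * w := (zw p₁ h2 w hw).symm
    have g8 : f₀ * p₂ = p₂ * f₀ := (zw p₂ h3 f₀ (Xs_W f₀ hf₀)).symm
    have g9 : f₀ * p₁ = p₁ * f₀ := (zw p₁ h2 f₀ (Xs_W f₀ hf₀)).symm
    have g10 : f₁ * p₂ = p₂ * f₁ := (zw' p₂ h3 f₁ (Xm_W f₁ hf₁)).symm
    have g11 : f₁ * p₁ = p₁ * f₁ := (zw' p₁ h2 f₁ (Xm_W f₁ hf₁)).symm
    have g12 : f₂ * p₁ = p₁ * f₂ := zz f₂ hf₂ p₁ h2
    have g13 : f₂ * p₂ = p₂ * f₂ := zz f₂ hf₂ p₂ h3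
    simp only [mul_assoc, g1, ra g1, g2, ra g2, g3, ra g3, g4, ra g4, g5, ra g5, g6, ra g6, g7, ra g7, g8, ra g8,
      g9, ra g9, g10, ra g10, g11, ra g11, g12, ra g12, g13, ra g13]
  have hpc : w * w' * (w * w') ∈ X l := by
    have h2 := h.ninety h6 hs hm hss hmm (by omega) hw hw'
    rw [emm, inv_of_sq hww, inv_of_sq hww'] at h2
    rwa [mul_assoc (w * w') w w'] at h2
  have tB : t * (w * w') * t = (w * w') * (q * a * z1) := by
    calc t * (w * w') * t = (w * w') * ((w * w')⁻¹ * t * (w * w')) * t := by group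
      _ = (w * w') * (q * a * z1) * (t * t) := by rw [e4]; group
      _ = _ := by rw [h.tt, mul_one]
  have hx0 : ∀ y ∈ X s, ∀ z ∈ X s, y * z = z * y := fun y hy z hz => h.Wab hs hss (Xs_W y hy) (Xs_W z hz)
  have hx1' : ∀ y ∈ X m, ∀ z ∈ X m, y * z = z * y := fun y hy z hz => h.Wab hm hmm (Xm_W y hy) (Xm_W z hz)
  rcases hkk with hkk | hkk
  swap
  · -- `τ = t`
    exfalso
    obtain ⟨p, hp, hBp⟩ := hBf (a * e₀) (mul_mem ha he₀) (z1 * e₁) (mul_mem hz1 he₁) (q * e₂) (mul_mem hq he₂)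
    rw [hA, hkk] at hAA
    have te : Commute t (e₀ * e₁ * e₂) :=
      Commute.mul_right (Commute.mul_right (h.tX s hs e₀ he₀) (h.tX m hm e₁ he₁)) (h.tX l hl e₂ he₂)
    have e7 : q * a * z1 * (e₀ * e₁ * e₂) = (a * e₀) * (z1 * e₁) * (q * e₂) := by
      have g1 : q * e₀ = e₀ * q := zw q hq e₀ (Xs_W e₀ he₀)
      have g2 : z1 * e₀ = e₀ * z1 := (sm e₀ he₀ z1 hz1).symm
      have g3 : q * e₁ = e₁ * q := zw' q hq e₁ (Xm_W e₁ he₁)
      simp only [mul_assoc, qaz, ra qaz, qz1, ra qz1, g1, ra g1, g2, ra g2, g3, ra g3]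
    -- `A² = e (E₁ e) p B²`
    have e8 : t * (e₀ * e₁ * e₂) * (w * w') * (t * (e₀ * e₁ * e₂) * (w * w')) =
        (e₀ * e₁ * e₂) * ((a * e₀) * (z1 * e₁) * (q * e₂) * p) * (w * w' * (w * w')) := by
      calc t * (e₀ * e₁ * e₂) * (w * w') * (t * (e₀ * e₁ * e₂) * (w * w'))
          = (t * (e₀ * e₁ * e₂)) * (w * w') * t * (e₀ * e₁ * e₂) * (w * w') := by group
        _ = ((e₀ * e₁ * e₂) * t) * (w * w') * t * (e₀ * e₁ * e₂) * (w * w') := by rw [te.eq]
        _ = (e₀ * e₁ * e₂) * (t * (w * w') * t) * (e₀ * e₁ * e₂) * (w * w') := by group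
        _ = (e₀ * e₁ * e₂) * ((w * w') * (q * a * z1 * (e₀ * e₁ * e₂))) * (w * w') := by rw [tB]; group
        _ = (e₀ * e₁ * e₂) * ((a * e₀) * (z1 * e₁) * (q * e₂) * p * (w * w')) * (w * w') := by rw [e7, hBp]
        _ = _ := by group
    rw [e8] at hAA
    have e9 : a * z1 * (q * (p * (w * w' * (w * w')))) = 1 := by
      rw [← hAA]
      set pB := w * w' * (w * w') with hpB
      have g1 : e₀ * a = a * e₀ := hx0 e₀ he₀ a ha
      have g2 : e₀ * z1 = z1 * e₀ := sm e₀ he₀ z1 hz1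
      have g3 : e₁ * a = a * e₁ := (sm a ha e₁ he₁).symm
      have g4 : e₁ * z1 = z1 * e₁ := hx1' e₁ he₁ z1 hz1
      have g5 : e₁ * e₀ = e₀ * e₁ := (sm e₀ he₀ e₁ he₁).symm
      have g6 : e₂ * a = a * e₂ := zw e₂ he₂ a (Xs_W a ha)
      have g7 : e₂ * z1 = z1 * e₂ := zw' e₂ he₂ z1 (Xm_W z1 hz1)
      have g8 : e₂ * e₀ = e₀ * e₂ := zw e₂ he₂ e₀ (Xs_W e₀ he₀)
      have g9 : e₂ * e₁ = e₁ * e₂ := zw' e₂ he₂ e₁ (Xm_W e₁ he₁)
      have g10 : e₂ * q = q * e₂ := zz e₂ he₂ q hq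
      simp only [mul_assoc, g1, ra g1, g2, ra g2, g3, ra g3, g4, ra g4, g5, ra g5, g6, ra g6, g7, ra g7, g8, ra g8,
        g9, ra g9, g10, ra g10, e0e0, ra e0e0, e1e1, ra e1e1, e2e2, ra e2e2, one_mul]
    apply ha1
    apply h.ind3 s hs m hm hss hmm (by omega) a ha z1 hz1 (q * (p * (w * w' * (w * w')))) _ e9
    rw [emm]
    exact mul_mem hq (mul_mem hp hpc)
  -- `τ = 1`
  have hxm : x * e₁ = e₁ * x := h.X0 r hr m hm (by omega) x hx e₁ he₁
  have hxl : x * e₂ = e₂ * x := (zx e₂ he₂).symm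
  have hxw' : x * w' = w' * x := (h.WX m hm hmm r hr (Or.inl ⟨hrr, by omega⟩) w' hw' x hx).symm
  have hxx := h.Xsq r hr x hx
  have hxi := inv_of_sq hxx
  have cm : ∀ y : G, x * y = y * x → x * y * x⁻¹ = y := fun y hy => by rw [hy, mul_inv_cancel_right]
  have key : x * e₀ * x⁻¹ * e₀ = 1 := by
    have e7 : x * (x * w * x⁻¹) * x⁻¹ = w := by
      rw [hxi]
      calc x * (x * w * x) * x = (x * x) * w * (x * x) := by group
        _ = w := by rw [hxx, one_mul, mul_one]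
    have e8 : x * (x * w * x⁻¹) * x⁻¹ = (x * e₀ * x⁻¹) * e₁ * e₂ * (e₀ * e₁ * e₂ * (w * w')) * w' := by
      calc x * (x * w * x⁻¹) * x⁻¹ = x * (e₀ * e₁ * e₂ * (w * w')) * x⁻¹ := by rw [hA, hkk]
        _ = (x * e₀ * x⁻¹) * (x * e₁ * x⁻¹) * (x * e₂ * x⁻¹) * (x * w * x⁻¹) * (x * w' * x⁻¹) := by group
        _ = _ := by rw [cm e₁ hxm, cm e₂ hxl, cm w' hxw', hA, hkk]
    rw [e7] at e8
    have g5 : e₁ * e₀ = e₀ * e₁ := (sm e₀ he₀ e₁ he₁).symm
    have g8 : e₂ * e₀ = e₀ * e₂ := zw e₂ he₂ e₀ (Xs_W e₀ he₀)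
    have g9 : e₂ * e₁ = e₁ * e₂ := zw' e₂ he₂ e₁ (Xm_W e₁ he₁)
    have e9 : (x * e₀ * x⁻¹) * e₁ * e₂ * (e₀ * e₁ * e₂ * (w * w')) * w' = (x * e₀ * x⁻¹ * e₀) * w := by
      set y := x * e₀ * x⁻¹ with hy
      simp only [mul_assoc, g5, ra g5, g8, ra g8, g9, ra g9, e1e1, ra e1e1, e2e2, ra e2e2, one_mul, hww', mul_one]
    rw [e9] at e8
    exact mul_eq_right.1 e8.symm
  have he1 : e₀ = 1 := by
    have e7 : x * e₀ = e₀ * x := by
      have e8 : x * e₀ * x⁻¹ = e₀ := by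
        rw [eq_inv_of_mul_eq_one_left key]
        exact inv_of_sq e0e0
      exact mul_inv_eq_iff_eq_mul.1 e8
    rcases h.X2nd r hr s hs hrr hss h1 x hx e₀ he₀ e7 with h2 | h2
    · exact absurd h2 hx1
    · exact h2
  rw [he1, one_mul] at hkk
  -- `A = e₁ e₂ w w'`
  have h3 := h.WX0 s hs hss m hm hmm hms w⁻¹ (inv_mem hw) e₁ he₁
  rw [emm] at h3
  set p := w⁻¹ * e₁ * w⁻¹⁻¹ * e₁⁻¹ with hp
  refine ⟨e₁ * w', mul_mem (Xm_W e₁ he₁) hw', p * e₂, mul_mem h3 he₂, ?_⟩
  rw [hA, hkk]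
  have g1 : e₁ * w = w * (p * e₁) := by rw [hp]; group
  have g2 : e₂ * w = w * e₂ := zw e₂ he₂ w hw
  have g3 : e₂ * w' = w' * e₂ := zw' e₂ he₂ w' hw'
  have g4 : p * e₁ = e₁ * p := zw' p h3 e₁ (Xm_W e₁ he₁)
  have g5 : p * w' = w' * p := zw' p h3 w' hw'
  have g6 : e₂ * p = p * e₂ := zz e₂ he₂ p h3
  simp only [mul_assoc, g1, ra g1, g2, ra g2, g3, ra g3, g4, ra g4, g5, ra g5, g6, ra g6]

end PatA

end Cfsg.Agent.OddHalf.D7F4

end

-- merged: Cfsg.Agent.OddHalf.D7F4.PatA4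
section

/-!
# K = F4(q): the pattern "short roots moved, long roots not moved", relation at 120° (S1765, node D7)
-/

set_option autoImplicit false
set_option linter.unusedSimpArgs false

namespace Cfsg.Agent.OddHalf.D7F4

namespace PatA

variable {L G : Type*} [AddCommGroup L] [Group G]
variable {t : G} {B : L → L → ℤ} {Φ : Set L} {X W : L → Subgroup G}

/-- the auxiliary root kills a component -/
theorem kill120 (h : PatA t B Φ X W) (h6 : Sixty B Φ W) {s s' m : L} (hs : s ∈ Φ) (hs' : s' ∈ Φ)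
    (hss : B s s = 2) (hss' : B s' s' = 2) (h1 : B s s' = -1) (hme : s + s' = m) {w v w₁ x y z : G} (hw : w ∈ W s)
    (hv : v ∈ W s') (hw₁ : w₁ ∈ W m) (hx : x ∈ X s) (hy : y ∈ X s') (hz : z ∈ X m)
    (hc : w * v * w * v * w₁ = x * y * z) : x = 1 := by
  have R := h.roots
  obtain ⟨hm, hmm, -⟩ := R.add_ss hs hs' hss hss' h1
  rw [hme] at hm hmm
  obtain ⟨d, hd, hdd, hds, hds'⟩ := h.aux120 s hs s' hs' hss hss' h1
  obtain ⟨g, hg, hg1⟩ := h.Xne d hd
  obtain ⟨hn, hnn, hnne⟩ := R.add_ss hs hd hss hdd (by rw [R.symm]; exact hds)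
  obtain ⟨w₄, hw₄, hgw⟩ := h.X120 h6 hs hd hss hdd hds hg hw
  have hdm : B d m = 0 := by rw [← hme, R.add_right, hds, hds']; norm_num
  have hmd : B m d = 0 := by rw [R.symm]; exact hdm
  have hns' : B (s + d) s' = 0 := by rw [R.add_left, h1, hds']; norm_num
  obtain ⟨hl, hll⟩ := R.add_90 hm hd hmm hdd hmd
  have hle : s + d + s' = m + d := by rw [← hme]; abel
  have hms : B m s = 1 := by rw [← hme, R.add_left, hss, R.symm s', h1]; norm_num
  have hms' : B m s' = 1 := by rw [← hme, R.add_left, hss', h1]; norm_num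
  have hls : B (m + d) s = 0 := by rw [R.add_left, hms, hds]; norm_num
  have hls' : B (m + d) s' = 2 := by rw [R.add_left, hms', hds']; norm_num
  have hlm : B (m + d) m = 2 := by rw [R.add_left, hmm, hdm]; norm_num
  have hln : B (m + d) (s + d) = 2 := by rw [R.add_right, hls, R.add_left, hmd, hdd]; norm_num
  have hz4 := h.ninety h6 hn hs' hnn hss' hns' hw₄ hv
  rw [hle] at hz4
  have hww4 := h.Wsq _ hn hnn w₄ hw₄
  have hvv := h.Wsq s' hs' hss' v hv
  set z₄ := w₄ * v * w₄⁻¹ * v⁻¹ with hz4d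
  have hz5 := h.WX0 m hm hmm d hd hdd hdm w₁ hw₁ g hg
  set z₅ := w₁ * g * w₁⁻¹ * g⁻¹ with hz5d
  -- central elements
  have zw : ∀ z ∈ X (m + d), w * z = z * w := fun z hz => h.WX s hs hss _ hl (Or.inl ⟨hll, by omega⟩) w hw z hz
  have zv : ∀ z ∈ X (m + d), v * z = z * v := fun z hz => h.WX s' hs' hss' _ hl (Or.inl ⟨hll, by omega⟩) v hv z hz
  have zw4 : ∀ z ∈ X (m + d), w₄ * z = z * w₄ := fun z hz => h.WX _ hn hnn _ hl (Or.inl ⟨hll, by omega⟩) w₄ hw₄ z hz
  have zw1 : ∀ z ∈ X (m + d), w₁ * z = z * w₁ := fun z hz => h.WX m hm hmm _ hl (Or.inl ⟨hll, by omega⟩) w₁ hw₁ z hz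
  have hgv : g * v * g⁻¹ = v := by
    have : v * g = g * v := h.WX' hs' hd hss' hdd (by omega) hv hg
    rw [← this, mul_inv_cancel_right]
  have hgw₁ : g * w₁ * g⁻¹ = z₅⁻¹ * w₁ := by rw [hz5d]; group
  have hz5' : z₅⁻¹ ∈ X (m + d) := inv_mem hz5
  have e1 : g * (w * v * w * v * w₁) * g⁻¹ = z₄ * z₅⁻¹ * (w * v * w * v * w₁) := by
    have e2 : g * (w * v * w * v * w₁) * g⁻¹ = (g * w * g⁻¹) * (g * v * g⁻¹) * (g * w * g⁻¹) * (g * v * g⁻¹) *
        (g * w₁ * g⁻¹) := by group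
    rw [e2, hgw, hgv, hgw₁]
    have r1 : w₄ * v = z₄ * (v * w₄) := by rw [hz4d]; group
    have r2 : w₄ * w = w * w₄ := h6 _ hn s hs hnn hss (by rw [R.add_left, hss, hds]; norm_num) w₄ hw₄ w hw
    have r3 := zw z₄ hz4
    have r4 := zv z₄ hz4
    have r5 := zw4 z₄ hz4
    have r7 := zw z₅⁻¹ hz5'
    have r8 := zv z₅⁻¹ hz5'
    have r9 := zw4 z₅⁻¹ hz5'
    have r10 := zw1 z₅⁻¹ hz5'
    have r11 : z₄ * z₄ = 1 := h.Xsq _ hl z₄ hz4
    have r12 : z₅⁻¹ * z₄ = z₄ * z₅⁻¹ := h.X0 _ hl _ hl (by omega) _ hz5' _ hz4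
    simp only [mul_assoc, r1, ra r1, r2, ra r2, r3, ra r3, r4, ra r4, r5, ra r5, r7, ra r7, r8, ra r8, r9, ra r9,
      r10, ra r10, r11, ra r11, r12, ra r12, one_mul, hww4, ra hww4]
  rw [hc] at e1
  have hgx := h.X1 d hd s hs (by omega) (by omega) (R.ne_neg (by omega)) g hg x hx
  rw [add_comm d s] at hgx
  set x₁ := g * x * g⁻¹ * x⁻¹ with hx1d
  have hgy : g * y = y * g := h.X0 d hd s' hs' (by omega) g hg y hy
  have hgz : g * z = z * g := h.X0 d hd m hm (by omega) g hg z hz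
  have e3 : g * (x * y * z) * g⁻¹ = x₁ * (x * y * z) := by
    calc g * (x * y * z) * g⁻¹ = (g * x * g⁻¹) * (g * y) * g⁻¹ * ((g * z) * g⁻¹) := by group
      _ = (g * x * g⁻¹) * y * z := by rw [hgy, hgz]; group
      _ = _ := by rw [hx1d]; group
  rw [e3] at e1
  have e4 : x₁ = z₄ * z₅⁻¹ := mul_right_cancel e1
  have hne : s + d ≠ m + d := by
    intro h0
    rw [h0] at hnn
    omega
  have hx1 : x₁ = 1 := h.ind _ hn _ hl hne x₁ hgx (by rw [e4]; exact mul_mem hz4 hz5')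
  have hgx' : g * x = x * g := by
    rw [hx1d] at hx1
    exact mul_inv_eq_iff_eq_mul.1 (mul_inv_eq_one.1 hx1)
  rcases h.X1nd d hd s hs (by omega) (by omega) (R.ne_neg (by omega)) g hg x hx hgx' with h3 | h3
  · exact absurd h3 hg1
  · exact h3

/-- **120°**: `[W s, W s'] ≤ W (s + s')` -/
theorem W120 (h : PatA t B Φ X W) (h6 : Sixty B Φ W) {s s' : L} (hs : s ∈ Φ) (hs' : s' ∈ Φ) (hss : B s s = 2)
    (hss' : B s' s' = 2) (h1 : B s s' = -1) {w v : G} (hw : w ∈ W s) (hv : v ∈ W s') :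
    w * v * w⁻¹ * v⁻¹ ∈ W (s + s') := by
  have R := h.roots
  obtain ⟨hm, hmm, hne⟩ := R.add_ss hs hs' hss hss' h1
  have h1' : B s' s = -1 := by rw [R.symm]; exact h1
  have hms : B (s + s') s = 1 := by rw [R.add_left, hss, h1']; norm_num
  have hms' : B (s + s') s' = 1 := by rw [R.add_left, hss', h1]; norm_num
  have ems : s' + s = s + s' := add_comm _ _
  obtain ⟨a, ha, hta, haw, himpa⟩ := h.dat hs hss hw
  obtain ⟨b, hb, htb, hbv, himpb⟩ := h.dat hs' hss' hv
  have hww := h.Wsq s hs hss w hw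
  have hvv := h.Wsq s' hs' hss' v hv
  have hwi := inv_of_sq hww
  have hvi := inv_of_sq hvv
  have haa := h.Xsq s hs a ha
  have hbb := h.Xsq s' hs' b hb
  generalize hme : s + s' = m at *
  -- `W m` is central
  have mw : ∀ z ∈ W m, w * z = z * w := fun z hz => (h6 m hm s hs hmm hss hms z hz w hw).symm
  have mv : ∀ z ∈ W m, v * z = z * v := fun z hz => (h6 m hm s' hs' hmm hss' hms' z hz v hv).symm
  have mXs : ∀ z ∈ W m, ∀ x ∈ X s, x * z = z * x := fun z hz x hx =>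
    (h6 m hm s hs hmm hss hms z hz x (h.XW s hs hss hx)).symm
  have mXs' : ∀ z ∈ W m, ∀ x ∈ X s', x * z = z * x := fun z hz x hx =>
    (h6 m hm s' hs' hmm hss' hms' z hz x (h.XW s' hs' hss' hx)).symm
  have mm : ∀ z ∈ W m, ∀ z' ∈ W m, z * z' = z' * z := fun z hz z' hz' => h.Wab hm hmm hz hz'
  by_cases hb1 : b = 1
  · have hvx : v ∈ X s' := himpb hb1
    have h2 := h.X120' h6 hs hs' hss hss' h1' hvx hw
    rw [hme] at h2
    have h3 : w * v * w⁻¹ * v⁻¹ = (v * w * v⁻¹ * w⁻¹)⁻¹ := by group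
    rw [h3]; exact inv_mem h2
  rw [hwi, hvi]
  -- commutators
  have hr1 := h.X120' h6 hs' hs hss' hss h1 ha hv
  rw [ems] at hr1
  have hr2 := h.X120' h6 hs hs' hss hss' h1' hb hw
  rw [hme] at hr2
  have hr3' := h.X1 s hs s' hs' (by omega) (by omega) hne a ha b hb
  rw [hme] at hr3'
  have hr3 := h.XW m hm hmm hr3'
  set r1 := a * v * a⁻¹ * v⁻¹ with hr1d
  set r2 := b * w * b⁻¹ * w⁻¹ with hr2d
  set r3 := a * b * a⁻¹ * b⁻¹ with hr3d
  have va : v * a = r1⁻¹ * (a * v) := by rw [hr1d]; group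
  have wb : w * b = r2⁻¹ * (b * w) := by rw [hr2d]; group
  have ba : b * a = r3⁻¹ * (a * b) := by rw [hr3d]; group
  have hr1i : r1⁻¹ ∈ W m := inv_mem hr1
  have hr2i : r2⁻¹ ∈ W m := inv_mem hr2
  have hr3i : r3⁻¹ ∈ W m := inv_mem hr3
  set ρ₁ := r1⁻¹
  set ρ₂ := r2⁻¹
  set ρ₃ := r3⁻¹
  obtain ⟨ρ, hρ, e1⟩ : ∃ ρ ∈ W m, t * (w * v * w * v) * t = ρ * (w * v * w * v) := by
    have e2 : t * (w * v * w * v) * t = (t * w * t) * (t * t)⁻¹ * (t * v * t) * (t * t)⁻¹ * (t * w * t) *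
        (t * t)⁻¹ * (t * v * t) := by group
    rw [e2, h.tt, inv_one, mul_one, mul_one, mul_one, hta, htb]
    have wa : w * a = a * w := haw.symm
    have vb : v * b = b * v := hbv.symm
    have p1 := mw ρ₁ hr1i
    have p2 := mw ρ₂ hr2i
    have p3 := mw ρ₃ hr3i
    have p4 := mv ρ₁ hr1i
    have p5 := mv ρ₂ hr2i
    have p6 := mv ρ₃ hr3i
    have p7 := mXs ρ₁ hr1i a ha
    have p8 := mXs ρ₂ hr2i a ha
    have p9 := mXs ρ₃ hr3i a ha
    have p10 := mXs' ρ₁ hr1i b hb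
    have p11 := mXs' ρ₂ hr2i b hb
    have p12 := mXs' ρ₃ hr3i b hb
    have q1 := h.Wsq m hm hmm ρ₁ hr1i
    have q2 := h.Wsq m hm hmm ρ₂ hr2i
    have q3 := h.Wsq m hm hmm ρ₃ hr3i
    have q4 : ρ₂ * ρ₁ = ρ₁ * ρ₂ := mm _ hr2i _ hr1i
    have q5 : ρ₃ * ρ₁ = ρ₁ * ρ₃ := mm _ hr3i _ hr1i
    have q6 : ρ₃ * ρ₂ = ρ₂ * ρ₃ := mm _ hr3i _ hr2i
    refine ⟨ρ₁ * (ρ₂ * ρ₃), mul_mem hr1i (mul_mem hr2i hr3i), ?_⟩
    simp only [mul_assoc]
    simp only [va, ra va, wb, ra wb, ba, ra ba, wa, ra wa, vb, ra vb, p1, ra p1, p2, ra p2, p3, ra p3, p4, ra p4,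
      p5, ra p5, p6, ra p6, p7, ra p7, p8, ra p8, p9, ra p9, p10, ra p10, p11, ra p11, p12, ra p12, haa, ra haa,
      hbb, ra hbb, one_mul, q1, ra q1, q2, ra q2, q3, ra q3, q4, ra q4, q5, ra q5, q6, ra q6, mul_assoc]
  have hρρ := h.Wsq m hm hmm ρ hρ
  set c := w * v * w * v with hcd
  have hρc : c * ρ = ρ * c :=
    (Commute.mul_left (Commute.mul_left (Commute.mul_left (mw ρ hρ) (mv ρ hρ)) (mw ρ hρ)) (mv ρ hρ) : Commute c ρ)
  -- `ρ ∈ X m`
  have hρX : ρ ∈ X m := by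
    apply h.cent m hm hmm ρ hρ
    have e2 : t * (t * c * t) * t = c := by
      calc t * (t * c * t) * t = (t * t) * c * (t * t) := by group
        _ = c := by rw [h.tt, one_mul, mul_one]
    have e3 : t * (t * c * t) * t = (t * ρ * t) * (ρ * c) := by
      calc t * (t * c * t) * t = t * (ρ * c) * t := by rw [e1]
        _ = (t * ρ * t) * (t * t)⁻¹ * (t * c * t) := by group
        _ = _ := by rw [h.tt, e1, inv_one, mul_one]
    rw [e2, ← mul_assoc] at e3
    have e4 : t * ρ * t * ρ = 1 := mul_eq_right.1 e3.symm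
    have e5 : t * ρ * t = ρ := by
      rw [eq_inv_of_mul_eq_one_left e4, inv_of_sq hρρ]
    calc t * ρ = t * ρ * (t * t) := by rw [h.tt, mul_one]
      _ = (t * ρ * t) * t := by group
      _ = ρ * t := by rw [e5]
  obtain ⟨w₁, hw₁, hw₁'⟩ := h.surj m hm hmm ρ hρX
  have htw₁ : t * w₁ * t = w₁ * ρ := by rw [← hw₁', mul_inv_cancel_left]
  have hcw₁ : c * w₁ = w₁ * c := by
    have h2 : Commute c w₁ :=
      Commute.mul_left (Commute.mul_left (Commute.mul_left (mw _ hw₁) (mv _ hw₁)) (mw _ hw₁)) (mv _ hw₁)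
    exact h2
  have hw₁w₁ := h.Wsq m hm hmm w₁ hw₁
  have hw₁i := inv_of_sq hw₁w₁
  set f := c * w₁ with hf
  have hft : f * t = t * f := by
    have e2 : t * f * t = f := by
      calc t * f * t = (t * c * t) * (t * t)⁻¹ * (t * w₁ * t) := by rw [hf]; group
        _ = ρ * c * (w₁ * ρ) := by rw [h.tt, e1, htw₁]; group
        _ = ρ * (c * w₁ * ρ) := by group
        _ = ρ * (ρ * (c * w₁)) := by
            have h2 : Commute (c * w₁) ρ := Commute.mul_left hρc (mm w₁ hw₁ ρ hρ)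
            rw [h2.eq]
        _ = (ρ * ρ) * (c * w₁) := by group
        _ = f := by rw [hρρ, one_mul]
    calc f * t = t * f * t * t := by rw [e2]
      _ = t * f * (t * t) := by group
      _ = t * f := by rw [h.tt, mul_one]
  have hYf : ∀ a ∈ Φ, (B a a = 4 ∧ 0 ≤ B a s ∧ 0 ≤ B a s' ∨ B a a = 2 ∧ 0 < B a s ∧ 0 < B a s') →
      ∀ x ∈ X a, f * x = x * f := by
    intro e he hY x hx
    have h3 : Commute v x := h.WX s' hs' hss' e he (by
      rcases hY with ⟨h4, -, h5⟩ | ⟨h4, -, h5⟩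
      · exact Or.inl ⟨h4, h5⟩
      · exact Or.inr ⟨h4, h5⟩) v hv x hx
    have h4 : Commute w x := h.WX s hs hss e he (by
      rcases hY with ⟨h4, h5, -⟩ | ⟨h4, h5, -⟩
      · exact Or.inl ⟨h4, h5⟩
      · exact Or.inr ⟨h4, h5⟩) w hw x hx
    have h5 : Commute w₁ x := h.WX m hm hmm e he (by
      rcases hY with ⟨h4, h5, h6⟩ | ⟨h4, h5, h6⟩
      · exact Or.inl ⟨h4, by rw [← hme, R.add_right]; omega⟩
      · exact Or.inr ⟨h4, by rw [← hme, R.add_right]; omega⟩) w₁ hw₁ x hx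
    exact Commute.mul_left (Commute.mul_left (Commute.mul_left (Commute.mul_left h4 h3) h4) h3) h5
  obtain ⟨x, hx, y, hy, z, hz, hff⟩ := h.K2 s hs s' hs' hss hss' (by omega) (by omega) f hft hYf
  have hz : z ∈ X m := by
    rcases hz with ⟨h2, -⟩ | ⟨-, h2⟩
    · omega
    · rwa [hme] at h2
  have hzW := h.XW m hm hmm hz
  -- `v f v = f⁻¹`
  have hci : c⁻¹ = v * c * v := by
    rw [hcd, mul_inv_rev, mul_inv_rev, mul_inv_rev, hwi, hvi]
    simp only [mul_assoc, hvv, mul_one]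
  have hvf : v * f * v = f⁻¹ := by
    have h2 := mv w₁ hw₁
    calc v * f * v = v * c * (w₁ * v) := by rw [hf]; group
      _ = (v * c * v) * w₁ := by rw [← h2]; group
      _ = c⁻¹ * w₁⁻¹ := by rw [← hci, hw₁i]
      _ = (w₁ * c)⁻¹ := by group
      _ = f⁻¹ := by rw [← hcw₁]
  have hcf : c = f * w₁ := by rw [hf, mul_assoc, hw₁w₁, mul_one]
  have hyx := h.X1 s' hs' s hs (by omega) (by omega) (R.ne_neg (by omega)) y hy x hx
  rw [ems] at hyx
  rcases hff with hff | hff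
  swap
  · -- `τ = t`
    exfalso
    have xx := h.Xsq s hs x hx
    have yy := h.Xsq s' hs' y hy
    have zz := h.Xsq m hm z hz
    have xt := h.tX s hs x hx
    have yt := h.tX s' hs' y hy
    have zt := h.tX m hm z hz
    have hvx := h.X120' h6 hs' hs hss' hss h1 hx hv
    rw [ems] at hvx
    set r' := x * v * x⁻¹ * v⁻¹ with hr'
    have vx : v * x = r'⁻¹ * (x * v) := by rw [hr']; group
    have vy : v * y = y * v := h.Wab hs' hss' hv (h.XW s' hs' hss' hy)
    have vz : v * z = z * v := mv z hzW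
    have hr'i : r'⁻¹ ∈ W m := inv_mem hvx
    have xz : x * z = z * x := mXs z hzW x hx
    have yz : y * z = z * y := mXs' z hzW y hy
    have h2 : v * f * v = t * (b * r'⁻¹ * (x * y * z)) := by
      have vt : v * t = t * (v * b) := by
        rw [← htb]
        simp only [mul_assoc, h.tt, mul_one, ra h.tt, one_mul]
      have vb : v * b = b * v := hbv.symm
      have pv := mv _ hr'i
      rw [hff]
      simp only [mul_assoc, vt, ra vt, vb, ra vb, vx, ra vx, vy, ra vy, vz, ra vz, hvv, ra hvv, mul_one, pv, ra pv]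
    have h3 : f⁻¹ = t * (y * x * z) := by
      rw [hff, mul_inv_rev, mul_inv_rev, mul_inv_rev, inv_of_sq zz, inv_of_sq xx, inv_of_sq yy, inv_of_sq h.tt]
      simp only [mul_assoc, ← xt, ra xt.symm, ← yt, ra yt.symm, ← zt, ra zt.symm, xz, ra xz, yz, ra yz]
    rw [hvf, h3] at h2
    have h4 := mul_left_cancel h2
    -- `y x = [y, x] x y`
    have h5 : b = (y * x * y⁻¹ * x⁻¹) * r' := by
      have h6 : y * x = b * r'⁻¹ * (x * y) := by
        have : y * x * z = b * r'⁻¹ * (x * y) * z := by rw [h4]; group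
        exact mul_right_cancel this
      have h7 : y * x * y⁻¹ * x⁻¹ = b * r'⁻¹ := by rw [h6]; group
      rw [h7, inv_mul_cancel_right]
    have hbW : b ∈ W m := by rw [h5]; exact mul_mem (h.XW m hm hmm hyx) hvx
    have hbX : b ∈ X m := h.cent m hm hmm b hbW (h.tX s' hs' b hb)
    apply hb1
    apply h.ind s' hs' m hm _ b hb hbX
    intro h0
    rw [← h0] at hms'
    omega
  -- `τ = 1`
  have hx1 : x = 1 := h.kill120 h6 hs hs' hss hss' h1 hme hw hv hw₁ hx hy hz (by rw [← hff])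
  have hy1 : y = 1 := by
    -- the symmetric element
    have e2 : v * w * v * w * w₁ = y * x * z := by
      have h2 : v * w * v * w = c⁻¹ := by
        rw [hcd, mul_inv_rev, mul_inv_rev, mul_inv_rev, hwi, hvi]
        simp only [mul_assoc]
      have h3 : c⁻¹ * w₁ = f⁻¹ := by
        have h31 : f⁻¹ = (w₁ * c)⁻¹ := by rw [← hcw₁]
        have h32 : (w₁ * c)⁻¹ = c⁻¹ * w₁⁻¹ := mul_inv_rev _ _
        rw [h31, h32, hw₁i]
      have h4 : z⁻¹ = z := inv_of_sq (h.Xsq m hm z hz)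
      have h5 : y⁻¹ = y := inv_of_sq (h.Xsq s' hs' y hy)
      rw [h2, h3, hff, hx1, one_mul, mul_one, mul_inv_rev, h4, h5]
      exact (mXs' z hzW y hy).symm
    exact h.kill120 h6 hs' hs hss' hss h1' ems hv hw hw₁ hy hx hz e2
  rw [hx1, hy1, one_mul, one_mul] at hff
  have e9 : c = z * w₁ := by rw [hcf, hff]
  rw [e9]
  exact mul_mem hzW hw₁

end PatA

end Cfsg.Agent.OddHalf.D7F4

end

-- merged: Cfsg.Agent.OddHalf.D7F4.PatAEnd
section

/-!
# K = F4(q): the pattern "short roots moved, long roots not moved", END (S1765, node D7)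

`PatA.exists_hom` : `t ↦ -1` for a homomorphism `G →* ℤˣ`.
-/

set_option autoImplicit false
set_option linter.unusedSimpArgs false

namespace Cfsg.Agent.OddHalf.D7F4

/-- A generic linear functional on the root system: one positive root per level. -/
structure Level {L : Type*} [AddCommGroup L] (B : L → L → ℤ) (Φ : Set L) (lv : L → ℤ) (M : ℕ) : Prop where
  add : ∀ a b, lv (a + b) = lv a + lv b
  inj : ∀ a ∈ Φ, ∀ b ∈ Φ, 0 < lv a → lv a = lv b → a = b
  le : ∀ a ∈ Φ, lv a ≤ M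
  up : ∀ a ∈ Φ, B a a = 4 → 0 < lv a → lv a = M ∨ ∃ b ∈ Φ, B b b = 4 ∧ 0 < lv b ∧ B b a = -2

/-- The group at level `i` of the family `F` -/
def Lev {L G : Type*} [Group G] (Φ : Set L) (lv : L → ℤ) (F : L → Subgroup G) (i : ℕ) : Subgroup G :=
  ⨆ a : L, ⨆ _ : a ∈ Φ ∧ 0 < lv a ∧ lv a = i, F a

section lev

variable {L G : Type*} [AddCommGroup L] [Group G] {B : L → L → ℤ} {Φ : Set L} {lv : L → ℤ} {M : ℕ}

theorem le_Lev (F : L → Subgroup G) {a : L} (ha : a ∈ Φ) (h0 : 0 < lv a) {i : ℕ} (hi : lv a = i) :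
    F a ≤ Lev Φ lv F i :=
  le_iSup₂_of_le (f := fun a (_ : a ∈ Φ ∧ 0 < lv a ∧ lv a = i) => F a) a ⟨ha, h0, hi⟩ le_rfl

theorem mem_Lev (hl : Level B Φ lv M) {F : L → Subgroup G} {i : ℕ} {v : G} (hv : v ∈ Lev Φ lv F i) :
    v = 1 ∨ ∃ a ∈ Φ, 0 < lv a ∧ lv a = i ∧ v ∈ F a := by
  by_cases hex : ∃ a ∈ Φ, 0 < lv a ∧ lv a = i
  · obtain ⟨a, ha, h0, hi⟩ := hex
    right
    refine ⟨a, ha, h0, hi, ?_⟩
    have hle : Lev Φ lv F i ≤ F a := by
      refine iSup₂_le fun b hb => ?_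
      have : a = b := hl.inj a ha b hb.1 h0 (hi.trans hb.2.2.symm)
      rw [this]
    exact hle hv
  · left
    have hle : Lev Φ lv F i ≤ ⊥ := by
      refine iSup₂_le fun b hb => ?_
      exact absurd ⟨b, hb.1, hb.2.1, hb.2.2⟩ hex
    exact Subgroup.mem_bot.1 (hle hv)

theorem le_N_Lev (F : L → Subgroup G) {a : L} (ha : a ∈ Φ) (h0 : 0 < lv a) {k : ℕ} (hk : (k : ℤ) ≤ lv a) :
    F a ≤ Levels.N (Lev Φ lv F) k := by
  have h1 : lv a = ((lv a).toNat : ℤ) := (Int.toNat_of_nonneg h0.le).symm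
  exact (le_Lev F ha h0 h1).trans (Levels.le_N _ (by omega))

end lev

open Classical in
/-- the doubled groups: `W s` (short), `X r` (long) -/
noncomputable def Wt {L G : Type*} [Group G] (B : L → L → ℤ) (X W : L → Subgroup G) (a : L) : Subgroup G :=
  if B a a = 2 then W a else X a

open Classical in
/-- `X r` for the long roots, `⊥` for the short roots -/
noncomputable def Xl {L G : Type*} [Group G] (B : L → L → ℤ) (X : L → Subgroup G) (a : L) : Subgroup G :=
  if B a a = 2 then ⊥ else X a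

section

variable {L G : Type*} [Group G] {B : L → L → ℤ} {X W : L → Subgroup G} {a : L}

theorem Wt_short (h : B a a = 2) : Wt B X W a = W a := if_pos h
theorem Wt_long (h : B a a = 4) : Wt B X W a = X a := if_neg (by rw [h]; norm_num)
theorem Xl_short (h : B a a = 2) : Xl B X a = ⊥ := if_pos h
theorem Xl_long (h : B a a = 4) : Xl B X a = X a := if_neg (by rw [h]; norm_num)

end

namespace PatA

variable {L G : Type*} [AddCommGroup L] [Group G]
variable {t : G} {B : L → L → ℤ} {Φ : Set L} {X W : L → Subgroup G} {lv : L → ℤ} {M : ℕ}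

theorem X_le_Wt (h : PatA t B Φ X W) {a : L} (ha : a ∈ Φ) : X a ≤ Wt B X W a := by
  rcases h.roots.norm a ha with h1 | h1
  · rw [Wt_short h1]; exact h.XW a ha h1
  · rw [Wt_long h1]

theorem Xl_le_X {a : L} (R : Roots B Φ) (ha : a ∈ Φ) : Xl B X a ≤ X a := by
  rcases R.norm a ha with h1 | h1
  · rw [Xl_short h1]; exact bot_le
  · rw [Xl_long h1]

/-- the commutator relations -/
theorem comm (h : PatA t B Φ X W) (h6 : Sixty B Φ W) (hlv : Level B Φ lv M) {a b : L} (ha : a ∈ Φ) (hb : b ∈ Φ)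
    (ha0 : 0 < lv a) (hb0 : 0 < lv b) {v w : G} (hv : v ∈ Wt B X W a) (hw : w ∈ Wt B X W b) {i j : ℕ}
    (hi : lv a = i) (hj : lv b = j) :
    v * w * v⁻¹ * w⁻¹ ∈ Levels.N (Lev Φ lv (Wt B X W)) (i + j) := by
  have R := h.roots
  have hone : v * w = w * v → v * w * v⁻¹ * w⁻¹ ∈ Levels.N (Lev Φ lv (Wt B X W)) (i + j) := by
    intro h1
    rw [h1, mul_inv_cancel_right, mul_inv_cancel]
    exact one_mem _
  have hin : ∀ c ∈ Φ, ∀ x ∈ Wt B X W c, ((i + j : ℕ) : ℤ) ≤ lv c → x ∈ Levels.N (Lev Φ lv (Wt B X W)) (i + j) := by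
    intro c hc x hx hle
    exact le_N_Lev _ hc (by push_cast at hle; omega) hle hx
  have hopp : a ≠ -b := by
    rintro rfl
    have h1 := hlv.add (-b) b
    rw [neg_add_cancel] at h1
    have h2 := hlv.add (0 : L) 0
    rw [add_zero] at h2
    omega
  -- long - short
  have key : ∀ r ∈ Φ, ∀ s ∈ Φ, 0 < lv r → 0 < lv s → B r r = 4 → B s s = 2 → ∀ x ∈ X r, ∀ w ∈ W s,
      lv r + lv s = (i + j : ℕ) → x * w * x⁻¹ * w⁻¹ ∈ Levels.N (Lev Φ lv (Wt B X W)) (i + j) := by
    intro r hr s hs hr0 hs0 hrr hss x hx w hw hsum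
    by_cases h0 : 0 ≤ B r s
    · have h1 : w * x = x * w := h.WX s hs hss r hr (Or.inl ⟨hrr, h0⟩) w hw x hx
      rw [← h1, mul_inv_cancel_right, mul_inv_cancel]
      exact one_mem _
    · have h1 := R.ls r hr s hs hrr hss
      have h2 : B r s = -2 := by omega
      obtain ⟨hm, hmm, hms, hl, hll⟩ := R.add_ls hr hs hrr hss h2
      obtain ⟨w', hw', z, hz, he⟩ := h.X135 h6 hr hs hrr hss h2 hx hw
      rw [he]
      have h3 := h.ninety h6 hs hm hss hmm (by rw [R.symm]; exact hms) hw hw'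
      have e1 : s + (r + s) = r + s + s := by abel
      rw [e1] at h3
      have h4 : w * z = z * w := h.WX s hs hss _ hl (Or.inl ⟨hll, by rw [R.add_left, hms, hss]; norm_num⟩) w hw z hz
      have e2 : w * w' * z * w⁻¹ = (w * w' * w⁻¹ * w'⁻¹) * w' * z := by
        calc w * w' * z * w⁻¹ = w * w' * (z * w) * w⁻¹ * w⁻¹ := by group
          _ = w * w' * (w * z) * w⁻¹ * w⁻¹ := by rw [h4]
          _ = w * w' * w⁻¹ * (w * w) * z * w⁻¹ * w⁻¹ := by group
          _ = w * w' * w⁻¹ * z * w⁻¹ * w⁻¹ := by rw [h.Wsq s hs hss w hw, mul_one]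
          _ = w * w' * w⁻¹ * z * (w * w)⁻¹ := by group
          _ = w * w' * w⁻¹ * z := by rw [h.Wsq s hs hss w hw, inv_one, mul_one]
          _ = _ := by group
      rw [e2]
      refine mul_mem (mul_mem (hin _ hl _ ?_ ?_) (hin _ hm _ ?_ ?_)) (hin _ hl _ ?_ ?_)
      · rw [Wt_long hll]; exact h3
      · rw [hlv.add, hlv.add]; omega
      · rw [Wt_short hmm]; exact hw'
      · rw [hlv.add]; omega
      · rw [Wt_long hll]; exact hz
      · rw [hlv.add, hlv.add]; omega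
  rcases R.norm a ha with haa | haa <;> rcases R.norm b hb with hbb | hbb
  · -- short, short
    rw [Wt_short haa] at hv
    rw [Wt_short hbb] at hw
    have h1 := R.ss a ha b hb haa hbb
    have h2 := R.ss a ha (-b) (R.neg_mem b hb) haa (by rw [R.neg_left, R.neg_right, hbb]; norm_num)
    rw [R.neg_right] at h2
    have h3 : B a b ≠ -2 := by
      intro h3
      exact hopp (h2.2 (by omega))
    by_cases h4 : B a b = 2
    · have h5 := h1.2 h4
      subst h5
      exact hone (h.Wab ha haa hv hw)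
    by_cases h5 : B a b = 1
    · exact hone (h6 a ha b hb haa hbb h5 v hv w hw)
    by_cases h7 : B a b = 0
    · obtain ⟨hm, hmm⟩ := R.add_90 ha hb haa hbb h7
      refine hin _ hm _ ?_ ?_
      · rw [Wt_long hmm]
        exact h.ninety h6 ha hb haa hbb h7 hv hw
      · rw [hlv.add]; push_cast; omega
    · have h8 : B a b = -1 := by omega
      obtain ⟨hm, hmm, -⟩ := R.add_ss ha hb haa hbb h8
      refine hin _ hm _ ?_ ?_
      · rw [Wt_short hmm]
        exact h.W120 h6 ha hb haa hbb h8 hv hw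
      · rw [hlv.add]; push_cast; omega
  · -- short, long
    rw [Wt_short haa] at hv
    rw [Wt_long hbb] at hw
    have h1 := key b hb a ha hb0 ha0 hbb haa w hw v hv (by push_cast; omega)
    have h2 := inv_mem h1
    have h3 : (w * v * w⁻¹ * v⁻¹)⁻¹ = v * w * v⁻¹ * w⁻¹ := by group
    rwa [h3] at h2
  · -- long, short
    rw [Wt_long haa] at hv
    rw [Wt_short hbb] at hw
    exact key a ha b hb ha0 hb0 haa hbb v hv w hw (by push_cast; omega)
  · -- long, long
    rw [Wt_long haa] at hv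
    rw [Wt_long hbb] at hw
    by_cases h0 : 0 ≤ B a b
    · exact hone (h.X0 a ha b hb h0 v hv w hw)
    · have hm := R.add a ha b hb (by omega) hopp
      have h1 := R.ll a ha b hb haa hbb
      have h2 := R.ll a ha (-b) (R.neg_mem b hb) haa (by rw [R.neg_left, R.neg_right, hbb]; norm_num)
      rw [R.neg_right] at h2
      have h3 : B a b ≠ -4 := by
        intro h3
        exact hopp (h2.2.2 (by omega))
      have h4 : B a b = -2 := by omega
      have hmm : B (a + b) (a + b) = 4 := by rw [R.norm_add, haa, hbb, h4]; norm_num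
      refine hin _ hm _ ?_ ?_
      · rw [Wt_long hmm]
        exact h.X1 a ha b hb (by omega) (by omega) hopp v hv w hw
      · rw [hlv.add]; push_cast; omega

/-- the structure `Lvl` -/
theorem lvl (h : PatA t B Φ X W) (h6 : Sixty B Φ W) (hlv : Level B Φ lv M)
    (hind : ∀ a ∈ Φ, 0 < lv a → ∀ x ∈ X a, x ∈ (⨆ b : L, ⨆ _ : b ∈ Φ ∧ lv a < lv b, X b) → x = 1) :
    Levels.Lvl t (Lev Φ lv (Wt B X W)) (Lev Φ lv X) (Lev Φ lv (Xl B X)) M := by
  have R := h.roots
  have htx : ∀ a ∈ Φ, ∀ x ∈ X a, t * x * t = x := by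
    intro a ha x hx
    rw [h.tX a ha x hx, mul_assoc, h.tt, mul_one]
  constructor
  · exact h.tt
  · rw [eq_bot_iff]
    refine iSup₂_le fun b hb => ?_
    have h1 := hb.2.1
    have h2 := hb.2.2
    push_cast at h2
    omega
  · intro i hi
    rw [eq_bot_iff]
    refine iSup₂_le fun b hb => ?_
    have h1 := hlv.le b hb.1
    have h2 := hb.2.2
    omega
  · intro i v hv
    rcases mem_Lev hlv hv with rfl | ⟨a, ha, h0, hi, hv⟩
    · exact mul_one 1
    · rcases R.norm a ha with h1 | h1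
      · rw [Wt_short h1] at hv; exact h.Wsq a ha h1 v hv
      · rw [Wt_long h1] at hv; exact h.Xsq a ha v hv
  · intro i v hv
    rcases mem_Lev hlv hv with rfl | ⟨a, ha, h0, hi, hv⟩
    · exact one_mem _
    · exact le_Lev _ ha h0 hi (h.X_le_Wt ha hv)
  · intro i v hv
    rcases mem_Lev hlv hv with rfl | ⟨a, ha, h0, hi, hv⟩
    · exact one_mem _
    · exact le_Lev _ ha h0 hi (Xl_le_X R ha hv)
  · intro i v hv htv
    rcases mem_Lev hlv hv with rfl | ⟨a, ha, h0, hi, hv⟩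
    · exact one_mem _
    · rcases R.norm a ha with h1 | h1
      · rw [Wt_short h1] at hv
        refine le_Lev _ ha h0 hi (h.cent a ha h1 v hv ?_)
        calc t * v = t * v * (t * t) := by rw [h.tt, mul_one]
          _ = (t * v * t) * t := by group
          _ = v * t := by rw [htv]
      · rw [Wt_long h1] at hv
        exact le_Lev _ ha h0 hi hv
  · intro i v hv
    rcases mem_Lev hlv hv with rfl | ⟨a, ha, h0, hi, hv⟩
    · rw [mul_one, h.tt]
    · exact htx a ha v hv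
  · intro i v hv
    rcases mem_Lev hlv hv with rfl | ⟨a, ha, h0, hi, hv⟩
    · rw [mul_one, h.tt, inv_one, mul_one]; exact one_mem _
    · rcases R.norm a ha with h1 | h1
      · rw [Wt_short h1] at hv
        exact le_Lev _ ha h0 hi (h.brk a ha h1 v hv)
      · rw [Wt_long h1] at hv
        rw [htx a ha v hv, inv_mul_cancel]; exact one_mem _
  · intro i
    by_cases hex : ∃ a ∈ Φ, 0 < lv a ∧ lv a = i
    · obtain ⟨a, ha, h0, hi⟩ := hex
      rcases R.norm a ha with h1 | h1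
      · right
        constructor
        · rw [eq_bot_iff]
          intro v hv
          rcases mem_Lev hlv hv with rfl | ⟨b, hb, hb0, hbi, hv⟩
          · exact one_mem _
          · have : a = b := hlv.inj a ha b hb h0 (hi.trans hbi.symm)
            subst this
            rwa [Xl_short h1] at hv
        · intro x hx
          rcases mem_Lev hlv hx with rfl | ⟨b, hb, hb0, hbi, hx⟩
          · exact ⟨1, one_mem _, by rw [mul_one, h.tt, inv_one, mul_one]⟩
          · have : a = b := hlv.inj a ha b hb h0 (hi.trans hbi.symm)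
            subst this
            obtain ⟨v, hv, he⟩ := h.surj a ha h1 x hx
            exact ⟨v, le_Lev _ ha h0 hi (by rw [Wt_short h1]; exact hv), he⟩
      · left
        intro v hv
        rcases mem_Lev hlv hv with rfl | ⟨b, hb, hb0, hbi, hv⟩
        · exact one_mem _
        · have : a = b := hlv.inj a ha b hb h0 (hi.trans hbi.symm)
          subst this
          rw [Wt_long h1] at hv
          exact le_Lev _ ha h0 hi (by rw [Xl_long h1]; exact hv)
    · left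
      intro v hv
      rcases mem_Lev hlv hv with rfl | ⟨b, hb, hb0, hbi, hv⟩
      · exact one_mem _
      · exact absurd ⟨b, hb, hb0, hbi⟩ hex
  · intro i j v hv w hw
    rcases mem_Lev hlv hv with rfl | ⟨a, ha, h0, hi, hv⟩
    · rw [one_mul, inv_one, mul_one, mul_inv_cancel]; exact one_mem _
    rcases mem_Lev hlv hw with rfl | ⟨b, hb, hb0, hbi, hw⟩
    · rw [mul_one, mul_inv_cancel, inv_one, mul_one]; exact one_mem _
    exact h.comm h6 hlv ha hb h0 hb0 hv hw hi hbi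
  · intro i j v hv w hw
    rcases mem_Lev hlv hv with rfl | ⟨a, ha, h0, hi, hv⟩
    · rw [one_mul, inv_one, mul_one, mul_inv_cancel]; exact one_mem _
    rcases mem_Lev hlv hw with rfl | ⟨b, hb, hb0, hbi, hw⟩
    · rw [mul_one, mul_inv_cancel, inv_one, mul_one]; exact one_mem _
    rcases R.norm a ha with haa | haa
    · rw [Xl_short haa] at hv
      rw [Subgroup.mem_bot.1 hv, one_mul, inv_one, mul_one, mul_inv_cancel]; exact one_mem _
    rcases R.norm b hb with hbb | hbb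
    · rw [Xl_short hbb] at hw
      rw [Subgroup.mem_bot.1 hw, mul_one, mul_inv_cancel, inv_one, mul_one]; exact one_mem _
    rw [Xl_long haa] at hv
    rw [Xl_long hbb] at hw
    by_cases h1 : 0 ≤ B a b
    · rw [h.X0 a ha b hb h1 v hv w hw, mul_inv_cancel_right, mul_inv_cancel]
      exact one_mem _
    · have hopp : a ≠ -b := by
        rintro rfl
        have h1 := hlv.add (-b) b
        rw [neg_add_cancel] at h1
        have h2 := hlv.add (0 : L) 0
        rw [add_zero] at h2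
        omega
      have hm := R.add a ha b hb (by omega) hopp
      have h2 := R.ll a ha (-b) (R.neg_mem b hb) haa (by rw [R.neg_left, R.neg_right, hbb]; norm_num)
      rw [R.neg_right] at h2
      have h3 := R.ll a ha b hb haa hbb
      have h4 : B a b ≠ -4 := by
        intro h4
        exact hopp (h2.2.2 (by omega))
      have h5 : B a b = -2 := by omega
      have hmm : B (a + b) (a + b) = 4 := by rw [R.norm_add, haa, hbb, h5]; norm_num
      refine le_N_Lev _ hm (by rw [hlv.add]; omega) (by rw [hlv.add]; push_cast; omega) ?_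
      rw [Xl_long hmm]
      exact h.X1 a ha b hb (by omega) (by omega) hopp v hv w hw
  · intro k
    rw [eq_bot_iff]
    rintro x ⟨hx1, hx2⟩
    rcases mem_Lev hlv hx1 with rfl | ⟨a, ha, h0, hi, hx⟩
    · exact one_mem _
    rw [Subgroup.mem_bot]
    apply hind a ha h0 x hx
    have hle : Levels.N (Lev Φ lv X) (k + 1) ≤ ⨆ b : L, ⨆ _ : b ∈ Φ ∧ lv a < lv b, X b := by
      refine iSup₂_le fun i hi' => iSup₂_le fun b hb => ?_
      exact le_iSup₂_of_le (f := fun b (_ : b ∈ Φ ∧ lv a < lv b) => X b) b ⟨hb.1, by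
        have := hb.2.2
        omega⟩ le_rfl
    exact hle hx2

theorem up (h : PatA t B Φ X W) (hlv : Level B Φ lv M) : Levels.Lvl.Up (Lev Φ lv (Xl B X)) M := by
  have R := h.roots
  intro j x hx hx1
  rcases mem_Lev hlv hx with rfl | ⟨a, ha, h0, hi, hx⟩
  · exact absurd rfl hx1
  rcases R.norm a ha with haa | haa
  · rw [Xl_short haa] at hx
    exact absurd (Subgroup.mem_bot.1 hx) hx1
  rw [Xl_long haa] at hx
  rcases hlv.up a ha haa h0 with h1 | ⟨b, hb, hbb, hb0, hba⟩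
  · left
    omega
  · right
    obtain ⟨y, hy, hy1⟩ := h.Xne b hb
    have hne : b ≠ -a := R.ne_neg (by omega)
    have h2 := h.X1 b hb a ha (by omega) (by omega) hne y hy x hx
    have hm := R.add b hb a ha (by omega) hne
    have hmm : B (b + a) (b + a) = 4 := by rw [R.norm_add, haa, hbb, hba]; norm_num
    have hbn : lv b = ((lv b).toNat : ℤ) := (Int.toNat_of_nonneg hb0.le).symm
    refine ⟨(lv b).toNat, by omega, y, le_Lev _ hb hb0 hbn (by rw [Xl_long hbb]; exact hy), ?_, ?_⟩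
    · refine le_Lev _ hm (by rw [hlv.add]; omega) (by rw [hlv.add]; push_cast; omega) ?_
      rw [Xl_long hmm]
      exact h2
    · intro h3
      have h4 : y * x = x * y := mul_inv_eq_iff_eq_mul.1 (mul_inv_eq_one.1 h3)
      rcases h.X1nd b hb a ha (by omega) (by omega) hne y hy x hx h4 with h5 | h5
      · exact hy1 h5
      · exact hx1 h5

/-- **Pattern A, END**: short roots moved, long roots not moved. -/
theorem exists_hom [Finite G] (h : PatA t B Φ X W) (h6 : Sixty B Φ W) (hlv : Level B Φ lv M)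
    (hind : ∀ a ∈ Φ, 0 < lv a → ∀ x ∈ X a, x ∈ (⨆ b : L, ⨆ _ : b ∈ Φ ∧ lv a < lv b, X b) → x = 1)
    (ht : t ∉ ⨆ a : L, ⨆ _ : a ∈ Φ ∧ 0 < lv a, X a)
    (hodd : Odd (((⨆ a : L, ⨆ _ : a ∈ Φ ∧ 0 < lv a, X a) ⊔ Subgroup.zpowers t).relIndex
      (Subgroup.centralizer ({t} : Set G)))) :
    ∃ m : G →* ℤˣ, m t = -1 := by
  have hU : Levels.N (Lev Φ lv X) 1 = ⨆ a : L, ⨆ _ : a ∈ Φ ∧ 0 < lv a, X a := by
    apply le_antisymm
    · refine iSup₂_le fun i hi => iSup₂_le fun a ha => ?_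
      exact le_iSup₂_of_le (f := fun a (_ : a ∈ Φ ∧ 0 < lv a) => X a) a ⟨ha.1, ha.2.1⟩ le_rfl
    · refine iSup₂_le fun a ha => ?_
      exact le_N_Lev _ ha.1 ha.2 (by have := ha.2; omega)
  refine (h.lvl h6 hlv hind).exists_hom (h.up hlv) (by rw [hU]; exact ht) ?_ (by rw [hU]; exact hodd)
  intro x hx g hg
  rcases mem_Lev hlv hx with rfl | ⟨a, ha, h0, hi, hx⟩
  · rfl
  rcases h.roots.norm a ha with haa | haa
  · rw [Xl_short haa] at hx
    exact Subgroup.mem_bot.1 hx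
  rw [Xl_long haa] at hx
  exact h.NM a ha haa x hx g hg

end PatA

end Cfsg.Agent.OddHalf.D7F4

end
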